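import Cfsg.Agent.Chev.F4Two.Tables

/-! # Matrices of degree 52 over three elements -/

set_option autoImplicit false
set_option maxRecDepth 100000
set_option maxHeartbeats 0

namespace Cfsg.Agent.Chev.F4Two

/-- The depths of the pairs in the forest of their orbits. -/
def tabD : ℕ := 0xffffffffffffffffffffffffffffffffffffffffffffffffffffffffffffffffffffffff53ffffffffffffffffffffffffffffffffffffffffffffffffffffffffffffffffffffff4d2fffffffffffffffffffffffffffffffffffffffffffffffffffffffffffffffffffff5134bfffffffffffffffffffffffffffffffffffffffffffffffffffffffffffffffffff491451ffffffffffffffffffffffffffffffffffffffffffffffffffffffffffffffffff4504103fffffffffffffffffffffffffffffffffffffffffffffffffffffffffffffffff3d03cf38dfffffffffffffffffffffffffffffffffffffffffffffffffffffffffffffff4d24544d247fffffffffffffffffffffffffffffffffffffffffffffffffffffffffffff491513411412ffffffffffffffffffffffffffffffffffffffffffffffffffffffffffff45541248f3d147ffffffffffffffffffffffffffffffffffffffffffffffffffffffffff5903d145039040ffffffffffffffffffffffffffffffffffffffffffffffffffffffffff4144d13ce39040f47fffffffffffffffffffffffffffffffffffffffffffffffffffffff54f49038f34f3d038effffffffffffffffffffffffffffffffffffffffffffffffffffff51338f40d30e3ce34d33ffffffffffffffffffffffffffffffffffffffffffffffffffff4d244e34c2ce34c2cd30bfffffffffffffffffffffffffffffffffffffffffffffffffff4504123d1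4103d14103d03ffffffffffffffffffffffffffffffffffffffffffffffffff40f3d140e3cf40e3cf3ce38effffffffffffffffffffffffffffffffffffffffffffffff38f3903ce34e3ce34e38d34d33ffffffffffffffffffffffffffffffffffffffffffffff3d348f4503d03ce40d3ce34e34dfffffffffffffffffffffffffffffffffffffffffffff50e44e4103cf38f34e30d30d38c37fffffffffffffffffffffffffffffffffffffffffff4d234d44f38e38d30d30b2cf30b30bffffffffffffffffffffffffffffffffffffffffff3ce3d038d38f38e38d38d34d30d30d33ffffffffffffffffffffffffffffffffffffffff34e38f34d30e34d34d30c30c30b30b2cbfffffffffffffffffffffffffffffffffffffff38e34f30d34e34d34c30d30b30c2cb30b2ffffffffffffffffffffffffffffffffffffff34d30e2cc30d30c30b2cc2ca2cb28a2ca2bfffffffffffffffffffffffffffffffffffff30d34e30c2cd30c30c2cb2cb2ca2ca28afca2bffffffffffffffffffffffffffffffffff30b30d2ca2cc2cb2ca2ca28a24a24a27f249249fffffffffffffffffffffffffffffffff49148c30e34d34c2cc2ca28e34c2cafcb28b28923fffffffffffffffffffffffffffffff45340b3cb30c2cc28b24a24e34b2bf24c28a249248ffffffffffffffffffffffffffffff5103ca38d28b2892c828920d30cfc920b2ca24a2071bffffffffffffffffffffffffffff2cc2cd30b28b30b28b2ca28a27f28920a249248209209fffffffffffffffffffffffffff2ca28c2c928a2c928a289249fc82091c82482071c820723fffffffffffffffffffffffff28924b20a24920a24920923f2071c62071871881c71c61c6ffffffffffffffffffffffff49140d40f38d30b28c2cafcc2ca30b28c2cb28a24a2481c617ffffffffffffffffffffff45044c3ce34b30b28a27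f24b34c2ca24a24a2481c9207248109fffffffffffffffffffff4123cb3ce30a28b249fc820e28b28824b2492082072062051c81ffffffffffffffffffff4cf38a38d3492482bf2071cd3091c920a2892091c6147187187185ffffffffffffffffff3d140a38d2c9248fca2071cd30a2471892881c91881c51c71861c613ffffffffffffffff48e3c934c30823f1c724618c2cb18814b2081c7207106206145183144fffffffffffffff45034834c2c7fc718614814c2ca1441c920a2471831851c61440851030bfffffffffffff40f38730b2bf1851061441cb28910308a2492081c61441851010c20440c2ffffffffffff28b28a248fcc2ca24920718b28928a2492082071c81c51861492072061c617ffffffffff28924923f1cb28824720614a2092492072071c61871061451081c7186145107fffffffff248208fc718a1c92061471072482072061461471831851031071861451040c617fffffff3ce37f30b2861440c308100b2891440c92081c71820401851061440c3081005103ffffff207fc71c61462451081c31861441c60881c51030871441850c51840c51020c51020bffff1ff1861461051080c70861441431811440870460c41831421040c5084043084043042ffffc61451031440c21c11851030840051010c01821430850440c30811000c20400c200103f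

/-- The parents of the pairs. -/
def tabP : ℕ := 0xafb4000000000000000000000000000000000000000000000000000000000000000000000000000000000000000000000000000000000000000000000000000000000000000000000000000000000000000000006fadbab00000000000000000000000000000000000000000000000000000000000000000000000000000000000000000000000000000000000000000000000000000000000000000000000000000000000000000eeb2b6c6cac0000000000000000000000000000000000000000000000000000000000000000000000000000000000000000000000000000000000000000000000000000000000000000000000000000000000000afaab6aaeaab2a00000000000000000000000000000000000000000000000000000000000000000000000000000000000000000000000000000000000000000000000000000000000000000000000000000000002f7cb9f2d7ca1f207c0000000000000000000000000000000000000000000000000000000000000000000000000000000000000000000000000000000000000000000000000000000000000000000000000000002f78b9e2d78a1e20787de000000000000000000000000000000000000000000000000000000000000000000000000000000000000000000000000000000000000000000000000000000000000000000000000000eea2b686b9db27aaa0b1f2c7800000000000000000000000000000000000000000000000000000000000000000000000000000000000000000000000000000000000000000000000000000000000000000000000ee9eb666ba2b26aa989df277aa2600000000000000000000000000000000000000000000000000000000000000000000000000000000000000000000000000000000000000000000000000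000000000000000000ee96b676b90a26aa9c99f26799e4e7940000000000000000000000000000000000000000000000000000000000000000000000000000000000000000000000000000000000000000000000000000000000000000ee9ab656b8ca25aa9495f25799e3a6959230000000000000000000000000000000000000000000000000000000000000000000000000000000000000000000000000000000000000000000000000000000000000ee8eb646b98a1daa907dd1e77a23a6939632574000000000000000000000000000000000000000000000000000000000000000000000000000000000000000000000000000000000000000000000000000000000ee92b626b94a1caa887dc1e72a22a68899ca58a922000000000000000000000000000000000000000000000000000000000000000000000000000000000000000000000000000000000000000000000000000000ee8ab636b84a1baa8c7db1e6d9e1276f962638475b1c6c00000000000000000000000000000000000000000000000000000000000000000000000000000000000000000000000000000000000000000000000000ee86b616b88a0eaa847ce1e38b0ea68498e253b8e1a2846ce00000000000000000000000000000000000000000000000000000000000000000000000000000000000000000000000000000000000000000000000af7eb5fae7eb1faa7cadf2b7aa1fa67e9dfa57e91fa27e8dfa17c00000000000000000000000000000000000000000000000000000000000000000000000000000000000000000000000000000000000000000006f69b9a6b69b1a6d69a9a69699da686991a636999a656985a626981a00000000000000000000000000000000000000000000000000000000000000000000000000000000000000000000000000000000000000006f65b996b65b196d6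5a9969659d968659196365999656585962658195a64000000000000000000000000000000000000000000000000000000000000000000000000000000000000000000000000000000000000ee72b5d6b77b1caa7491f24799dda67795c63778dca27789ce1727dd5d69759000000000000000000000000000000000000000000000000000000000000000000000000000000000000000000000000000000000ee76b5b6b72b1baa6c8df23799dca66d91ca56e91ba26d85ca16e7db5c697199d6c00000000000000000000000000000000000000000000000000000000000000000000000000000000000000000000000000000ee6eb5c6b51b14aa7089f22799d4685395b63538db6551854223a7dc5a516545d5171400000000000000000000000000000000000000000000000000000000000000000000000000000000000000000000000000af62b58ae62b18aa62ad8a962a18a6629d8a562918a2628d8a1627d8a0627989d626d89c600000000000000000000000000000000000000000000000000000000000000000000000000000000000000000000000af5ab56ae5ab16aa5aad6a95aa16a65a9d6a55a916a25a8d6a15a7d6a05a7969d5a6d69c5a6160000000000000000000000000000000000000000000000000000000000000000000000000000000000000000000ee5fbd7ed5fb17eb5fa57ea5fa17e75f957e65f8d7e45f897e15f817de5f7d7dc5f757db5f6579a58000000000000000000000000000000000000000000000000000000000000000000000000000000000000000af56b55ae56b15aa56ad5a956a15a6569d5a556915a2568d5a1567d5a0567959d566d59c566159654000000000000000000000000000000000000000000000000000000000000000000000000000000000000000ee57bd5ed57b15eb57a55ea57a15e757955e6578d5e457895e15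7815de577d5dc57755db5765500035d59954000000000000000000000000000000000000000000000000000000000000000000000000000000006f41b906b41b106d41a9069419d068419106341990654185062418105a416505d4171054400005e41610574145000000000000000000000000000000000000000000000000000000000000000000000000000000ee52b536b6eb13aa4c7cd1e36a13a64f954a54f8d4a24e8d3a14e7d35b696d99d4e6d30002613964f5d4954f5545b400000000000000000000000000000000000000000000000000000000000000000000000000ee4ab546b4ca0caa507cc1e33a12e74b95225338d21c306cc0e327d45a4d653dc48000db4a61496535d2955355253435120000000000000000000000000000000000000000000000000000000000000000000000ee4eb526b48a0baa487cb1e2d9d2a64898b634874ba2486cb0e2e7d25a4965200026d2544a612964b5d3954b55352424d20c2c000000000000000000000000000000000000000000000000000000000000000000ee43bd0ed43b10eb43a50ea43a10e743950e6438d0e443890e143810de40000dc43750db43650da435d0d8435505643510d2434d0000000000000000000000000000000000000000000000000000000000000000af3eb4fae3eb0faa3eacfa93ea0fa63e9cfa53e90fa23e8cfa13e7cf000278f9d3e6cf9c3e60f963e68f953e64f973e4cf943e48f913c000000000000000000000000000000000000000000000000000000000002f10b842d10a0420107c41e10b04271098425107441c106c40e100002a10a4424108c422106841910604171058415103440c102c4061014400000000000000000000000000000000000000000000000000000000ee3ab4e6b35b0daa3885f21799cda63990d63378cea23984d00027ce5a3564ddc3a6ce543660e963b5ce953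b54e50364ced23948dd03a3ce21100000000000000000000000000000000000000000000000000000ee36b4c6b3ab0caa307d41e52a0ca63394da53290ca230000a1327cc5a3964edc366cc9c3260c96335cd953354d503a4ccd23648cd0363cc141238c0000000000000000000000000000000000000000000000000ee2eb4d6b2bb0baa347d31e4d9cae72f94b632b8cb000388be12e7cd5a2964adc2d70a542a60d96375cb953754b502b50bd22c4cbd02e3cd131134acd2c000000000000000000000000000000000000000000000ee32b4b6b25b09aa2c7d21e499c9a62d9096324000a22d84962267cb5a256495d266cb542660b962f5cc952f54c50264cb5325489d0323cb12113498c2d289000000000000000000000000000000000000000000ee26b4a6b33b09aa287ca1e2ba09a62b94900038c9a22b889e1267ca5a3164cdc266cadb2660a962b5c9952b54950324cad2274c9d0263ca0a133898c2b2c94c2400000000000000000000000000000000000000ee2ab486b2eb08aa207c91e26a08a620000a522908a2228c8a1227c85a2d64b9d226c89c2260896235ca952354a502e4c89422488d02a3c809123888c223488b2228800000000000000000000000000000000000ee22b496b1ca08aa247c81e219c70003948631f8c81c206c80e227c95a1d647dc21707541e60996275c89527548501c348d2202c8d0223c908113474e1f2c8491f2484b1c0000000000000000000000000000000ee1eb476b20a03aa1c7c31e0c000a61f947250f8c7a21c6c30e0e7c75a21648dc1e6c7220e607961f5c7951f54750224c7d21c2c3d01e3c7040c8438c1f2c7120f247881c2030000000000000000000000000000ee17bc5ed17b05eb17a450003a05e717945e6178c5e417885e117805de177c5dc17745db17645da175c5d817545d617505d2174c5d0163c61113385cd1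72c5cc17245ca17205c714000000000000000000000000af12b44ae12b04aa10000a912a04a6129c4a512904a2128c4a1127c4a0127849d126c49c126049612684951264497124c4941248491123c410123848c123448b12284881224487121840000000000000000000006f09b826b09b020001a8269099c268099026309982650984262098025a096425d0970254097c25e09602570944250096c2530948256095424f093424e0928249093024b091c24809182450800000000000000000ee0eb436b0c000aa0c7c71e1d9c3a60f943630f8c3a20d84300027c35a0d643dc0e6c3540e603960f5c3950f543500e4c3d20c000d00e3c307113438c0f2c3490f243880d1c30003143840d0c200000000000000af06b410002b01aa06ac1a906a01a6069c1a506901a2068c1a1067c1a0067819d066c19c066019606681950664197064c1940648191063c190063818c063418b0628188062418706181840614183040000000000ee00000ed03b00eb03a40ea03a00e703940e6038c0e403880e103800de037c0dc03740db03640da035c0d803540d603500d2034c0d003440cf03380cd032c0cc03240ca03200c703140c603100c30308000000000002b406b00a00aa007c01e019c0a6019006300740a2006c00e027c05a0164000026c054026009600000950144050024c00c002c006023c004013408c01280490000088011c00300000840108000020400000000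

/-- The roots of the forest. -/
def roots : List (ℕ × ℕ) := [(0, 1), (0, 3), (0, 6), (0, 10), (0, 24), (0, 29), (3, 7), (3, 18), (3, 33)]

/-- The sparse columns of a generator. -/
def col0 : List (List (ℕ × Bool)) :=
  [[(0, false)],
    [(1, false)],
    [(2, false)],
    [(3, false)],
    [(4, false)],
    [(5, false)],
    [(6, false)],
    [(7, false)],
    [(8, false)],
    [(9, false)],
    [(10, false)],
    [(22, false)],
    [(12, false)],
    [(13, false)],
    [(25, true)],
    [(28, true)],
    [(35, false)],
    [(17, false)],
    [(18, false)],
    [(19, false)],
    [(20, false)],
    [(21, false)],
    [(11, false)],
    [(23, false)],
    [(24, false)],
    [(14, true)],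
    [(26, false)],
    [(27, false)],
    [(15, true)],
    [(29, false)],
    [(0, true), (2, false), (7, true), (19, true), (30, true), (44, true)],
    [(0, true), (3, false), (9, true), (21, true), (31, true), (47, true)],
    [(32, false)],
    [(0, true), (2, false), (8, true), (18, true), (33, true), (44, true)],
    [(0, true), (3, false), (10, true), (20, true), (34, true), (47, true)],
    [(16, false)],
    [(0, true), (6, true), (12, true), (24, true), (36, true), (48, false)],
    [(0, true), (6, true), (13, false), (23, false), (37, true), (48, false)],
    [(0, true), (6, true), (12, true), (27, true), (38, true), (49, false)],
    [(0, true), (6, true), (13, false), (26, false), (39, true), (49, false)],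
    [(43, false)],
    [(41, false)],
    [(42, false)],
    [(40, false)],
    [(44, false)],
    [(2, true), (24, true), (26, false), (44, false), (45, true), (49, true), (51, false)],
    [(2, true), (23, false), (27, true), (44, false), (46, true), (49, true), (51, false)],
    [(47, false)],
    [(48, false)],
    [(49, false)],
    [(0, false), (2, true), (7, false), (42, false), (50, true), (51, false)],
    [(51, false)]]

/-- The sparse columns of a generator. -/
def col1 : List (List (ℕ × Bool)) :=
  [[(0, false)],
    [(1, false)],
    [(2, false)],
    [(3, false)],
    [(4, false)],
    [(5, false)],
    [(6, false)],
    [(7, false)],
    [(8, false)],
    [(9, false)],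
    [(21, false)],
    [(11, false)],
    [(12, false)],
    [(24, true)],
    [(14, false)],
    [(31, true)],
    [(36, false)],
    [(17, false)],
    [(18, false)],
    [(19, false)],
    [(20, false)],
    [(10, false)],
    [(22, false)],
    [(23, false)],
    [(13, true)],
    [(25, false)],
    [(26, false)],
    [(0, true), (2, false), (6, true), (19, true), (27, true), (42, true)],
    [(0, true), (3, false), (9, true), (21, true), (31, true), (47, true)],
    [(29, false)],
    [(30, false)],
    [(15, true)],
    [(0, true), (2, false), (8, true), (17, true), (32, true), (42, true)],
    [(33, false)],
    [(0, true), (3, false), (11, true), (20, true), (21, true), (22, false), (28, false), (31, true), (34, true), (47, true)],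
    [(0, true), (6, true), (12, true), (24, true), (36, true), (48, false)],
    [(16, false)],
    [(0, true), (6, true), (14, false), (23, false), (24, true), (25, false), (35, false), (36, true), (37, true), (48, false)],
    [(0, true), (7, true), (12, true), (30, true), (38, true), (50, false)],
    [(45, false)],
    [(0, true), (7, true), (14, false), (29, false), (40, true), (50, false)],
    [(41, false)],
    [(42, false)],
    [(2, true), (25, true), (29, false), (42, false), (43, true), (50, true), (51, false)],
    [(44, false)],
    [(39, false)],
    [(2, true), (23, false), (30, true), (42, false), (46, true), (50, true), (51, false)],
    [(0, true), (3, false), (9, true), (10, true), (15, false), (28, true)],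
    [(0, false), (6, false), (12, false), (13, true), (16, false), (35, false)],
    [(0, false), (2, true), (6, false), (44, false), (49, true), (51, false)],
    [(50, false)],
    [(51, false)]]

/-- The sparse columns of a generator. -/
def col2 : List (List (ℕ × Bool)) :=
  [[(0, false)],
    [(1, false)],
    [(2, false)],
    [(3, false)],
    [(4, false)],
    [(5, false)],
    [(6, false)],
    [(7, false)],
    [(8, false)],
    [(20, false)],
    [(10, false)],
    [(11, false)],
    [(23, true)],
    [(13, false)],
    [(14, false)],
    [(34, true)],
    [(37, false)],
    [(17, false)],
    [(18, false)],
    [(19, false)],
    [(9, false)],
    [(21, false)],
    [(22, false)],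
    [(12, true)],
    [(24, false)],
    [(25, false)],
    [(0, false), (2, true), (6, false), (18, false), (26, true), (41, false)],
    [(27, false)],
    [(0, true), (3, false), (10, true), (20, true), (34, true), (47, true)],
    [(0, false), (2, true), (7, false), (17, false), (29, true), (41, false)],
    [(30, false)],
    [(0, true), (3, false), (11, true), (20, true), (21, true), (22, false), (28, false), (31, true), (34, true), (47, true)],
    [(32, false)],
    [(33, false)],
    [(15, true)],
    [(0, true), (6, true), (13, false), (23, false), (37, true), (48, false)],
    [(0, true), (6, true), (14, false), (23, false), (24, true), (25, false), (35, false), (36, true), (37, true), (48, false)],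
    [(16, false)],
    [(46, false)],
    [(0, true), (3, false), (7, true), (8, false), (9, false), (10, false), (11, false), (13, false), (20, false), (21, false), (22, true), (23, true), (24, false), (31, true), (33, true), (34, true), (36, false), (37, false), (38, true), (39, false), (40, true), (41, true), (42, true), (43, false), (44, true), (45, false), (46, false), (47, true), (48, true), (49, true), (50, true)],
    [(0, true), (3, false), (7, true), (8, false), (9, false), (10, false), (11, false), (14, false), (20, false), (21, false), (22, true), (23, true), (24, false), (31, true), (32, true), (34, true), (36, false), (37, false), (38, true), (39, true), (40, false), (41, true), (42, true), (43, false), (44, true), (45, false), (46, false), (47, true), (48, true), (49, true), (50, true)],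
    [(41, false)],
    [(42, false)],
    [(2, true), (3, true), (7, false), (8, false), (9, true), (10, true), (11, true), (20, true), (21, true), (22, false), (23, false), (24, true), (25, true), (31, false), (32, true), (34, false), (36, true), (37, true), (38, false), (39, false), (40, false), (41, true), (42, false), (43, false), (44, false), (45, true), (46, true), (47, false), (48, false), (49, false), (50, false), (51, false)],
    [(44, false)],
    [(2, true), (3, true), (7, false), (8, false), (9, true), (10, true), (11, true), (20, true), (21, true), (22, false), (23, false), (24, false), (31, false), (33, true), (34, false), (36, true), (37, true), (38, false), (39, false), (40, false), (41, true), (42, false), (43, true), (44, false), (45, false), (46, true), (47, false), (48, false), (49, false), (50, false), (51, false)],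
    [(38, false)],
    [(0, true), (3, false), (9, true), (10, true), (15, false), (28, true)],
    [(0, false), (6, false), (12, false), (13, true), (16, false), (35, false)],
    [(0, false), (2, true), (6, false), (44, false), (49, true), (51, false)],
    [(0, false), (2, true), (7, false), (42, false), (50, true), (51, false)],
    [(51, false)]]

/-- The sparse columns of a generator. -/
def col3 : List (List (ℕ × Bool)) :=
  [[(1, true)],
    [(0, true)],
    [(0, true), (1, false), (2, true)],
    [(0, true), (1, false), (3, true)],
    [(0, true), (1, false), (4, true)],
    [(0, true), (1, false), (5, true)],
    [(17, true)],
    [(18, true)],
    [(19, true)],
    [(20, true)],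
    [(21, true)],
    [(22, true)],
    [(0, false), (1, false), (2, false), (12, true), (17, true), (18, true), (23, true), (41, true)],
    [(0, true), (1, true), (2, true), (13, true), (17, false), (19, false), (24, true), (42, false)],
    [(0, true), (1, true), (2, true), (14, true), (18, false), (19, false), (25, true), (44, false)],
    [(0, true), (1, true), (3, true), (15, true), (20, false), (21, false), (28, true), (47, false)],
    [(0, false), (1, true), (6, false), (17, true), (18, true), (19, true), (23, true), (24, false), (35, true), (41, true), (42, true), (44, true), (48, true), (51, true)],
    [(6, true)],
    [(7, true)],
    [(8, true)],
    [(9, true)],
    [(10, true)],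
    [(11, true)],
    [(0, true), (1, true), (2, true), (12, true), (17, false), (18, false), (23, true), (41, false)],
    [(0, false), (1, false), (2, false), (13, true), (17, true), (19, true), (24, true), (42, true)],
    [(0, false), (1, false), (2, false), (14, true), (18, true), (19, true), (25, true), (44, true)],
    [(0, true), (1, true), (2, true), (12, true), (17, false), (18, false), (23, false), (26, false), (41, false)],
    [(0, false), (1, false), (2, false), (13, true), (17, true), (19, true), (24, false), (27, false), (42, true)],
    [(0, false), (1, false), (3, false), (15, true), (20, true), (21, true), (28, true), (47, true)],
    [(0, true), (1, true), (2, true), (12, true), (17, false), (18, false), (23, false), (29, false), (41, false)],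
    [(0, false), (1, false), (2, false), (14, true), (18, true), (19, true), (25, false), (30, false), (44, true)],
    [(0, false), (1, false), (3, false), (15, true), (20, true), (21, true), (28, false), (31, false), (47, true)],
    [(0, false), (1, false), (2, false), (13, true), (17, true), (19, true), (24, false), (32, false), (42, true)],
    [(0, false), (1, false), (2, false), (14, true), (18, true), (19, true), (25, false), (33, false), (44, true)],
    [(0, false), (1, false), (3, false), (15, true), (20, true), (21, true), (28, false), (34, false), (47, true)],
    [(0, false), (1, true), (6, false), (16, true), (17, true), (18, true), (19, true), (23, true), (24, false), (41, true), (42, true), (44, true), (48, true), (51, true)],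
    [(0, false), (1, true), (6, false), (16, true), (17, true), (18, true), (19, true), (23, true), (24, false), (35, true), (36, false), (41, true), (42, true), (44, true), (48, true), (51, true)],
    [(0, false), (1, true), (6, false), (16, true), (17, true), (18, true), (19, true), (23, true), (24, false), (35, true), (37, false), (41, true), (42, true), (44, true), (48, true), (51, true)],
    [(0, false), (1, true), (6, false), (16, true), (17, true), (18, true), (19, true), (23, true), (24, false), (35, true), (38, false), (41, true), (42, true), (44, true), (48, true), (51, true)],
    [(0, false), (1, true), (6, false), (16, true), (17, true), (18, true), (19, true), (23, true), (24, false), (35, true), (39, false), (41, true), (42, true), (44, true), (48, true), (51, true)],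
    [(0, false), (1, true), (6, false), (16, true), (17, true), (18, true), (19, true), (23, true), (24, false), (35, true), (40, false), (41, true), (42, true), (44, true), (48, true), (51, true)],
    [(0, false), (2, true), (6, false), (7, false), (12, false), (23, true)],
    [(0, false), (2, true), (6, false), (8, false), (13, true), (24, false)],
    [(0, false), (1, true), (6, false), (16, true), (17, true), (18, true), (19, true), (23, true), (24, false), (35, true), (41, true), (42, true), (43, false), (44, true), (48, true), (51, true)],
    [(0, false), (2, true), (7, false), (8, false), (14, true), (25, false)],
    [(0, false), (1, true), (6, false), (16, true), (17, true), (18, true), (19, true), (23, true), (24, false), (35, true), (41, true), (42, true), (44, true), (45, false), (48, true), (51, true)],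
    [(0, false), (1, true), (6, false), (16, true), (17, true), (18, true), (19, true), (23, true), (24, false), (35, true), (41, true), (42, true), (44, true), (46, false), (48, true), (51, true)],
    [(0, false), (3, true), (9, false), (10, false), (15, true), (28, false)],
    [(1, true), (2, true), (6, false), (12, false), (13, true), (16, false), (17, false), (35, false), (44, false), (48, true), (51, false)],
    [(1, true), (2, true), (6, false), (12, false), (13, true), (16, false), (17, false), (35, false), (44, false), (48, false), (49, false), (51, false)],
    [(1, true), (2, true), (6, true), (7, true), (12, false), (14, true), (16, false), (18, false), (24, true), (25, false), (35, false), (42, false), (48, false), (50, false), (51, false)],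
    [(0, true), (7, true), (8, true), (12, true), (13, false), (14, false), (16, true), (25, true), (35, true), (48, true)]]

/-- The sparse columns of a generator. -/
def col4 : List (List (ℕ × Bool)) :=
  [[(0, false)],
    [(1, false)],
    [(2, false)],
    [(3, false)],
    [(4, false)],
    [(5, false)],
    [(6, false)],
    [(7, false)],
    [(19, false)],
    [(9, false)],
    [(10, false)],
    [(11, false)],
    [(12, false)],
    [(27, true)],
    [(30, true)],
    [(15, false)],
    [(38, false)],
    [(17, false)],
    [(18, false)],
    [(8, false)],
    [(20, false)],
    [(21, false)],
    [(22, false)],
    [(23, false)],
    [(0, true), (2, false), (6, true), (19, true), (27, true), (42, true)],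
    [(0, true), (2, false), (7, true), (19, true), (30, true), (44, true)],
    [(26, false)],
    [(13, true)],
    [(28, false)],
    [(29, false)],
    [(14, true)],
    [(31, false)],
    [(0, true), (2, false), (10, true), (17, true), (19, true), (21, false), (24, false), (27, true), (32, true), (42, true)],
    [(0, true), (2, false), (11, true), (18, true), (19, true), (22, false), (25, false), (30, true), (33, true), (44, true)],
    [(34, false)],
    [(0, true), (6, true), (12, true), (27, true), (38, true), (49, false)],
    [(0, true), (7, true), (12, true), (30, true), (38, true), (50, false)],
    [(46, false)],
    [(16, false)],
    [(0, true), (6, true), (15, false), (26, false), (27, true), (28, false), (35, false), (38, true), (39, true), (49, false)],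
    [(0, true), (7, true), (15, false), (29, false), (30, true), (31, false), (36, false), (38, true), (40, true), (50, false)],
    [(41, false)],
    [(0, true), (2, false), (6, true), (8, true), (13, false), (24, true)],
    [(2, false), (3, false), (7, false), (9, true), (19, false), (21, true), (24, true), (27, false), (28, true), (29, false), (30, false), (31, true), (36, true), (38, false), (42, false), (43, true), (44, false), (47, true), (48, false), (49, true), (50, true), (51, false)],
    [(0, true), (2, false), (7, true), (8, true), (14, false), (25, true)],
    [(2, false), (3, false), (7, false), (9, true), (19, false), (21, true), (24, true), (26, false), (27, false), (30, false), (31, false), (36, true), (38, false), (42, false), (44, false), (45, true), (47, true), (48, false), (49, true), (50, true), (51, false)],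
    [(37, false)],
    [(47, false)],
    [(0, false), (2, true), (6, false), (44, false), (49, true), (51, false)],
    [(0, false), (6, false), (12, false), (13, true), (16, false), (35, false)],
    [(0, false), (7, false), (12, false), (14, true), (16, false), (36, false)],
    [(0, false), (7, false), (8, false), (12, false), (13, true), (14, true), (16, false), (25, false), (35, false), (48, false)]]

/-- The sparse columns of a generator. -/
def col5 : List (List (ℕ × Bool)) :=
  [[(0, false)],
    [(1, false)],
    [(2, false)],
    [(3, false)],
    [(4, false)],
    [(5, false)],
    [(6, false)],
    [(18, false)],
    [(8, false)],
    [(9, false)],
    [(10, false)],
    [(11, false)],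
    [(26, true)],
    [(13, false)],
    [(33, true)],
    [(15, false)],
    [(39, false)],
    [(17, false)],
    [(7, false)],
    [(19, false)],
    [(20, false)],
    [(21, false)],
    [(22, false)],
    [(0, false), (2, true), (6, false), (18, false), (26, true), (41, false)],
    [(24, false)],
    [(0, true), (2, false), (8, true), (18, true), (33, true), (44, true)],
    [(12, true)],
    [(27, false)],
    [(28, false)],
    [(0, false), (2, true), (9, false), (17, false), (18, false), (20, true), (23, false), (26, true), (29, true), (41, false)],
    [(0, true), (2, false), (11, true), (18, true), (19, true), (22, false), (25, false), (30, true), (33, true), (44, true)],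
    [(31, false)],
    [(32, false)],
    [(14, true)],
    [(34, false)],
    [(0, true), (6, true), (13, false), (26, false), (39, true), (49, false)],
    [(45, false)],
    [(0, true), (3, false), (7, true), (8, false), (9, false), (10, false), (11, false), (13, false), (20, false), (21, false), (22, true), (23, true), (24, false), (31, true), (33, true), (34, true), (36, false), (37, false), (38, true), (39, false), (40, true), (41, true), (42, true), (43, false), (44, true), (45, false), (46, false), (47, true), (48, true), (49, true), (50, true)],
    [(0, true), (6, true), (15, false), (26, false), (27, true), (28, false), (35, false), (38, true), (39, true), (49, false)],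
    [(16, false)],
    [(0, true), (3, false), (7, true), (8, false), (9, false), (10, false), (11, false), (15, false), (20, false), (21, false), (22, true), (23, true), (24, false), (31, true), (32, true), (33, true), (36, false), (37, true), (38, true), (39, false), (40, false), (41, true), (42, true), (43, false), (44, true), (45, false), (46, false), (47, true), (48, true), (49, true), (50, true)],
    [(0, true), (2, false), (6, true), (7, true), (12, true), (23, false)],
    [(42, false)],
    [(2, false), (7, false), (8, true), (9, true), (10, false), (11, true), (18, false), (20, false), (21, true), (22, false), (23, true), (24, true), (26, true), (28, true), (31, false), (32, true), (33, false), (36, true), (37, false), (38, false), (39, true), (40, false), (41, true), (42, false), (43, false), (44, true), (45, true), (46, true), (48, true), (50, false), (51, false)],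
    [(0, true), (2, false), (7, true), (8, true), (14, false), (25, true)],
    [(36, false)],
    [(2, false), (7, false), (8, true), (9, true), (10, false), (11, true), (18, false), (20, false), (21, true), (22, false), (23, true), (24, true), (26, true), (27, true), (31, false), (33, false), (34, true), (36, true), (37, false), (38, false), (39, true), (40, false), (41, true), (42, false), (43, true), (44, true), (45, true), (46, false), (48, true), (50, false), (51, false)],
    [(47, false)],
    [(0, false), (2, true), (6, false), (44, false), (49, true), (51, false)],
    [(0, false), (6, false), (12, false), (13, true), (16, false), (35, false)],
    [(0, true), (2, true), (3, false), (6, true), (7, false), (9, true), (11, true), (15, false), (21, true), (22, false), (24, true), (25, false), (26, false), (28, false), (31, false), (33, true), (35, false), (36, true), (39, true), (42, false), (45, true), (47, true), (48, false), (50, true), (51, false)],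
    [(0, false), (7, false), (8, false), (12, false), (13, true), (14, true), (16, false), (25, false), (35, false), (48, false)]]

/-- The sparse columns of a generator. -/
def col6 : List (List (ℕ × Bool)) :=
  [[(0, false)],
    [(1, false)],
    [(2, false)],
    [(3, false)],
    [(4, false)],
    [(5, false)],
    [(17, false)],
    [(7, false)],
    [(8, false)],
    [(9, false)],
    [(10, false)],
    [(11, false)],
    [(29, true)],
    [(32, true)],
    [(14, false)],
    [(15, false)],
    [(40, false)],
    [(6, false)],
    [(18, false)],
    [(19, false)],
    [(20, false)],
    [(21, false)],
    [(22, false)],
    [(0, false), (2, true), (7, false), (17, false), (29, true), (41, false)],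
    [(0, true), (2, false), (8, true), (17, true), (32, true), (42, true)],
    [(25, false)],
    [(0, false), (2, true), (9, false), (17, false), (18, false), (20, true), (23, false), (26, true), (29, true), (41, false)],
    [(0, true), (2, false), (10, true), (17, true), (19, true), (21, false), (24, false), (27, true), (32, true), (42, true)],
    [(28, false)],
    [(12, true)],
    [(30, false)],
    [(31, false)],
    [(13, true)],
    [(33, false)],
    [(34, false)],
    [(43, false)],
    [(0, true), (7, true), (14, false), (29, false), (40, true), (50, false)],
    [(0, true), (3, false), (7, true), (8, false), (9, false), (10, false), (11, false), (14, false), (20, false), (21, false), (22, true), (23, true), (24, false), (31, true), (32, true), (34, true), (36, false), (37, false), (38, true), (39, true), (40, false), (41, true), (42, true), (43, false), (44, true), (45, false), (46, false), (47, true), (48, true), (49, true), (50, true)],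
    [(0, true), (7, true), (15, false), (29, false), (30, true), (31, false), (36, false), (38, true), (40, true), (50, false)],
    [(0, true), (3, false), (7, true), (8, false), (9, false), (10, false), (11, false), (15, false), (20, false), (21, false), (22, true), (23, true), (24, false), (31, true), (32, true), (33, true), (36, false), (37, true), (38, true), (39, false), (40, false), (41, true), (42, true), (43, false), (44, true), (45, false), (46, false), (47, true), (48, true), (49, true), (50, true)],
    [(16, false)],
    [(0, true), (2, false), (6, true), (7, true), (12, true), (23, false)],
    [(0, true), (2, false), (6, true), (8, true), (13, false), (24, true)],
    [(35, false)],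
    [(44, false)],
    [(2, false), (6, true), (7, true), (8, true), (9, true), (10, true), (11, false), (17, false), (20, false), (21, false), (22, true), (23, true), (24, false), (25, false), (28, false), (29, true), (31, true), (32, false), (33, true), (35, false), (36, false), (37, false), (38, false), (39, false), (40, true), (41, true), (42, true), (43, true), (44, false), (45, false), (46, true), (48, true), (49, false), (51, false)],
    [(2, false), (6, true), (7, true), (8, true), (9, true), (10, true), (11, false), (17, false), (20, false), (21, false), (22, true), (23, true), (24, false), (25, false), (28, false), (29, true), (30, true), (32, false), (34, true), (35, false), (36, false), (37, false), (38, false), (39, false), (40, true), (41, true), (42, true), (43, true), (44, false), (45, true), (46, false), (48, true), (49, false), (51, false)],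
    [(47, false)],
    [(0, true), (7, true), (8, true), (14, false), (25, true), (29, false), (32, true), (40, true), (43, true), (51, false)],
    [(0, true), (2, true), (3, false), (9, true), (10, true), (15, false), (28, true), (29, false), (32, true), (40, true), (43, true), (44, false), (47, true), (48, false), (49, true), (51, false)],
    [(0, false), (7, false), (12, false), (14, true), (16, false), (36, false)],
    [(0, false), (7, false), (8, false), (12, false), (13, true), (14, true), (16, false), (25, false), (35, false), (48, false)]]

/-- The sparse columns of a generator. -/
def col7 : List (List (ℕ × Bool)) :=
  [[(2, false)],
    [(0, false), (1, true), (2, false)],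
    [(0, false)],
    [(0, true), (1, true), (2, false), (3, false), (6, true), (17, true)],
    [(0, true), (1, true), (2, false), (4, false), (7, true), (18, true)],
    [(0, true), (1, true), (2, false), (5, false), (8, true), (19, true)],
    [(0, false), (2, false), (6, true)],
    [(0, false), (2, false), (7, true)],
    [(0, false), (2, false), (8, true)],
    [(0, true), (1, false), (9, false), (12, true), (17, false), (18, false), (23, false), (41, false)],
    [(0, true), (1, false), (10, false), (13, false), (17, false), (19, false), (24, true), (42, false)],
    [(0, true), (1, false), (11, false), (14, false), (18, false), (19, false), (25, true), (44, false)],
    [(23, false)],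
    [(24, false)],
    [(25, false)],
    [(0, true), (1, true), (6, false), (15, false), (16, true), (17, true), (18, true), (19, true), (23, true), (24, false), (35, true), (41, true), (42, true), (44, true), (48, true), (51, true)],
    [(0, false), (2, true), (6, true), (16, true), (23, false), (24, true), (35, false), (48, false)],
    [(0, false), (2, false), (17, true)],
    [(0, false), (2, false), (18, true)],
    [(0, false), (2, false), (19, true)],
    [(0, true), (1, false), (12, true), (17, false), (18, false), (20, false), (23, false), (41, false)],
    [(0, true), (1, false), (13, false), (17, false), (19, false), (21, false), (24, true), (42, false)],
    [(0, true), (1, false), (14, false), (18, false), (19, false), (22, false), (25, true), (44, false)],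
    [(12, false)],
    [(13, false)],
    [(14, false)],
    [(0, true), (2, false), (6, true), (18, true), (26, false), (41, true)],
    [(0, false), (2, true), (6, false), (19, false), (27, false), (42, false)],
    [(0, false), (1, false), (6, true), (16, false), (17, false), (18, false), (19, false), (23, false), (24, true), (28, false), (35, false), (41, false), (42, false), (44, false), (48, false), (51, false)],
    [(0, true), (2, false), (7, true), (17, true), (29, false), (41, true)],
    [(0, false), (2, true), (7, false), (19, false), (30, false), (44, false)],
    [(0, false), (1, false), (6, true), (16, false), (17, false), (18, false), (19, false), (23, false), (24, true), (31, false), (35, false), (41, false), (42, false), (44, false), (48, false), (51, false)],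
    [(0, false), (2, true), (8, false), (17, false), (32, false), (42, false)],
    [(0, false), (2, true), (8, false), (18, false), (33, false), (44, false)],
    [(0, false), (1, false), (6, true), (16, false), (17, false), (18, false), (19, false), (23, false), (24, true), (34, false), (35, false), (41, false), (42, false), (44, false), (48, false), (51, false)],
    [(0, false), (2, true), (6, true), (16, false), (23, false), (24, true), (35, true), (48, false)],
    [(0, false), (2, true), (6, true), (16, false), (23, false), (24, true), (35, false), (36, false), (48, false)],
    [(0, false), (2, true), (6, true), (16, false), (23, false), (24, true), (35, false), (37, false), (48, false)],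
    [(0, true), (12, true), (19, false), (23, false), (38, false), (42, false), (44, false), (51, false)],
    [(0, true), (13, false), (18, false), (24, true), (39, false), (41, false), (44, false), (51, false)],
    [(0, true), (14, false), (17, false), (25, true), (40, false), (41, false), (42, false), (51, false)],
    [(0, false), (2, false), (41, true)],
    [(0, false), (2, false), (42, true)],
    [(0, true), (14, false), (17, false), (25, true), (41, false), (42, false), (43, false), (51, false)],
    [(0, false), (2, false), (44, true)],
    [(0, true), (13, false), (18, false), (24, true), (41, false), (44, false), (45, false), (51, false)],
    [(0, true), (12, true), (19, false), (23, false), (42, false), (44, false), (46, false), (51, false)],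
    [(1, false), (6, false), (12, false), (13, true), (16, false), (17, false), (35, false), (44, false), (47, false), (48, false), (51, false)],
    [(0, true), (6, true), (12, true), (13, false), (16, true), (35, true)],
    [(0, true), (2, false), (6, true), (44, true), (49, false), (51, true)],
    [(0, true), (2, false), (7, true), (42, true), (50, false), (51, true)],
    [(0, false), (2, false), (51, true)]]

/-- The sparse columns of a generator. -/
def col8 : List (List (ℕ × Bool)) :=
  [[(0, true)],
    [(1, true)],
    [(2, true)],
    [(3, true)],
    [(4, true)],
    [(0, false), (1, true), (5, false)],
    [(6, true)],
    [(7, true)],
    [(0, true), (2, true), (8, false)],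
    [(9, true)],
    [(0, true), (3, true), (10, false)],
    [(0, true), (4, true), (11, false)],
    [(12, true)],
    [(0, false), (6, true), (13, false)],
    [(0, false), (7, true), (14, false)],
    [(0, false), (9, true), (15, false)],
    [(0, true), (12, false), (16, false)],
    [(17, true)],
    [(18, true)],
    [(0, true), (2, true), (19, false)],
    [(20, true)],
    [(0, true), (3, true), (21, false)],
    [(0, true), (4, true), (22, false)],
    [(23, true)],
    [(0, true), (6, false), (24, false)],
    [(0, true), (7, false), (25, false)],
    [(26, true)],
    [(0, true), (6, false), (27, false)],
    [(0, true), (9, false), (28, false)],
    [(29, true)],
    [(0, true), (7, false), (30, false)],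
    [(0, true), (9, false), (31, false)],
    [(0, true), (17, false), (32, false)],
    [(0, true), (18, false), (33, false)],
    [(0, true), (20, false), (34, false)],
    [(0, true), (12, false), (35, false)],
    [(0, true), (12, false), (36, false)],
    [(0, true), (23, true), (37, false)],
    [(0, true), (12, false), (38, false)],
    [(0, true), (26, true), (39, false)],
    [(0, true), (29, true), (40, false)],
    [(41, true)],
    [(0, true), (2, true), (42, false)],
    [(0, true), (29, true), (43, false)],
    [(0, true), (2, true), (44, false)],
    [(0, true), (26, true), (45, false)],
    [(0, true), (23, true), (46, false)],
    [(0, true), (3, true), (47, false)],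
    [(0, false), (6, true), (48, false)],
    [(0, false), (6, true), (49, false)],
    [(0, false), (7, true), (50, false)],
    [(0, true), (2, true), (51, false)]]

/-- The sparse columns of a generator. -/
def col9 : List (List (ℕ × Bool)) :=
  [[(0, true)],
    [(1, true)],
    [(2, true)],
    [(3, true)],
    [(0, false), (1, true), (4, false)],
    [(5, true)],
    [(6, true)],
    [(0, true), (2, true), (7, false)],
    [(8, true)],
    [(0, true), (3, true), (9, false)],
    [(10, true)],
    [(0, true), (5, true), (11, false)],
    [(0, true), (6, false), (12, false)],
    [(13, true)],
    [(0, false), (8, true), (14, false)],
    [(0, false), (10, true), (15, false)],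
    [(0, true), (13, true), (16, false)],
    [(17, true)],
    [(0, true), (2, true), (18, false)],
    [(19, true)],
    [(0, true), (3, true), (20, false)],
    [(21, true)],
    [(0, true), (5, true), (22, false)],
    [(0, false), (6, true), (23, false)],
    [(24, true)],
    [(0, true), (8, false), (25, false)],
    [(0, false), (6, true), (26, false)],
    [(27, true)],
    [(0, true), (10, false), (28, false)],
    [(0, false), (17, true), (29, false)],
    [(0, true), (19, false), (30, false)],
    [(0, true), (21, false), (31, false)],
    [(32, true)],
    [(0, true), (8, false), (33, false)],
    [(0, true), (10, false), (34, false)],
    [(0, true), (13, true), (35, false)],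
    [(0, true), (24, false), (36, false)],
    [(0, true), (13, true), (37, false)],
    [(0, true), (27, false), (38, false)],
    [(0, true), (13, true), (39, false)],
    [(0, true), (32, false), (40, false)],
    [(0, true), (2, true), (41, false)],
    [(42, true)],
    [(0, true), (32, false), (43, false)],
    [(0, true), (2, true), (44, false)],
    [(0, true), (24, false), (45, false)],
    [(0, true), (27, false), (46, false)],
    [(0, true), (3, true), (47, false)],
    [(0, false), (6, true), (48, false)],
    [(0, false), (6, true), (49, false)],
    [(0, false), (42, true), (50, false)],
    [(0, true), (2, true), (51, false)]]

/-- The sparse columns of a generator. -/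
def col10 : List (List (ℕ × Bool)) :=
  [[(0, true)],
    [(1, true)],
    [(2, true)],
    [(0, false), (1, true), (3, false)],
    [(4, true)],
    [(5, true)],
    [(0, true), (2, true), (6, false)],
    [(7, true)],
    [(8, true)],
    [(0, true), (4, true), (9, false)],
    [(0, true), (5, true), (10, false)],
    [(11, true)],
    [(0, true), (7, false), (12, false)],
    [(0, false), (8, true), (13, false)],
    [(14, true)],
    [(0, false), (11, true), (15, false)],
    [(0, true), (14, true), (16, false)],
    [(0, true), (2, true), (17, false)],
    [(18, true)],
    [(19, true)],
    [(0, true), (4, true), (20, false)],
    [(0, true), (5, true), (21, false)],
    [(22, true)],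
    [(0, false), (7, true), (23, false)],
    [(0, true), (8, false), (24, false)],
    [(25, true)],
    [(0, false), (18, true), (26, false)],
    [(0, true), (19, false), (27, false)],
    [(0, true), (22, false), (28, false)],
    [(0, false), (7, true), (29, false)],
    [(30, true)],
    [(0, true), (11, false), (31, false)],
    [(0, true), (8, false), (32, false)],
    [(33, true)],
    [(0, true), (11, false), (34, false)],
    [(0, true), (25, false), (35, false)],
    [(0, true), (14, true), (36, false)],
    [(0, true), (14, true), (37, false)],
    [(0, true), (30, false), (38, false)],
    [(0, true), (33, false), (39, false)],
    [(0, true), (14, true), (40, false)],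
    [(0, true), (2, true), (41, false)],
    [(0, true), (2, true), (42, false)],
    [(0, true), (25, false), (43, false)],
    [(44, true)],
    [(0, true), (33, false), (45, false)],
    [(0, true), (30, false), (46, false)],
    [(0, false), (1, true), (4, false), (5, false), (11, true), (22, true), (47, false)],
    [(0, true), (2, true), (7, false), (8, false), (14, true), (25, false), (48, false)],
    [(0, false), (44, true), (49, false)],
    [(0, false), (7, true), (50, false)],
    [(0, true), (2, true), (51, false)]]

/-- The sparse columns of a generator. -/
def col11 : List (List (ℕ × Bool)) :=
  [[(3, false)],
    [(0, false), (1, true), (3, false)],
    [(0, true), (1, true), (2, false), (3, false), (6, true), (17, true)],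
    [(0, false)],
    [(0, true), (1, true), (3, false), (4, false), (9, true), (20, true)],
    [(0, true), (1, true), (3, false), (5, false), (10, true), (21, true)],
    [(0, false), (3, false), (6, true)],
    [(0, true), (1, false), (2, true), (3, false), (7, false), (12, true), (17, false), (18, false), (23, false), (41, false)],
    [(0, true), (1, false), (2, true), (3, false), (8, false), (13, false), (17, false), (19, false), (24, true), (42, false)],
    [(0, false), (3, false), (9, true)],
    [(0, false), (3, false), (10, true)],
    [(0, true), (1, false), (11, false), (15, false), (20, false), (21, false), (28, true), (47, false)],
    [(26, false)],
    [(27, false)],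
    [(0, true), (1, true), (6, false), (14, false), (16, true), (17, true), (18, true), (19, true), (23, true), (24, false), (35, true), (41, true), (42, true), (44, true), (48, true), (51, true)],
    [(28, false)],
    [(0, false), (3, true), (6, true), (16, true), (26, false), (27, true), (35, false), (49, false)],
    [(0, false), (3, false), (17, true)],
    [(0, true), (1, false), (2, true), (3, false), (12, true), (17, false), (18, true), (23, false), (41, false)],
    [(0, true), (1, false), (2, true), (3, false), (13, false), (17, false), (19, true), (24, true), (42, false)],
    [(0, false), (3, false), (20, true)],
    [(0, false), (3, false), (21, true)],
    [(0, true), (1, false), (15, false), (20, false), (21, false), (22, false), (28, true), (47, false)],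
    [(0, true), (2, false), (6, true), (18, true), (26, false), (41, true)],
    [(0, false), (2, true), (6, false), (19, false), (27, false), (42, false)],
    [(0, false), (1, false), (6, true), (16, false), (17, false), (18, false), (19, false), (23, false), (24, true), (25, false), (35, false), (41, false), (42, false), (44, false), (48, false), (51, false)],
    [(12, false)],
    [(13, false)],
    [(15, false)],
    [(0, true), (2, false), (9, true), (17, true), (18, true), (20, false), (23, true), (26, false), (29, false), (41, true)],
    [(0, false), (1, false), (6, true), (16, false), (17, false), (18, false), (19, false), (23, false), (24, true), (30, false), (35, false), (41, false), (42, false), (44, false), (48, false), (51, false)],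
    [(0, false), (3, true), (9, false), (21, false), (31, false), (47, false)],
    [(0, false), (2, true), (10, false), (17, false), (19, false), (21, true), (24, true), (27, false), (32, false), (42, false)],
    [(0, false), (1, false), (6, true), (16, false), (17, false), (18, false), (19, false), (23, false), (24, true), (33, false), (35, false), (41, false), (42, false), (44, false), (48, false), (51, false)],
    [(0, false), (3, true), (10, false), (20, false), (34, false), (47, false)],
    [(0, false), (3, true), (6, true), (16, false), (26, false), (27, true), (35, true), (49, false)],
    [(0, true), (2, false), (3, true), (12, true), (19, false), (24, true), (26, false), (27, false), (36, false), (42, false), (44, false), (48, false), (49, true), (51, false)],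
    [(0, true), (2, false), (3, true), (13, false), (18, false), (23, false), (26, true), (27, true), (37, false), (41, false), (44, false), (48, false), (49, true), (51, false)],
    [(0, false), (3, true), (6, true), (16, false), (26, false), (27, true), (35, false), (38, false), (49, false)],
    [(0, false), (3, true), (6, true), (16, false), (26, false), (27, true), (35, false), (39, false), (49, false)],
    [(0, true), (15, false), (17, false), (18, false), (19, false), (20, true), (21, true), (23, false), (24, true), (26, true), (27, false), (28, true), (40, false), (41, false), (42, false), (44, false), (47, true), (48, false), (49, true), (51, false)],
    [(0, true), (1, false), (2, true), (3, false), (12, true), (17, false), (18, false), (23, false), (41, true)],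
    [(0, true), (1, false), (2, true), (3, false), (13, false), (17, false), (19, false), (24, true), (42, true)],
    [(0, true), (15, false), (17, false), (18, false), (19, false), (20, true), (21, true), (23, false), (24, true), (26, true), (27, false), (28, true), (41, false), (42, false), (43, false), (44, false), (47, true), (48, false), (49, true), (51, false)],
    [(1, false), (2, true), (3, false), (6, false), (12, false), (13, true), (16, false), (17, false), (35, false), (44, true), (48, false), (51, false)],
    [(0, true), (2, false), (3, true), (12, true), (19, false), (24, true), (26, false), (27, false), (42, false), (44, false), (45, false), (48, false), (49, true), (51, false)],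
    [(0, true), (2, false), (3, true), (13, false), (18, false), (23, false), (26, true), (27, true), (41, false), (44, false), (46, false), (48, false), (49, true), (51, false)],
    [(0, false), (3, false), (47, true)],
    [(0, true), (2, false), (6, true), (44, true), (49, false), (51, true)],
    [(0, true), (6, true), (12, true), (13, false), (16, true), (35, true)],
    [(0, true), (1, true), (6, false), (16, true), (17, true), (18, true), (19, true), (23, true), (24, false), (35, true), (41, true), (42, true), (44, true), (48, true), (50, false), (51, true)],
    [(1, false), (2, true), (3, false), (6, false), (12, false), (13, true), (16, false), (17, false), (35, false), (44, false), (48, false), (51, true)]]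

/-- The sparse columns of a generator. -/
def col12 : List (List (ℕ × Bool)) :=
  [[(4, false)],
    [(0, false), (1, true), (4, false)],
    [(0, true), (1, true), (2, false), (4, false), (7, true), (18, true)],
    [(0, true), (1, true), (3, false), (4, false), (9, true), (20, true)],
    [(0, false)],
    [(0, true), (1, true), (4, false), (5, false), (11, true), (22, true)],
    [(0, true), (1, false), (2, true), (4, false), (6, false), (12, true), (17, false), (18, false), (23, false), (41, false)],
    [(0, false), (4, false), (7, true)],
    [(0, true), (1, false), (2, true), (4, false), (8, false), (14, false), (18, false), (19, false), (25, true), (44, false)],
    [(0, false), (4, false), (9, true)],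
    [(0, true), (1, false), (3, true), (4, false), (10, false), (15, false), (20, false), (21, false), (28, true), (47, false)],
    [(0, false), (4, false), (11, true)],
    [(29, false)],
    [(0, true), (1, true), (6, false), (13, false), (16, true), (17, true), (18, true), (19, true), (23, true), (24, false), (35, true), (41, true), (42, true), (44, true), (48, true), (51, true)],
    [(30, false)],
    [(31, false)],
    [(0, false), (4, true), (7, true), (16, true), (29, false), (30, true), (36, false), (50, false)],
    [(0, true), (1, false), (2, true), (4, false), (12, true), (17, true), (18, false), (23, false), (41, false)],
    [(0, false), (4, false), (18, true)],
    [(0, true), (1, false), (2, true), (4, false), (14, false), (18, false), (19, true), (25, true), (44, false)],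
    [(0, false), (4, false), (20, true)],
    [(0, true), (1, false), (3, true), (4, false), (15, false), (20, false), (21, true), (28, true), (47, false)],
    [(0, false), (4, false), (22, true)],
    [(0, true), (2, false), (7, true), (17, true), (29, false), (41, true)],
    [(0, false), (1, false), (6, true), (16, false), (17, false), (18, false), (19, false), (23, false), (35, false), (41, false), (42, false), (44, false), (48, false), (51, false)],
    [(0, false), (2, true), (7, false), (19, false), (30, false), (44, false)],
    [(0, true), (2, false), (9, true), (17, true), (18, true), (20, false), (23, true), (26, false), (29, false), (41, true)],
    [(0, false), (1, false), (6, true), (16, false), (17, false), (18, false), (19, false), (23, false), (24, true), (27, false), (35, false), (41, false), (42, false), (44, false), (48, false), (51, false)],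
    [(0, false), (3, true), (9, false), (21, false), (31, false), (47, false)],
    [(12, false)],
    [(14, false)],
    [(15, false)],
    [(0, false), (1, false), (6, true), (16, false), (17, false), (18, false), (19, false), (23, false), (24, true), (32, false), (35, false), (41, false), (42, false), (44, false), (48, false), (51, false)],
    [(0, false), (2, true), (11, false), (18, false), (19, false), (22, true), (25, true), (30, false), (33, false), (44, false)],
    [(0, false), (3, true), (11, false), (20, false), (21, false), (22, true), (28, true), (31, false), (34, false), (47, false)],
    [(0, true), (2, false), (4, true), (6, true), (7, false), (12, true), (19, false), (24, true), (29, false), (30, false), (35, true), (36, true), (42, false), (44, false), (48, false), (50, true), (51, false)],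
    [(0, false), (4, true), (7, true), (16, false), (29, false), (30, true), (36, true), (50, false)],
    [(0, true), (2, false), (4, true), (6, true), (7, false), (14, false), (17, false), (23, false), (24, true), (25, false), (29, true), (30, true), (35, false), (36, true), (37, false), (41, false), (42, false), (48, false), (50, true), (51, false)],
    [(0, false), (4, true), (7, true), (16, false), (29, false), (30, true), (36, false), (38, false), (50, false)],
    [(0, true), (3, false), (4, true), (6, true), (7, false), (15, false), (17, false), (18, false), (19, false), (20, true), (21, true), (23, false), (24, true), (28, false), (29, true), (30, false), (31, false), (35, false), (36, true), (39, false), (41, false), (42, false), (44, false), (47, true), (48, false), (50, true), (51, false)],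
    [(0, false), (4, true), (7, true), (16, false), (29, false), (30, true), (36, false), (40, false), (50, false)],
    [(0, true), (1, false), (2, true), (4, false), (12, true), (17, false), (18, false), (23, false), (41, true)],
    [(1, false), (2, true), (4, false), (6, true), (7, true), (12, false), (14, true), (16, false), (18, false), (24, true), (25, false), (35, false), (42, true), (48, false), (51, false)],
    [(0, true), (2, false), (4, true), (6, true), (7, false), (12, true), (19, false), (24, true), (29, false), (30, false), (35, false), (36, true), (42, false), (43, false), (44, false), (48, false), (50, true), (51, false)],
    [(0, true), (1, false), (2, true), (4, false), (14, false), (18, false), (19, false), (25, true), (44, true)],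
    [(0, true), (3, false), (4, true), (6, true), (7, false), (15, false), (17, false), (18, false), (19, false), (20, true), (21, true), (23, false), (24, true), (28, false), (29, true), (30, false), (31, false), (35, false), (36, true), (41, false), (42, false), (44, false), (45, false), (47, true), (48, false), (50, true), (51, false)],
    [(0, true), (2, false), (4, true), (6, true), (7, false), (14, false), (17, false), (23, false), (24, true), (25, false), (29, true), (30, true), (35, false), (36, true), (41, false), (42, false), (46, false), (48, false), (50, true), (51, false)],
    [(0, true), (1, false), (3, true), (4, false), (15, false), (20, false), (21, false), (28, true), (47, true)],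
    [(0, true), (1, true), (6, false), (16, true), (17, true), (18, true), (19, true), (23, true), (24, false), (35, true), (41, true), (42, true), (44, true), (51, true)],
    [(0, true), (1, true), (6, false), (16, true), (17, true), (18, true), (19, true), (23, true), (24, false), (35, true), (41, true), (42, true), (44, true), (48, true), (49, false), (51, true)],
    [(0, true), (7, true), (12, true), (14, false), (16, true), (36, true)],
    [(1, false), (2, true), (4, false), (6, true), (7, true), (12, false), (14, true), (16, false), (18, false), (24, true), (25, false), (35, false), (42, false), (48, false), (51, true)]]

/-- The sparse columns of a generator. -/
def col13 : List (List (ℕ × Bool)) :=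
  [[(5, false)],
    [(0, false), (1, true), (5, false)],
    [(0, true), (1, true), (2, false), (5, false), (8, true), (19, true)],
    [(0, true), (1, true), (3, false), (5, false), (10, true), (21, true)],
    [(0, true), (1, true), (4, false), (5, false), (11, true), (22, true)],
    [(0, false)],
    [(0, true), (1, false), (2, true), (5, false), (6, false), (13, false), (17, false), (19, false), (24, true), (42, false)],
    [(0, true), (1, false), (2, true), (5, false), (7, false), (14, false), (18, false), (19, false), (25, true), (44, false)],
    [(0, false), (5, false), (8, true)],
    [(0, true), (1, false), (3, true), (5, false), (9, false), (15, false), (20, false), (21, false), (28, true), (47, false)],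
    [(0, false), (5, false), (10, true)],
    [(0, false), (5, false), (11, true)],
    [(0, false), (1, false), (6, true), (12, false), (16, false), (17, false), (18, false), (19, false), (23, false), (24, true), (35, false), (41, false), (42, false), (44, false), (48, false), (51, false)],
    [(32, false)],
    [(33, false)],
    [(34, false)],
    [(0, false), (3, false), (5, true), (7, true), (8, false), (9, false), (10, false), (11, false), (16, true), (20, false), (21, false), (22, true), (23, true), (24, false), (31, true), (32, true), (33, true), (34, true), (36, false), (37, true), (38, true), (39, true), (40, true), (41, true), (42, true), (43, false), (44, true), (45, false), (46, false), (47, true), (48, true), (49, true), (50, true)],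
    [(0, true), (1, false), (2, true), (5, false), (13, false), (17, true), (19, false), (24, true), (42, false)],
    [(0, true), (1, false), (2, true), (5, false), (14, false), (18, true), (19, false), (25, true), (44, false)],
    [(0, false), (5, false), (19, true)],
    [(0, true), (1, false), (3, true), (5, false), (15, false), (20, true), (21, false), (28, true), (47, false)],
    [(0, false), (5, false), (21, true)],
    [(0, false), (5, false), (22, true)],
    [(0, true), (1, true), (6, false), (16, true), (17, true), (18, true), (19, true), (24, false), (35, true), (41, true), (42, true), (44, true), (48, true), (51, true)],
    [(0, false), (2, true), (8, false), (17, false), (32, false), (42, false)],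
    [(0, false), (2, true), (8, false), (18, false), (33, false), (44, false)],
    [(0, true), (1, true), (6, false), (16, true), (17, true), (18, true), (19, true), (23, true), (24, false), (26, false), (35, true), (41, true), (42, true), (44, true), (48, true), (51, true)],
    [(0, false), (2, true), (10, false), (17, false), (19, false), (21, true), (24, true), (27, false), (32, false), (42, false)],
    [(0, false), (3, true), (10, false), (20, false), (34, false), (47, false)],
    [(0, true), (1, true), (6, false), (16, true), (17, true), (18, true), (19, true), (23, true), (24, false), (29, false), (35, true), (41, true), (42, true), (44, true), (48, true), (51, true)],
    [(0, false), (2, true), (11, false), (18, false), (19, false), (22, true), (25, true), (30, false), (33, false), (44, false)],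
    [(0, false), (3, true), (11, false), (20, false), (21, false), (22, true), (28, true), (31, false), (34, false), (47, false)],
    [(13, false)],
    [(14, false)],
    [(15, false)],
    [(0, true), (2, false), (3, true), (5, true), (6, true), (7, false), (8, true), (9, true), (10, true), (11, true), (13, false), (18, false), (20, true), (21, true), (22, false), (23, true), (24, true), (31, false), (32, true), (33, false), (34, false), (35, true), (36, true), (37, false), (38, false), (39, false), (40, false), (41, true), (42, false), (43, true), (44, true), (45, true), (46, true), (47, false), (48, true), (49, false), (50, false), (51, false)],
    [(0, true), (2, false), (3, true), (5, true), (6, true), (7, false), (8, true), (9, true), (10, true), (11, true), (14, false), (17, false), (20, true), (21, true), (22, false), (23, true), (24, false), (25, false), (31, false), (32, false), (33, true), (34, false), (35, false), (37, false), (38, false), (39, false), (40, false), (41, true), (42, true), (43, true), (44, false), (45, true), (46, true), (47, false), (48, true), (49, false), (50, false), (51, false)],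
    [(0, false), (3, false), (5, true), (7, true), (8, false), (9, false), (10, false), (11, false), (16, false), (20, false), (21, false), (22, true), (23, true), (24, false), (31, true), (32, true), (33, true), (34, true), (36, false), (38, true), (39, true), (40, true), (41, true), (42, true), (43, false), (44, true), (45, false), (46, false), (47, true), (48, true), (49, true), (50, true)],
    [(0, true), (5, true), (6, true), (7, false), (8, true), (9, true), (10, true), (11, true), (15, false), (17, false), (18, false), (19, false), (20, false), (21, false), (22, false), (23, true), (24, false), (28, false), (31, false), (32, false), (33, false), (34, true), (35, false), (36, true), (37, false), (38, true), (39, false), (40, false), (41, true), (42, true), (43, true), (44, true), (45, true), (46, true), (48, true), (49, false), (50, false), (51, false)],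
    [(0, false), (3, false), (5, true), (7, true), (8, false), (9, false), (10, false), (11, false), (16, false), (20, false), (21, false), (22, true), (23, true), (24, false), (31, true), (32, true), (33, true), (34, true), (36, false), (37, true), (38, true), (40, true), (41, true), (42, true), (43, false), (44, true), (45, false), (46, false), (47, true), (48, true), (49, true), (50, true)],
    [(0, false), (3, false), (5, true), (7, true), (8, false), (9, false), (10, false), (11, false), (16, false), (20, false), (21, false), (22, true), (23, true), (24, false), (31, true), (32, true), (33, true), (34, true), (36, false), (37, true), (38, true), (39, true), (41, true), (42, true), (43, false), (44, true), (45, false), (46, false), (47, true), (48, true), (49, true), (50, true)],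
    [(1, false), (2, true), (5, false), (6, true), (8, true), (13, true), (14, true), (16, false), (19, false), (23, false), (25, false), (35, false), (41, true), (48, false), (51, false)],
    [(0, true), (1, false), (2, true), (5, false), (13, false), (17, false), (19, false), (24, true), (42, true)],
    [(0, true), (2, false), (3, true), (5, true), (6, true), (7, false), (8, true), (9, true), (10, true), (11, true), (13, false), (18, false), (20, true), (21, true), (22, false), (23, true), (24, true), (31, false), (32, true), (33, false), (34, false), (35, false), (36, true), (37, false), (38, false), (39, false), (40, false), (41, true), (42, false), (44, true), (45, true), (46, true), (47, false), (48, true), (49, false), (50, false), (51, false)],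
    [(0, true), (1, false), (2, true), (5, false), (14, false), (18, false), (19, false), (25, true), (44, true)],
    [(0, true), (2, false), (3, true), (5, true), (6, true), (7, false), (8, true), (9, true), (10, true), (11, true), (14, false), (17, false), (20, true), (21, true), (22, false), (23, true), (24, false), (25, false), (31, false), (32, false), (33, true), (34, false), (35, false), (36, true), (37, false), (38, false), (39, false), (40, false), (41, true), (42, true), (43, true), (44, false), (46, true), (47, false), (48, true), (49, false), (50, false), (51, false)],
    [(0, true), (5, true), (6, true), (7, false), (8, true), (9, true), (10, true), (11, true), (15, false), (17, false), (18, false), (19, false), (20, false), (21, false), (22, false), (23, true), (24, false), (28, false), (31, false), (32, false), (33, false), (34, true), (35, false), (36, true), (37, false), (38, false), (39, false), (40, false), (41, true), (42, true), (43, true), (44, true), (45, true), (48, true), (49, false), (50, false), (51, false)],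
    [(0, true), (1, false), (3, true), (5, false), (15, false), (20, false), (21, false), (28, true), (47, true)],
    [(0, true), (1, true), (6, false), (16, true), (17, true), (18, true), (19, true), (23, true), (24, false), (35, true), (41, true), (42, true), (44, true), (51, true)],
    [(0, true), (1, true), (6, false), (16, true), (17, true), (18, true), (19, true), (23, true), (24, false), (35, true), (41, true), (42, true), (44, true), (48, true), (49, false), (51, true)],
    [(0, true), (1, true), (6, false), (16, true), (17, true), (18, true), (19, true), (23, true), (24, false), (35, true), (41, true), (42, true), (44, true), (48, true), (50, false), (51, true)],
    [(1, false), (2, true), (5, false), (6, true), (8, true), (13, true), (14, true), (16, false), (19, false), (23, false), (25, false), (35, false), (41, false), (48, false), (51, true)]]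

/-- The sparse columns of a generator. -/
def col14 : List (List (ℕ × Bool)) :=
  [[(0, true)],
    [(1, true)],
    [(0, false), (1, true), (2, false)],
    [(3, true)],
    [(4, true)],
    [(5, true)],
    [(0, true), (3, true), (6, false)],
    [(0, true), (4, true), (7, false)],
    [(0, true), (5, true), (8, false)],
    [(9, true)],
    [(10, true)],
    [(11, true)],
    [(0, true), (9, false), (12, false)],
    [(0, false), (10, true), (13, false)],
    [(0, false), (11, true), (14, false)],
    [(15, true)],
    [(0, true), (15, true), (16, false)],
    [(0, true), (3, true), (17, false)],
    [(0, true), (4, true), (18, false)],
    [(0, true), (5, true), (19, false)],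
    [(20, true)],
    [(21, true)],
    [(22, true)],
    [(0, false), (20, true), (23, false)],
    [(0, true), (21, false), (24, false)],
    [(0, true), (22, false), (25, false)],
    [(0, false), (9, true), (26, false)],
    [(0, true), (10, false), (27, false)],
    [(28, true)],
    [(0, false), (9, true), (29, false)],
    [(0, true), (11, false), (30, false)],
    [(31, true)],
    [(0, true), (10, false), (32, false)],
    [(0, true), (11, false), (33, false)],
    [(34, true)],
    [(0, true), (28, false), (35, false)],
    [(0, true), (31, false), (36, false)],
    [(0, true), (34, false), (37, false)],
    [(0, true), (15, true), (38, false)],
    [(0, true), (15, true), (39, false)],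
    [(0, true), (15, true), (40, false)],
    [(0, false), (1, true), (3, false), (4, false), (9, true), (20, true), (41, false)],
    [(0, false), (1, true), (3, false), (5, false), (10, true), (21, true), (42, false)],
    [(0, true), (28, false), (43, false)],
    [(0, false), (1, true), (4, false), (5, false), (11, true), (22, true), (44, false)],
    [(0, true), (31, false), (45, false)],
    [(0, true), (34, false), (46, false)],
    [(47, true)],
    [(0, false), (47, true), (48, false)],
    [(0, true), (3, true), (9, false), (10, false), (15, true), (28, false), (49, false)],
    [(0, true), (4, true), (9, false), (11, false), (15, true), (31, false), (50, false)],
    [(4, true), (5, true), (9, false), (10, false), (11, false), (15, true), (22, false), (28, false), (47, true), (51, false)]]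

/-- The sparse columns of a generator. -/
def col15 : List (List (ℕ × Bool)) :=
  [[(0, false)],
    [(1, false)],
    [(2, false)],
    [(3, false)],
    [(4, false)],
    [(0, false), (1, false), (2, true), (5, true), (8, false), (19, false)],
    [(6, false)],
    [(7, false)],
    [(8, false)],
    [(9, false)],
    [(0, true), (3, false), (6, true), (10, true), (13, false), (27, true)],
    [(0, true), (4, false), (7, true), (11, true), (14, false), (30, true)],
    [(12, false)],
    [(13, false)],
    [(14, false)],
    [(0, false), (9, false), (12, false), (15, true), (16, false), (38, false)],
    [(16, false)],
    [(17, false)],
    [(18, false)],
    [(19, false)],
    [(20, false)],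
    [(2, true), (3, false), (19, false), (21, true), (24, true), (27, false), (42, false)],
    [(2, true), (4, false), (19, false), (22, true), (25, true), (30, false), (44, false)],
    [(23, false)],
    [(24, false)],
    [(25, false)],
    [(26, false)],
    [(27, false)],
    [(6, false), (9, true), (27, false), (28, true), (35, true), (38, false), (49, true)],
    [(29, false)],
    [(30, false)],
    [(7, false), (9, true), (30, false), (31, true), (36, true), (38, false), (50, true)],
    [(0, true), (2, false), (8, true), (17, true), (32, true), (42, true)],
    [(0, true), (2, false), (8, true), (18, true), (33, true), (44, true)],
    [(0, true), (20, true), (23, false), (34, true), (37, true), (46, true)],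
    [(35, false)],
    [(36, false)],
    [(37, false)],
    [(38, false)],
    [(0, true), (6, true), (13, false), (26, false), (39, true), (49, false)],
    [(0, true), (7, true), (14, false), (29, false), (40, true), (50, false)],
    [(41, false)],
    [(42, false)],
    [(2, true), (25, true), (29, false), (42, false), (43, true), (50, true), (51, false)],
    [(44, false)],
    [(2, true), (24, true), (26, false), (44, false), (45, true), (49, true), (51, false)],
    [(46, false)],
    [(2, true), (3, false), (44, false), (47, true), (48, false), (49, true), (51, false)],
    [(48, false)],
    [(49, false)],
    [(50, false)],
    [(51, false)]]

/-- The sparse columns of a generator. -/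
def col16 : List (List (ℕ × Bool)) :=
  [[(0, false)],
    [(1, false)],
    [(2, false)],
    [(3, false)],
    [(0, false), (1, false), (2, true), (4, true), (7, false), (18, false)],
    [(5, false)],
    [(6, false)],
    [(7, false)],
    [(8, false)],
    [(0, true), (3, false), (6, true), (9, true), (12, true), (26, false)],
    [(10, false)],
    [(0, true), (5, false), (8, true), (11, true), (14, false), (33, true)],
    [(12, false)],
    [(13, false)],
    [(14, false)],
    [(0, false), (10, false), (13, true), (15, true), (16, false), (39, false)],
    [(16, false)],
    [(17, false)],
    [(18, false)],
    [(19, false)],
    [(2, true), (3, false), (18, false), (20, true), (23, false), (26, true), (41, false)],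
    [(21, false)],
    [(2, true), (5, false), (18, false), (22, true), (25, true), (33, false), (44, false)],
    [(23, false)],
    [(24, false)],
    [(25, false)],
    [(26, false)],
    [(27, false)],
    [(6, false), (10, true), (26, true), (28, true), (35, true), (39, false), (49, true)],
    [(0, false), (2, true), (7, false), (17, false), (29, true), (41, false)],
    [(0, true), (2, false), (7, true), (19, true), (30, true), (44, true)],
    [(0, true), (21, true), (24, true), (31, true), (36, true), (45, true)],
    [(32, false)],
    [(33, false)],
    [(3, true), (7, false), (8, true), (9, true), (10, false), (11, true), (20, true), (21, true), (22, false), (23, false), (24, true), (31, false), (33, false), (36, true), (37, false), (38, false), (39, true), (40, false), (41, false), (42, false), (43, true), (44, false), (45, true), (46, true), (47, false), (48, false), (49, false), (50, false)],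
    [(35, false)],
    [(36, false)],
    [(37, false)],
    [(0, true), (6, true), (12, true), (27, true), (38, true), (49, false)],
    [(39, false)],
    [(0, true), (3, false), (7, true), (8, false), (9, false), (10, false), (11, false), (14, false), (20, false), (21, false), (22, true), (23, true), (24, false), (31, true), (32, true), (34, true), (36, false), (37, false), (38, true), (39, true), (40, false), (41, true), (42, true), (43, false), (44, true), (45, false), (46, false), (47, true), (48, true), (49, true), (50, true)],
    [(41, false)],
    [(42, false)],
    [(2, true), (3, true), (7, false), (8, false), (9, true), (10, true), (11, true), (20, true), (21, true), (22, false), (23, false), (24, true), (25, true), (31, false), (32, true), (34, false), (36, true), (37, true), (38, false), (39, false), (40, false), (41, true), (42, false), (43, false), (44, false), (45, true), (46, true), (47, false), (48, false), (49, false), (50, false), (51, false)],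
    [(44, false)],
    [(45, false)],
    [(2, true), (23, false), (27, true), (44, false), (46, true), (49, true), (51, false)],
    [(2, true), (3, false), (44, false), (47, true), (48, false), (49, true), (51, false)],
    [(48, false)],
    [(49, false)],
    [(0, false), (2, true), (7, false), (42, false), (50, true), (51, false)],
    [(51, false)]]

/-- The sparse columns of a generator. -/
def col17 : List (List (ℕ × Bool)) :=
  [[(0, false)],
    [(1, false)],
    [(2, false)],
    [(0, false), (1, false), (2, true), (3, true), (6, false), (17, false)],
    [(4, false)],
    [(5, false)],
    [(6, false)],
    [(7, false)],
    [(8, false)],
    [(0, true), (4, false), (7, true), (9, true), (12, true), (29, false)],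
    [(0, true), (5, false), (8, true), (10, true), (13, false), (32, true)],
    [(11, false)],
    [(12, false)],
    [(13, false)],
    [(14, false)],
    [(0, false), (11, false), (14, true), (15, true), (16, false), (40, false)],
    [(16, false)],
    [(17, false)],
    [(18, false)],
    [(19, false)],
    [(2, true), (4, false), (17, false), (20, true), (23, false), (29, true), (41, false)],
    [(2, true), (5, false), (17, false), (21, true), (24, true), (32, false), (42, false)],
    [(22, false)],
    [(23, false)],
    [(24, false)],
    [(25, false)],
    [(0, false), (2, true), (6, false), (18, false), (26, true), (41, false)],
    [(0, true), (2, false), (6, true), (19, true), (27, true), (42, true)],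
    [(0, true), (22, true), (25, true), (28, true), (35, true), (43, true)],
    [(29, false)],
    [(30, false)],
    [(7, false), (11, true), (29, true), (31, true), (36, true), (40, false), (50, true)],
    [(32, false)],
    [(33, false)],
    [(3, true), (7, false), (8, true), (9, true), (10, true), (11, false), (20, true), (21, true), (22, false), (23, false), (24, true), (31, false), (32, false), (36, true), (37, false), (38, false), (39, false), (40, true), (41, false), (42, false), (43, true), (44, false), (45, true), (46, true), (47, false), (48, false), (49, false), (50, false)],
    [(35, false)],
    [(36, false)],
    [(37, false)],
    [(0, true), (7, true), (12, true), (30, true), (38, true), (50, false)],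
    [(0, true), (3, false), (7, true), (8, false), (9, false), (10, false), (11, false), (13, false), (20, false), (21, false), (22, true), (23, true), (24, false), (31, true), (33, true), (34, true), (36, false), (37, false), (38, true), (39, false), (40, true), (41, true), (42, true), (43, false), (44, true), (45, false), (46, false), (47, true), (48, true), (49, true), (50, true)],
    [(40, false)],
    [(41, false)],
    [(42, false)],
    [(43, false)],
    [(44, false)],
    [(2, true), (3, true), (7, false), (8, false), (9, true), (10, true), (11, true), (20, true), (21, true), (22, false), (23, false), (24, false), (31, false), (33, true), (34, false), (36, true), (37, true), (38, false), (39, false), (40, false), (41, true), (42, false), (43, true), (44, false), (45, false), (46, true), (47, false), (48, false), (49, false), (50, false), (51, false)],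
    [(2, true), (23, false), (30, true), (42, false), (46, true), (50, true), (51, false)],
    [(1, false), (2, true), (4, true), (5, true), (11, false), (22, false), (29, false), (32, true), (40, true), (43, true), (47, true), (48, false), (51, false)],
    [(48, false)],
    [(0, false), (2, true), (6, false), (44, false), (49, true), (51, false)],
    [(50, false)],
    [(51, false)]]

/-- The sparse columns of a generator. -/
def col18 : List (List (ℕ × Bool)) :=
  [[(6, true)],
    [(17, true)],
    [(0, true), (2, true), (6, false)],
    [(0, true), (3, true), (6, false)],
    [(0, true), (1, false), (2, true), (4, false), (6, false), (12, true), (17, false), (18, false), (23, false), (41, false)],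
    [(0, true), (1, false), (2, true), (5, false), (6, false), (13, false), (17, false), (19, false), (24, true), (42, false)],
    [(0, true)],
    [(0, false), (2, true), (6, false), (7, false), (12, false), (23, true)],
    [(0, false), (2, true), (6, false), (8, false), (13, true), (24, false)],
    [(0, false), (3, true), (6, false), (9, false), (12, false), (26, true)],
    [(0, false), (3, true), (6, false), (10, false), (13, true), (27, false)],
    [(0, false), (1, true), (6, false), (11, false), (16, true), (17, true), (18, true), (19, true), (23, true), (24, false), (35, true), (41, true), (42, true), (44, true), (48, true), (51, true)],
    [(0, false), (6, true), (12, true)],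
    [(0, true), (6, false), (13, true)],
    [(0, false), (2, false), (14, false), (16, false), (23, false), (24, true), (35, false), (48, false)],
    [(0, false), (3, false), (15, false), (16, false), (26, false), (27, true), (35, false), (49, false)],
    [(35, true)],
    [(1, true)],
    [(41, true)],
    [(42, true)],
    [(2, false), (3, true), (18, true), (20, false), (23, true), (26, false), (41, true)],
    [(2, false), (3, true), (19, true), (21, false), (24, false), (27, true), (42, true)],
    [(0, false), (1, true), (6, false), (16, true), (17, true), (18, true), (19, true), (22, false), (23, true), (24, false), (35, true), (41, true), (42, true), (44, true), (48, true), (51, true)],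
    [(0, true), (6, false), (23, true)],
    [(0, false), (6, true), (24, true)],
    [(0, true), (2, true), (16, true), (23, true), (24, false), (25, false), (35, true), (48, true)],
    [(0, true), (6, false), (26, true)],
    [(0, false), (6, true), (27, true)],
    [(0, true), (3, true), (16, true), (26, true), (27, false), (28, false), (35, true), (49, true)],
    [(0, true), (1, false), (2, true), (6, false), (12, true), (17, false), (18, false), (23, false), (29, false), (41, false)],
    [(0, false), (2, false), (6, true), (12, false), (19, true), (23, true), (30, false), (42, true), (44, true), (51, true)],
    [(0, false), (2, true), (3, true), (6, true), (12, false), (19, true), (24, false), (26, true), (27, true), (31, false), (42, true), (44, true), (48, true), (49, false), (51, true)],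
    [(0, false), (1, true), (2, false), (6, true), (13, true), (17, true), (19, true), (24, false), (32, false), (42, true)],
    [(0, false), (2, false), (6, true), (13, true), (18, true), (24, false), (33, false), (41, true), (44, true), (51, true)],
    [(0, false), (2, true), (3, true), (6, true), (13, true), (18, true), (23, true), (26, false), (27, false), (34, false), (41, true), (44, true), (48, true), (49, false), (51, true)],
    [(16, true)],
    [(0, false), (6, false), (12, false), (24, false), (36, false), (48, true)],
    [(0, false), (6, false), (13, true), (23, true), (37, false), (48, true)],
    [(0, false), (6, false), (12, false), (27, false), (38, false), (49, true)],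
    [(0, false), (6, false), (13, true), (26, true), (39, false), (49, true)],
    [(0, false), (1, true), (6, false), (16, true), (17, true), (18, true), (19, true), (23, true), (24, false), (35, true), (40, false), (41, true), (42, true), (44, true), (48, true), (51, true)],
    [(18, true)],
    [(19, true)],
    [(0, false), (1, true), (6, false), (16, true), (17, true), (18, true), (19, true), (23, true), (24, false), (35, true), (41, true), (42, true), (43, false), (44, true), (48, true), (51, true)],
    [(51, true)],
    [(2, false), (24, false), (26, true), (44, true), (45, false), (49, false), (51, true)],
    [(2, false), (23, true), (27, false), (44, true), (46, false), (49, false), (51, true)],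
    [(2, false), (3, true), (44, true), (47, false), (48, true), (49, false), (51, true)],
    [(0, true), (6, false), (48, true)],
    [(0, true), (6, false), (49, true)],
    [(0, true), (2, true), (6, false), (12, true), (19, false), (23, false), (42, false), (44, false), (50, false), (51, false)],
    [(44, true)]]

/-- The sparse columns of a generator. -/
def col19 : List (List (ℕ × Bool)) :=
  [[(7, true)],
    [(18, true)],
    [(0, true), (2, true), (7, false)],
    [(0, true), (1, false), (2, true), (3, false), (7, false), (12, true), (17, false), (18, false), (23, false), (41, false)],
    [(0, true), (4, true), (7, false)],
    [(0, true), (1, false), (2, true), (5, false), (7, false), (14, false), (18, false), (19, false), (25, true), (44, false)],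
    [(0, false), (2, true), (6, false), (7, false), (12, false), (23, true)],
    [(0, true)],
    [(0, false), (2, true), (7, false), (8, false), (14, true), (25, false)],
    [(0, false), (4, true), (7, false), (9, false), (12, false), (29, true)],
    [(0, false), (1, true), (6, false), (10, false), (16, true), (17, true), (18, true), (19, true), (23, true), (24, false), (35, true), (41, true), (42, true), (44, true), (48, true), (51, true)],
    [(0, false), (4, true), (7, false), (11, false), (14, true), (30, false)],
    [(0, false), (7, true), (12, true)],
    [(0, false), (2, false), (6, true), (7, false), (13, false), (16, false), (23, false), (24, true), (35, false), (48, false)],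
    [(0, true), (7, false), (14, true)],
    [(0, false), (4, false), (15, false), (16, false), (29, false), (30, true), (36, false), (50, false)],
    [(36, true)],
    [(41, true)],
    [(1, true)],
    [(44, true)],
    [(2, false), (4, true), (17, true), (20, false), (23, true), (29, false), (41, true)],
    [(0, false), (1, true), (6, false), (16, true), (17, true), (18, true), (19, true), (21, false), (23, true), (24, false), (35, true), (41, true), (42, true), (44, true), (48, true), (51, true)],
    [(2, false), (4, true), (19, true), (22, false), (25, false), (30, true), (44, true)],
    [(0, true), (7, false), (23, true)],
    [(0, true), (2, true), (6, false), (7, true), (16, true), (23, true), (24, true), (35, true), (48, true)],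
    [(0, false), (7, true), (25, true)],
    [(0, true), (1, false), (2, true), (7, false), (12, true), (17, false), (18, false), (23, false), (26, false), (41, false)],
    [(0, false), (2, false), (7, true), (12, false), (19, true), (23, true), (27, false), (42, true), (44, true), (51, true)],
    [(0, false), (2, true), (4, true), (6, false), (7, false), (12, false), (19, true), (24, false), (28, false), (29, true), (30, true), (35, true), (36, false), (42, true), (44, true), (48, true), (50, false), (51, true)],
    [(0, true), (7, false), (29, true)],
    [(0, false), (7, true), (30, true)],
    [(0, true), (4, true), (16, true), (29, true), (30, false), (31, false), (36, true), (50, true)],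
    [(0, false), (2, false), (7, true), (14, true), (17, true), (25, false), (32, false), (41, true), (42, true), (51, true)],
    [(0, false), (1, true), (2, false), (7, true), (14, true), (18, true), (19, true), (25, false), (33, false), (44, true)],
    [(0, false), (2, true), (4, true), (6, false), (7, false), (14, true), (17, true), (23, true), (24, false), (25, true), (29, false), (30, false), (34, false), (35, true), (36, false), (41, true), (42, true), (48, true), (50, false), (51, true)],
    [(0, false), (6, false), (12, false), (24, false), (36, false), (48, true)],
    [(16, true)],
    [(0, false), (6, false), (14, true), (23, true), (24, false), (25, true), (35, true), (36, false), (37, false), (48, true)],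
    [(0, false), (7, false), (12, false), (30, false), (38, false), (50, true)],
    [(0, false), (1, true), (6, false), (16, true), (17, true), (18, true), (19, true), (23, true), (24, false), (35, true), (39, false), (41, true), (42, true), (44, true), (48, true), (51, true)],
    [(0, false), (7, false), (14, true), (29, true), (40, false), (50, true)],
    [(17, true)],
    [(51, true)],
    [(2, false), (25, false), (29, true), (42, true), (43, false), (50, false), (51, true)],
    [(19, true)],
    [(0, false), (1, true), (6, false), (16, true), (17, true), (18, true), (19, true), (23, true), (24, false), (35, true), (41, true), (42, true), (44, true), (45, false), (48, true), (51, true)],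
    [(2, false), (23, true), (30, false), (42, true), (46, false), (50, false), (51, true)],
    [(0, false), (1, true), (6, false), (16, true), (17, true), (18, true), (19, true), (23, true), (24, false), (35, true), (41, true), (42, true), (44, true), (47, false), (48, true), (51, true)],
    [(0, false), (2, false), (6, true), (7, false), (16, false), (23, false), (24, true), (35, false), (48, true)],
    [(0, true), (2, true), (7, false), (12, true), (19, false), (23, false), (42, false), (44, false), (49, false), (51, false)],
    [(0, true), (7, false), (50, true)],
    [(42, true)]]

/-- The sparse columns of a generator. -/
def col20 : List (List (ℕ × Bool)) :=
  [[(8, true)],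
    [(19, true)],
    [(0, true), (2, true), (8, false)],
    [(0, true), (1, false), (2, true), (3, false), (8, false), (13, false), (17, false), (19, false), (24, true), (42, false)],
    [(0, true), (1, false), (2, true), (4, false), (8, false), (14, false), (18, false), (19, false), (25, true), (44, false)],
    [(0, true), (5, true), (8, false)],
    [(0, false), (2, true), (6, false), (8, false), (13, true), (24, false)],
    [(0, false), (2, true), (7, false), (8, false), (14, true), (25, false)],
    [(0, true)],
    [(0, false), (1, true), (6, false), (9, false), (16, true), (17, true), (18, true), (19, true), (23, true), (24, false), (35, true), (41, true), (42, true), (44, true), (48, true), (51, true)],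
    [(0, false), (5, true), (8, false), (10, false), (13, true), (32, false)],
    [(0, false), (5, true), (8, false), (11, false), (14, true), (33, false)],
    [(0, true), (2, true), (6, false), (8, true), (12, false), (16, true), (23, true), (24, false), (35, true), (48, true)],
    [(0, true), (8, false), (13, true)],
    [(0, true), (8, false), (14, true)],
    [(0, false), (3, false), (5, false), (7, true), (8, true), (9, false), (10, false), (11, false), (15, false), (16, false), (20, false), (21, false), (22, true), (23, true), (24, false), (31, true), (32, true), (33, true), (34, true), (36, false), (37, true), (38, true), (39, true), (40, true), (41, true), (42, true), (43, false), (44, true), (45, false), (46, false), (47, true), (48, true), (49, true), (50, true)],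
    [(37, true)],
    [(42, true)],
    [(44, true)],
    [(1, true)],
    [(0, false), (1, true), (6, false), (16, true), (17, true), (18, true), (19, true), (20, false), (23, true), (24, false), (35, true), (41, true), (42, true), (44, true), (48, true), (51, true)],
    [(2, false), (5, true), (17, true), (21, false), (24, false), (32, true), (42, true)],
    [(2, false), (5, true), (18, true), (22, false), (25, false), (33, true), (44, true)],
    [(0, false), (2, false), (6, true), (8, false), (16, false), (23, true), (24, true), (35, false), (48, false)],
    [(0, false), (8, true), (24, true)],
    [(0, false), (8, true), (25, true)],
    [(0, true), (2, true), (8, false), (13, false), (18, false), (24, true), (26, false), (41, false), (44, false), (51, false)],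
    [(0, false), (1, true), (2, false), (8, true), (13, true), (17, true), (19, true), (24, false), (27, false), (42, true)],
    [(0, false), (2, true), (3, false), (5, true), (6, false), (7, true), (9, false), (10, false), (11, false), (13, true), (18, true), (20, false), (21, false), (22, true), (23, false), (24, false), (28, false), (31, true), (32, false), (33, true), (34, true), (35, true), (36, false), (37, true), (38, true), (39, true), (40, true), (41, false), (42, true), (43, false), (44, false), (45, false), (46, false), (47, true), (48, false), (49, true), (50, true), (51, true)],
    [(0, true), (2, true), (8, false), (14, false), (17, false), (25, true), (29, false), (41, false), (42, false), (51, false)],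
    [(0, false), (1, true), (2, false), (8, true), (14, true), (18, true), (19, true), (25, false), (30, false), (44, true)],
    [(0, false), (2, true), (3, false), (5, true), (6, false), (7, true), (9, false), (10, false), (11, false), (14, true), (17, true), (20, false), (21, false), (22, true), (23, false), (24, true), (25, true), (32, true), (33, false), (34, true), (35, true), (36, false), (37, true), (38, true), (39, true), (40, true), (41, false), (42, false), (43, false), (44, true), (45, false), (46, false), (47, true), (48, false), (49, true), (50, true), (51, true)],
    [(0, false), (8, true), (32, true)],
    [(0, false), (8, true), (33, true)],
    [(0, true), (3, true), (5, true), (7, false), (8, false), (9, true), (10, true), (11, true), (16, true), (20, true), (21, true), (22, false), (23, false), (24, true), (31, false), (32, false), (33, false), (34, true), (36, true), (37, false), (38, false), (39, false), (40, false), (41, false), (42, false), (43, true), (44, false), (45, true), (46, true), (47, false), (48, false), (49, false), (50, false)],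
    [(0, false), (6, false), (13, true), (23, true), (37, false), (48, true)],
    [(0, false), (6, false), (14, true), (23, true), (24, false), (25, true), (35, true), (36, false), (37, false), (48, true)],
    [(16, true)],
    [(0, false), (1, true), (6, false), (16, true), (17, true), (18, true), (19, true), (23, true), (24, false), (35, true), (38, false), (41, true), (42, true), (44, true), (48, true), (51, true)],
    [(0, false), (3, true), (7, false), (8, true), (9, true), (10, true), (11, true), (13, true), (20, true), (21, true), (22, false), (23, false), (24, true), (31, false), (33, false), (34, false), (36, true), (37, true), (38, false), (39, true), (40, false), (41, false), (42, false), (43, true), (44, false), (45, true), (46, true), (47, false), (48, false), (49, false), (50, false)],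
    [(0, false), (3, true), (7, false), (8, true), (9, true), (10, true), (11, true), (14, true), (20, true), (21, true), (22, false), (23, false), (24, true), (31, false), (32, false), (34, false), (36, true), (37, true), (38, false), (39, false), (40, true), (41, false), (42, false), (43, true), (44, false), (45, true), (46, true), (47, false), (48, false), (49, false), (50, false)],
    [(51, true)],
    [(17, true)],
    [(2, false), (3, false), (7, true), (8, true), (9, false), (10, false), (11, false), (20, false), (21, false), (22, true), (23, true), (24, false), (25, false), (31, true), (32, false), (34, true), (36, false), (37, false), (38, true), (39, true), (40, true), (41, false), (42, true), (43, true), (44, true), (45, false), (46, false), (47, true), (48, true), (49, true), (50, true), (51, true)],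
    [(18, true)],
    [(2, false), (3, false), (7, true), (8, true), (9, false), (10, false), (11, false), (20, false), (21, false), (22, true), (23, true), (24, true), (31, true), (33, false), (34, true), (36, false), (37, false), (38, true), (39, true), (40, true), (41, false), (42, true), (43, false), (44, true), (45, true), (46, false), (47, true), (48, true), (49, true), (50, true), (51, true)],
    [(0, false), (1, true), (6, false), (16, true), (17, true), (18, true), (19, true), (23, true), (24, false), (35, true), (41, true), (42, true), (44, true), (46, false), (48, true), (51, true)],
    [(0, false), (1, true), (6, false), (16, true), (17, true), (18, true), (19, true), (23, true), (24, false), (35, true), (41, true), (42, true), (44, true), (47, false), (48, true), (51, true)],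
    [(0, false), (2, false), (6, true), (8, false), (16, false), (23, false), (24, true), (35, false), (48, true)],
    [(0, true), (2, true), (8, false), (13, false), (18, false), (24, true), (41, false), (44, false), (49, false), (51, false)],
    [(0, true), (2, true), (8, false), (14, false), (17, false), (25, true), (41, false), (42, false), (50, false), (51, false)],
    [(41, true)]]

/-- The sparse columns of a generator. -/
def col21 : List (List (ℕ × Bool)) :=
  [[(0, false)],
    [(1, false)],
    [(2, false)],
    [(3, false)],
    [(4, false)],
    [(0, false), (1, false), (3, true), (5, true), (10, false), (21, false)],
    [(6, false)],
    [(7, false)],
    [(0, true), (2, false), (6, true), (8, true), (13, false), (24, true)],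
    [(9, false)],
    [(10, false)],
    [(0, true), (4, false), (9, true), (11, true), (15, false), (31, true)],
    [(12, false)],
    [(13, false)],
    [(0, false), (7, false), (12, false), (14, true), (16, false), (36, false)],
    [(15, false)],
    [(16, false)],
    [(17, false)],
    [(18, false)],
    [(42, false)],
    [(20, false)],
    [(21, false)],
    [(3, true), (4, false), (21, false), (22, true), (28, true), (31, false), (47, false)],
    [(23, false)],
    [(24, false)],
    [(6, false), (7, true), (24, false), (25, true), (35, true), (36, false), (48, true)],
    [(26, false)],
    [(27, false)],
    [(28, false)],
    [(29, false)],
    [(50, true)],
    [(31, false)],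
    [(0, true), (2, false), (10, true), (17, true), (19, true), (21, false), (24, false), (27, true), (32, true), (42, true)],
    [(0, true), (18, true), (26, false), (33, true), (39, true), (45, true)],
    [(0, true), (3, false), (10, true), (20, true), (34, true), (47, true)],
    [(35, false)],
    [(36, false)],
    [(0, true), (6, true), (13, false), (23, false), (37, true), (48, false)],
    [(38, false)],
    [(39, false)],
    [(0, true), (7, true), (15, false), (29, false), (30, true), (31, false), (36, false), (38, true), (40, true), (50, false)],
    [(41, false)],
    [(19, false)],
    [(2, false), (3, false), (7, false), (9, true), (19, false), (21, true), (24, true), (27, false), (28, true), (29, false), (30, false), (31, true), (36, true), (38, false), (42, false), (43, true), (44, false), (47, true), (48, false), (49, true), (50, true), (51, false)],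
    [(51, false)],
    [(45, false)],
    [(2, true), (23, false), (27, true), (44, false), (46, true), (49, true), (51, false)],
    [(47, false)],
    [(48, false)],
    [(49, false)],
    [(30, true)],
    [(44, false)]]

/-- The sparse columns of a generator. -/
def col22 : List (List (ℕ × Bool)) :=
  [[(0, false)],
    [(1, false)],
    [(2, false)],
    [(3, false)],
    [(4, false)],
    [(0, false), (1, false), (4, true), (5, true), (11, false), (22, false)],
    [(6, false)],
    [(7, false)],
    [(0, true), (2, false), (7, true), (8, true), (14, false), (25, true)],
    [(9, false)],
    [(0, true), (3, false), (9, true), (10, true), (15, false), (28, true)],
    [(11, false)],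
    [(12, false)],
    [(0, false), (6, false), (12, false), (13, true), (16, false), (35, false)],
    [(14, false)],
    [(15, false)],
    [(16, false)],
    [(17, false)],
    [(18, false)],
    [(44, false)],
    [(20, false)],
    [(47, false)],
    [(22, false)],
    [(23, false)],
    [(48, true)],
    [(25, false)],
    [(26, false)],
    [(49, true)],
    [(28, false)],
    [(29, false)],
    [(30, false)],
    [(31, false)],
    [(0, true), (17, true), (29, false), (32, true), (40, true), (43, true)],
    [(0, true), (2, false), (11, true), (18, true), (19, true), (22, false), (25, false), (30, true), (33, true), (44, true)],
    [(0, true), (3, false), (11, true), (20, true), (21, true), (22, false), (28, false), (31, true), (34, true), (47, true)],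
    [(35, false)],
    [(36, false)],
    [(0, true), (6, true), (14, false), (23, false), (24, true), (25, false), (35, false), (36, true), (37, true), (48, false)],
    [(38, false)],
    [(0, true), (6, true), (15, false), (26, false), (27, true), (28, false), (35, false), (38, true), (39, true), (49, false)],
    [(40, false)],
    [(41, false)],
    [(51, false)],
    [(43, false)],
    [(19, false)],
    [(2, false), (3, false), (7, false), (9, true), (19, false), (21, true), (24, true), (26, false), (27, false), (30, false), (31, false), (36, true), (38, false), (42, false), (44, false), (45, true), (47, true), (48, false), (49, true), (50, true), (51, false)],
    [(2, true), (23, false), (30, true), (42, false), (46, true), (50, true), (51, false)],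
    [(21, false)],
    [(24, true)],
    [(27, true)],
    [(50, false)],
    [(42, false)]]

/-- The sparse columns of a generator. -/
def col23 : List (List (ℕ × Bool)) :=
  [[(0, false)],
    [(1, false)],
    [(2, false)],
    [(3, false)],
    [(0, false), (1, false), (3, true), (4, true), (9, false), (20, false)],
    [(5, false)],
    [(6, false)],
    [(0, true), (2, false), (6, true), (7, true), (12, true), (23, false)],
    [(8, false)],
    [(9, false)],
    [(10, false)],
    [(0, true), (5, false), (10, true), (11, true), (15, false), (34, true)],
    [(12, false)],
    [(13, false)],
    [(0, false), (8, false), (13, true), (14, true), (16, false), (37, false)],
    [(15, false)],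
    [(16, false)],
    [(17, false)],
    [(41, false)],
    [(19, false)],
    [(20, false)],
    [(21, false)],
    [(3, true), (5, false), (20, false), (22, true), (28, true), (34, false), (47, false)],
    [(23, false)],
    [(24, false)],
    [(6, false), (8, true), (23, true), (25, true), (35, true), (37, false), (48, true)],
    [(26, false)],
    [(27, false)],
    [(28, false)],
    [(0, false), (2, true), (9, false), (17, false), (18, false), (20, true), (23, false), (26, true), (29, true), (41, false)],
    [(0, true), (19, true), (27, true), (30, true), (38, true), (46, true)],
    [(0, true), (3, false), (9, true), (21, true), (31, true), (47, true)],
    [(32, false)],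
    [(3, true), (7, false), (8, false), (9, true), (10, true), (11, true), (20, true), (21, true), (22, false), (23, false), (24, true), (31, false), (34, false), (36, true), (37, true), (38, false), (39, false), (40, false), (41, false), (42, false), (43, true), (44, false), (45, true), (46, true), (47, false), (48, false), (49, false), (50, false)],
    [(34, false)],
    [(35, false)],
    [(0, true), (6, true), (12, true), (24, true), (36, true), (48, false)],
    [(37, false)],
    [(38, false)],
    [(39, false)],
    [(0, true), (3, false), (7, true), (8, false), (9, false), (10, false), (11, false), (15, false), (20, false), (21, false), (22, true), (23, true), (24, false), (31, true), (32, true), (33, true), (36, false), (37, true), (38, true), (39, false), (40, false), (41, true), (42, true), (43, false), (44, true), (45, false), (46, false), (47, true), (48, true), (49, true), (50, true)],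
    [(18, false)],
    [(42, false)],
    [(2, false), (7, false), (8, true), (9, true), (10, false), (11, true), (18, false), (20, false), (21, true), (22, false), (23, true), (24, true), (26, true), (28, true), (31, false), (32, true), (33, false), (36, true), (37, false), (38, false), (39, true), (40, false), (41, true), (42, false), (43, false), (44, true), (45, true), (46, true), (48, true), (50, false), (51, false)],
    [(51, false)],
    [(2, true), (24, true), (26, false), (44, false), (45, true), (49, true), (51, false)],
    [(46, false)],
    [(47, false)],
    [(48, false)],
    [(49, false)],
    [(0, false), (2, true), (23, false), (38, false), (42, false), (44, false), (46, true), (49, true), (50, true), (51, false)],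
    [(44, false)]]

/-- The sparse columns of a generator. -/
def col24 : List (List (ℕ × Bool)) :=
  [[(0, false)],
    [(1, false)],
    [(2, false)],
    [(0, false), (1, false), (3, true), (4, true), (9, false), (20, false)],
    [(4, false)],
    [(5, false)],
    [(0, true), (2, false), (6, true), (7, true), (12, true), (23, false)],
    [(7, false)],
    [(8, false)],
    [(9, false)],
    [(0, true), (5, false), (10, true), (11, true), (15, false), (34, true)],
    [(11, false)],
    [(12, false)],
    [(0, false), (8, false), (13, true), (14, true), (16, false), (37, false)],
    [(14, false)],
    [(15, false)],
    [(16, false)],
    [(41, false)],
    [(18, false)],
    [(19, false)],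
    [(20, false)],
    [(3, true), (5, false), (20, false), (22, true), (28, true), (34, false), (47, false)],
    [(22, false)],
    [(23, false)],
    [(6, false), (8, true), (23, true), (25, true), (35, true), (37, false), (48, true)],
    [(25, false)],
    [(0, false), (2, true), (9, false), (17, false), (18, false), (20, true), (23, false), (26, true), (29, true), (41, false)],
    [(0, true), (19, true), (27, true), (30, true), (38, true), (46, true)],
    [(0, true), (3, false), (9, true), (21, true), (31, true), (47, true)],
    [(29, false)],
    [(30, false)],
    [(31, false)],
    [(3, true), (7, false), (8, false), (9, true), (10, true), (11, true), (20, true), (21, true), (22, false), (23, false), (24, true), (31, false), (34, false), (36, true), (37, true), (38, false), (39, false), (40, false), (41, false), (42, false), (43, true), (44, false), (45, true), (46, true), (47, false), (48, false), (49, false), (50, false)],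
    [(33, false)],
    [(34, false)],
    [(0, true), (6, true), (12, true), (24, true), (36, true), (48, false)],
    [(36, false)],
    [(37, false)],
    [(38, false)],
    [(0, true), (3, false), (7, true), (8, false), (9, false), (10, false), (11, false), (15, false), (20, false), (21, false), (22, true), (23, true), (24, false), (31, true), (32, true), (33, true), (36, false), (37, true), (38, true), (39, false), (40, false), (41, true), (42, true), (43, false), (44, true), (45, false), (46, false), (47, true), (48, true), (49, true), (50, true)],
    [(40, false)],
    [(17, false)],
    [(51, false)],
    [(2, true), (25, true), (29, false), (42, false), (43, true), (50, true), (51, false)],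
    [(44, false)],
    [(2, false), (6, true), (7, true), (8, true), (9, true), (10, true), (11, false), (17, false), (20, false), (21, false), (22, true), (23, true), (24, false), (25, false), (28, false), (29, true), (31, true), (32, false), (33, true), (35, false), (36, false), (37, false), (38, false), (39, false), (40, true), (41, true), (42, true), (43, true), (44, false), (45, false), (46, true), (48, true), (49, false), (51, false)],
    [(46, false)],
    [(1, false), (4, true), (5, true), (22, false), (31, true), (34, true), (47, true)],
    [(2, false), (7, true), (8, true), (25, true), (36, false), (37, false), (48, true)],
    [(0, false), (2, true), (23, false), (38, false), (42, false), (44, false), (46, true), (49, true), (50, true), (51, false)],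
    [(50, false)],
    [(42, false)]]

/-- The sparse columns of a generator. -/
def col25 : List (List (ℕ × Bool)) :=
  [[(0, false)],
    [(1, false)],
    [(2, false)],
    [(3, false)],
    [(0, false), (1, false), (4, true), (5, true), (11, false), (22, false)],
    [(5, false)],
    [(6, false)],
    [(0, true), (2, false), (7, true), (8, true), (14, false), (25, true)],
    [(8, false)],
    [(0, true), (3, false), (9, true), (10, true), (15, false), (28, true)],
    [(10, false)],
    [(11, false)],
    [(0, true), (6, true), (12, true), (13, false), (16, true), (35, true)],
    [(13, false)],
    [(14, false)],
    [(15, false)],
    [(16, false)],
    [(17, false)],
    [(44, false)],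
    [(19, false)],
    [(47, false)],
    [(21, false)],
    [(22, false)],
    [(48, false)],
    [(24, false)],
    [(25, false)],
    [(49, false)],
    [(27, false)],
    [(28, false)],
    [(0, false), (17, false), (29, true), (32, false), (40, false), (43, false)],
    [(0, true), (2, false), (11, true), (18, true), (19, true), (22, false), (25, false), (30, true), (33, true), (44, true)],
    [(0, true), (3, false), (11, true), (20, true), (21, true), (22, false), (28, false), (31, true), (34, true), (47, true)],
    [(32, false)],
    [(33, false)],
    [(34, false)],
    [(35, false)],
    [(0, true), (6, true), (14, false), (23, false), (24, true), (25, false), (35, false), (36, true), (37, true), (48, false)],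
    [(37, false)],
    [(0, true), (6, true), (15, false), (26, false), (27, true), (28, false), (35, false), (38, true), (39, true), (49, false)],
    [(39, false)],
    [(40, false)],
    [(51, false)],
    [(42, false)],
    [(43, false)],
    [(18, false)],
    [(2, true), (3, true), (7, false), (8, false), (9, true), (10, true), (11, true), (20, true), (21, true), (22, false), (23, false), (24, false), (31, false), (33, true), (34, false), (36, true), (37, true), (38, false), (39, false), (40, false), (41, true), (42, false), (43, true), (44, false), (45, false), (46, true), (47, false), (48, false), (49, false), (50, false), (51, false)],
    [(2, false), (7, false), (8, true), (9, true), (10, false), (11, true), (18, false), (20, false), (21, true), (22, false), (23, true), (24, true), (26, true), (27, true), (31, false), (33, false), (34, true), (36, true), (37, false), (38, false), (39, true), (40, false), (41, true), (42, false), (43, true), (44, true), (45, true), (46, false), (48, true), (50, false), (51, false)],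
    [(20, false)],
    [(23, false)],
    [(26, false)],
    [(0, false), (2, true), (3, true), (7, false), (8, false), (9, true), (10, true), (11, true), (20, true), (21, true), (22, false), (23, false), (24, true), (25, true), (31, false), (34, false), (36, true), (37, true), (38, false), (39, false), (40, true), (41, true), (42, true), (43, false), (44, false), (45, true), (46, true), (47, false), (48, false), (49, false), (51, false)],
    [(41, false)]]

/-- The sparse columns of a generator. -/
def col26 : List (List (ℕ × Bool)) :=
  [[(0, false)],
    [(1, false)],
    [(2, false)],
    [(0, false), (1, false), (3, true), (5, true), (10, false), (21, false)],
    [(4, false)],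
    [(5, false)],
    [(0, true), (2, false), (6, true), (8, true), (13, false), (24, true)],
    [(7, false)],
    [(8, false)],
    [(0, true), (4, false), (9, true), (11, true), (15, false), (31, true)],
    [(10, false)],
    [(11, false)],
    [(0, true), (7, true), (12, true), (14, false), (16, true), (36, true)],
    [(13, false)],
    [(14, false)],
    [(15, false)],
    [(16, false)],
    [(42, false)],
    [(18, false)],
    [(19, false)],
    [(3, true), (4, false), (21, false), (22, true), (28, true), (31, false), (47, false)],
    [(21, false)],
    [(22, false)],
    [(6, true), (7, false), (24, true), (25, false), (35, false), (36, true), (48, false)],
    [(24, false)],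
    [(25, false)],
    [(0, false), (18, false), (26, true), (33, false), (39, false), (45, false)],
    [(0, true), (2, false), (10, true), (17, true), (19, true), (21, false), (24, false), (27, true), (32, true), (42, true)],
    [(0, true), (3, false), (10, true), (20, true), (34, true), (47, true)],
    [(50, false)],
    [(30, false)],
    [(31, false)],
    [(32, false)],
    [(33, false)],
    [(34, false)],
    [(0, true), (6, true), (13, false), (23, false), (37, true), (48, false)],
    [(36, false)],
    [(37, false)],
    [(0, true), (7, true), (15, false), (29, false), (30, true), (31, false), (36, false), (38, true), (40, true), (50, false)],
    [(39, false)],
    [(40, false)],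
    [(51, false)],
    [(17, false)],
    [(2, true), (3, true), (7, false), (8, false), (9, true), (10, true), (11, true), (20, true), (21, true), (22, false), (23, false), (24, true), (25, true), (31, false), (32, true), (34, false), (36, true), (37, true), (38, false), (39, false), (40, false), (41, true), (42, false), (43, false), (44, false), (45, true), (46, true), (47, false), (48, false), (49, false), (50, false), (51, false)],
    [(44, false)],
    [(45, false)],
    [(2, false), (6, true), (7, true), (8, true), (9, true), (10, true), (11, false), (17, false), (20, false), (21, false), (22, true), (23, true), (24, false), (25, false), (28, false), (29, true), (30, true), (32, false), (34, true), (35, false), (36, false), (37, false), (38, false), (39, false), (40, true), (41, true), (42, true), (43, true), (44, false), (45, true), (46, false), (48, true), (49, false), (51, false)],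
    [(1, false), (4, true), (5, true), (22, false), (31, true), (34, true), (47, true)],
    [(2, false), (7, true), (8, true), (25, true), (36, false), (37, false), (48, true)],
    [(0, false), (2, true), (3, true), (7, false), (8, false), (9, true), (10, true), (11, true), (20, true), (21, true), (22, false), (23, false), (24, false), (31, false), (34, false), (36, true), (37, true), (38, false), (39, true), (40, false), (41, true), (42, false), (43, true), (44, true), (45, false), (46, true), (47, false), (48, false), (50, false), (51, false)],
    [(29, false)],
    [(41, false)]]

/-- The sparse columns of a generator. -/
def col27 : List (List (ℕ × Bool)) :=
  [[(9, true)],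
    [(20, true)],
    [(0, true), (1, false), (9, false), (12, true), (17, false), (18, false), (23, false), (41, false)],
    [(0, true), (3, true), (9, false)],
    [(0, true), (4, true), (9, false)],
    [(0, true), (1, false), (3, true), (5, false), (9, false), (15, false), (20, false), (21, false), (28, true), (47, false)],
    [(0, false), (3, true), (6, false), (9, false), (12, false), (26, true)],
    [(0, false), (4, true), (7, false), (9, false), (12, false), (29, true)],
    [(0, false), (1, true), (6, false), (8, false), (16, true), (17, true), (18, true), (19, true), (23, true), (24, false), (35, true), (41, true), (42, true), (44, true), (48, true), (51, true)],
    [(0, true)],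
    [(0, false), (3, true), (9, false), (10, false), (15, true), (28, false)],
    [(0, false), (4, true), (9, false), (11, false), (15, true), (31, false)],
    [(0, false), (9, true), (12, true)],
    [(0, false), (3, false), (6, true), (9, false), (13, false), (16, false), (26, false), (27, true), (35, false), (49, false)],
    [(0, false), (4, false), (7, true), (9, false), (14, false), (16, false), (29, false), (30, true), (36, false), (50, false)],
    [(0, true), (9, false), (15, true)],
    [(38, true)],
    [(2, false), (3, true), (18, true), (20, false), (23, true), (26, false), (41, true)],
    [(2, false), (4, true), (17, true), (20, false), (23, true), (29, false), (41, true)],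
    [(0, false), (1, true), (6, false), (16, true), (17, true), (18, true), (23, true), (24, false), (35, true), (41, true), (42, true), (44, true), (48, true), (51, true)],
    [(1, true)],
    [(47, true)],
    [(3, false), (4, true), (21, true), (22, false), (28, false), (31, true), (47, true)],
    [(0, true), (1, false), (2, true), (9, false), (12, true), (17, false), (18, false), (23, true), (41, false)],
    [(0, false), (2, true), (3, true), (9, true), (12, false), (19, true), (24, true), (26, true), (27, true), (42, true), (44, true), (48, true), (49, false), (51, true)],
    [(0, false), (2, true), (4, true), (6, false), (7, true), (9, true), (12, false), (19, true), (24, false), (25, false), (29, true), (30, true), (35, true), (36, false), (42, true), (44, true), (48, true), (50, false), (51, true)],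
    [(0, true), (9, false), (26, true)],
    [(0, true), (3, true), (6, false), (9, true), (16, true), (26, true), (27, true), (35, true), (49, true)],
    [(0, false), (9, true), (28, true)],
    [(0, true), (9, false), (29, true)],
    [(0, true), (4, true), (7, false), (9, true), (16, true), (29, true), (30, true), (36, true), (50, true)],
    [(0, false), (9, true), (31, true)],
    [(0, false), (3, false), (9, true), (15, true), (17, true), (18, true), (19, true), (20, false), (21, false), (23, true), (24, false), (26, false), (27, true), (28, false), (32, false), (41, true), (42, true), (44, true), (47, false), (48, true), (49, false), (51, true)],
    [(0, false), (3, true), (4, true), (6, false), (7, true), (9, true), (15, true), (17, true), (18, true), (19, true), (20, false), (21, false), (23, true), (24, false), (28, true), (29, false), (30, true), (31, true), (33, false), (35, true), (36, false), (41, true), (42, true), (44, true), (47, false), (48, true), (50, false), (51, true)],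
    [(0, false), (1, true), (3, false), (9, true), (15, true), (20, true), (21, true), (28, false), (34, false), (47, true)],
    [(0, false), (6, false), (12, false), (27, false), (38, false), (49, true)],
    [(0, false), (7, false), (12, false), (30, false), (38, false), (50, true)],
    [(0, false), (1, true), (6, false), (16, true), (17, true), (18, true), (19, true), (23, true), (24, false), (35, true), (37, false), (41, true), (42, true), (44, true), (48, true), (51, true)],
    [(16, true)],
    [(0, false), (6, false), (15, true), (26, true), (27, false), (28, true), (35, true), (38, false), (39, false), (49, true)],
    [(0, false), (7, false), (15, true), (29, true), (30, false), (31, true), (36, true), (38, false), (40, false), (50, true)],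
    [(1, true), (3, false), (4, false), (20, true), (26, true), (29, true), (41, false)],
    [(0, false), (1, true), (6, false), (16, true), (17, true), (18, true), (19, true), (23, true), (24, false), (35, true), (41, true), (44, true), (48, true), (51, true)],
    [(2, true), (3, true), (7, true), (9, false), (19, true), (21, false), (24, false), (27, true), (28, false), (29, true), (30, true), (31, false), (36, false), (38, true), (42, true), (43, false), (44, true), (47, false), (48, true), (49, false), (50, false), (51, true)],
    [(0, false), (1, true), (6, false), (16, true), (17, true), (18, true), (19, true), (23, true), (24, false), (35, true), (41, true), (42, true), (48, true), (51, true)],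
    [(2, true), (3, true), (7, true), (9, false), (19, true), (21, false), (24, false), (26, true), (27, true), (30, true), (31, true), (36, false), (38, true), (42, true), (44, true), (45, false), (47, false), (48, true), (49, false), (50, false), (51, true)],
    [(0, false), (1, true), (6, false), (16, true), (17, true), (18, true), (19, true), (23, true), (24, false), (35, true), (41, true), (42, true), (44, true), (46, false), (48, true), (51, true)],
    [(21, true)],
    [(0, true), (2, false), (3, false), (9, false), (12, true), (19, false), (24, true), (26, false), (27, false), (42, false), (44, false), (48, true), (49, true), (51, false)],
    [(0, false), (3, false), (6, true), (9, false), (16, false), (26, false), (27, true), (35, false), (49, true)],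
    [(0, false), (4, false), (7, true), (9, false), (16, false), (29, false), (30, true), (36, false), (50, true)],
    [(0, false), (1, true), (6, false), (16, true), (17, true), (18, true), (19, true), (23, true), (24, false), (35, true), (41, true), (42, true), (44, true), (48, true)]]

/-- The sparse columns of a generator. -/
def col28 : List (List (ℕ × Bool)) :=
  [[(10, true)],
    [(21, true)],
    [(0, true), (1, false), (10, false), (13, false), (17, false), (19, false), (24, true), (42, false)],
    [(0, true), (3, true), (10, false)],
    [(0, true), (1, false), (3, true), (4, false), (10, false), (15, false), (20, false), (21, false), (28, true), (47, false)],
    [(0, true), (5, true), (10, false)],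
    [(0, false), (3, true), (6, false), (10, false), (13, true), (27, false)],
    [(0, false), (1, true), (6, false), (7, false), (16, true), (17, true), (18, true), (19, true), (23, true), (24, false), (35, true), (41, true), (42, true), (44, true), (48, true), (51, true)],
    [(0, false), (5, true), (8, false), (10, false), (13, true), (32, false)],
    [(0, false), (3, true), (9, false), (10, false), (15, true), (28, false)],
    [(0, true)],
    [(0, false), (5, true), (10, false), (11, false), (15, true), (34, false)],
    [(0, true), (3, true), (6, false), (10, true), (12, false), (16, true), (26, true), (27, false), (35, true), (49, true)],
    [(0, true), (10, false), (13, true)],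
    [(0, false), (3, false), (5, false), (7, true), (8, false), (9, false), (10, true), (11, false), (14, false), (16, false), (20, false), (21, false), (22, true), (23, true), (24, false), (31, true), (32, true), (33, true), (34, true), (36, false), (37, true), (38, true), (39, true), (40, true), (41, true), (42, true), (43, false), (44, true), (45, false), (46, false), (47, true), (48, true), (49, true), (50, true)],
    [(0, true), (10, false), (15, true)],
    [(39, true)],
    [(2, false), (3, true), (19, true), (21, false), (24, false), (27, true), (42, true)],
    [(0, false), (1, true), (6, false), (16, true), (17, true), (19, true), (23, true), (24, false), (35, true), (41, true), (42, true), (44, true), (48, true), (51, true)],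
    [(2, false), (5, true), (17, true), (21, false), (24, false), (32, true), (42, true)],
    [(47, true)],
    [(1, true)],
    [(3, false), (5, true), (20, true), (22, false), (28, false), (34, true), (47, true)],
    [(0, true), (2, false), (3, false), (10, false), (13, false), (18, false), (23, true), (26, true), (27, true), (41, false), (44, false), (48, false), (49, true), (51, false)],
    [(0, false), (1, true), (2, false), (10, true), (13, true), (17, true), (19, true), (24, true), (42, true)],
    [(0, false), (2, true), (3, false), (5, true), (6, false), (7, true), (8, false), (9, false), (11, false), (13, true), (18, true), (20, false), (21, false), (22, true), (23, false), (24, false), (25, false), (31, true), (32, false), (33, true), (34, true), (35, true), (36, false), (37, true), (38, true), (39, true), (40, true), (41, false), (42, true), (43, false), (44, false), (45, false), (46, false), (47, true), (48, false), (49, true), (50, true), (51, true)],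
    [(0, false), (3, false), (6, true), (10, false), (16, false), (26, true), (27, true), (35, false), (49, false)],
    [(0, false), (10, true), (27, true)],
    [(0, false), (10, true), (28, true)],
    [(0, true), (3, true), (10, false), (15, false), (17, false), (18, false), (19, false), (20, true), (21, true), (23, false), (24, true), (26, true), (27, false), (28, true), (29, false), (41, false), (42, false), (44, false), (47, true), (48, false), (49, true), (51, false)],
    [(0, false), (5, true), (6, false), (7, true), (8, false), (9, false), (11, false), (15, true), (17, true), (18, true), (19, true), (20, true), (21, true), (22, true), (23, false), (24, true), (28, true), (30, false), (31, true), (32, true), (33, true), (34, false), (35, true), (36, false), (37, true), (38, true), (39, true), (40, true), (41, false), (42, false), (43, false), (44, false), (45, false), (46, false), (48, false), (49, true), (50, true), (51, true)],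
    [(0, false), (1, true), (3, false), (10, true), (15, true), (20, true), (21, true), (28, false), (31, false), (47, true)],
    [(0, false), (10, true), (32, true)],
    [(0, true), (3, true), (5, true), (7, false), (8, true), (9, true), (10, false), (11, true), (16, true), (20, true), (21, true), (22, false), (23, false), (24, true), (31, false), (32, false), (33, true), (34, false), (36, true), (37, false), (38, false), (39, false), (40, false), (41, false), (42, false), (43, true), (44, false), (45, true), (46, true), (47, false), (48, false), (49, false), (50, false)],
    [(0, false), (10, true), (34, true)],
    [(0, false), (6, false), (13, true), (26, true), (39, false), (49, true)],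
    [(0, false), (1, true), (6, false), (16, true), (17, true), (18, true), (19, true), (23, true), (24, false), (35, true), (36, false), (41, true), (42, true), (44, true), (48, true), (51, true)],
    [(0, false), (3, true), (7, false), (8, true), (9, true), (10, true), (11, true), (13, true), (20, true), (21, true), (22, false), (23, false), (24, true), (31, false), (33, false), (34, false), (36, true), (37, true), (38, false), (39, true), (40, false), (41, false), (42, false), (43, true), (44, false), (45, true), (46, true), (47, false), (48, false), (49, false), (50, false)],
    [(0, false), (6, false), (15, true), (26, true), (27, false), (28, true), (35, true), (38, false), (39, false), (49, true)],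
    [(16, true)],
    [(0, false), (3, true), (7, false), (8, true), (9, true), (10, true), (11, true), (15, true), (20, true), (21, true), (22, false), (23, false), (24, true), (31, false), (32, false), (33, false), (36, true), (37, false), (38, false), (39, true), (40, true), (41, false), (42, false), (43, true), (44, false), (45, true), (46, true), (47, false), (48, false), (49, false), (50, false)],
    [(0, false), (1, true), (6, false), (16, true), (17, true), (18, true), (19, true), (23, true), (24, false), (35, true), (42, true), (44, true), (48, true), (51, true)],
    [(1, true), (3, false), (5, false), (21, true), (27, false), (32, false), (42, false)],
    [(2, true), (7, true), (8, false), (9, false), (10, true), (11, false), (18, true), (20, true), (21, false), (22, true), (23, false), (24, false), (26, false), (28, false), (31, true), (32, false), (33, true), (36, false), (37, true), (38, true), (39, false), (40, true), (41, false), (42, true), (43, true), (44, false), (45, false), (46, false), (48, false), (50, true), (51, true)],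
    [(0, false), (1, true), (6, false), (16, true), (17, true), (18, true), (19, true), (23, true), (24, false), (35, true), (41, true), (42, true), (48, true), (51, true)],
    [(0, false), (1, true), (6, false), (16, true), (17, true), (18, true), (19, true), (23, true), (24, false), (35, true), (41, true), (42, true), (44, true), (45, false), (48, true), (51, true)],
    [(2, true), (7, true), (8, false), (9, false), (10, true), (11, false), (18, true), (20, true), (21, false), (22, true), (23, false), (24, false), (26, false), (27, false), (31, true), (33, true), (34, false), (36, false), (37, true), (38, true), (39, false), (40, true), (41, false), (42, true), (43, false), (44, false), (45, false), (46, true), (48, false), (50, true), (51, true)],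
    [(20, true)],
    [(0, true), (2, false), (3, false), (10, false), (13, false), (18, false), (23, false), (26, true), (27, true), (41, false), (44, false), (48, true), (49, true), (51, false)],
    [(0, false), (3, false), (6, true), (10, false), (16, false), (26, false), (27, true), (35, false), (49, true)],
    [(0, true), (1, false), (3, true), (5, true), (6, true), (7, true), (8, false), (9, false), (10, false), (11, false), (15, false), (20, true), (21, true), (22, true), (23, true), (24, false), (26, false), (27, true), (28, false), (31, true), (32, true), (33, true), (34, false), (35, false), (36, false), (37, true), (38, true), (40, true), (41, true), (42, true), (43, false), (44, true), (45, false), (46, false), (48, true)],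
    [(0, false), (1, true), (6, false), (16, true), (17, true), (18, true), (19, true), (23, true), (24, false), (35, true), (41, true), (42, true), (44, true), (48, true)]]

/-- The sparse columns of a generator. -/
def col29 : List (List (ℕ × Bool)) :=
  [[(11, true)],
    [(22, true)],
    [(0, true), (1, false), (11, false), (14, false), (18, false), (19, false), (25, true), (44, false)],
    [(0, true), (1, false), (11, false), (15, false), (20, false), (21, false), (28, true), (47, false)],
    [(0, true), (4, true), (11, false)],
    [(0, true), (5, true), (11, false)],
    [(0, false), (1, true), (6, true), (16, true), (17, true), (18, true), (19, true), (23, true), (24, false), (35, true), (41, true), (42, true), (44, true), (48, true), (51, true)],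
    [(0, false), (4, true), (7, false), (11, false), (14, true), (30, false)],
    [(0, false), (5, true), (8, false), (11, false), (14, true), (33, false)],
    [(0, false), (4, true), (9, false), (11, false), (15, true), (31, false)],
    [(0, false), (5, true), (10, false), (11, false), (15, true), (34, false)],
    [(0, true)],
    [(0, true), (4, true), (7, false), (11, true), (12, false), (16, true), (29, true), (30, false), (36, true), (50, true)],
    [(0, false), (3, false), (5, false), (7, true), (8, false), (9, false), (10, false), (11, true), (13, false), (16, false), (20, false), (21, false), (22, true), (23, true), (24, false), (31, true), (32, true), (33, true), (34, true), (36, false), (37, true), (38, true), (39, true), (40, true), (41, true), (42, true), (43, false), (44, true), (45, false), (46, false), (47, true), (48, true), (49, true), (50, true)],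
    [(0, true), (11, false), (14, true)],
    [(0, true), (11, false), (15, true)],
    [(40, true)],
    [(0, false), (1, true), (6, false), (16, true), (18, true), (19, true), (23, true), (24, false), (35, true), (41, true), (42, true), (44, true), (48, true), (51, true)],
    [(2, false), (4, true), (19, true), (22, false), (25, false), (30, true), (44, true)],
    [(2, false), (5, true), (18, true), (22, false), (25, false), (33, true), (44, true)],
    [(3, false), (4, true), (21, true), (22, false), (28, false), (31, true), (47, true)],
    [(3, false), (5, true), (20, true), (22, false), (28, false), (34, true), (47, true)],
    [(1, true)],
    [(0, true), (2, false), (4, false), (6, true), (7, false), (11, false), (14, false), (17, false), (23, true), (24, true), (25, false), (29, true), (30, true), (35, false), (36, true), (41, false), (42, false), (48, false), (50, true), (51, false)],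
    [(0, false), (2, true), (3, false), (5, true), (6, false), (7, true), (8, false), (9, false), (10, false), (14, true), (17, true), (20, false), (21, false), (22, true), (23, false), (25, true), (31, true), (32, true), (33, false), (34, true), (35, true), (36, false), (37, true), (38, true), (39, true), (40, true), (41, false), (42, false), (43, false), (44, true), (45, false), (46, false), (47, true), (48, false), (49, true), (50, true), (51, true)],
    [(0, false), (1, true), (2, false), (11, true), (14, true), (18, true), (19, true), (25, true), (44, true)],
    [(0, true), (3, false), (4, false), (6, true), (7, false), (11, false), (15, false), (17, false), (18, false), (19, false), (20, true), (21, true), (23, false), (24, true), (26, false), (28, false), (29, true), (30, false), (31, false), (35, false), (36, true), (41, false), (42, false), (44, false), (47, true), (48, false), (50, true), (51, false)],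
    [(0, false), (5, true), (6, false), (7, true), (8, false), (9, false), (10, false), (15, true), (17, true), (18, true), (19, true), (20, true), (21, true), (22, true), (23, false), (24, true), (27, false), (28, true), (31, true), (32, true), (33, true), (34, false), (35, true), (36, false), (37, true), (38, true), (39, true), (40, true), (41, false), (42, false), (43, false), (44, false), (45, false), (46, false), (48, false), (49, true), (50, true), (51, true)],
    [(0, false), (1, true), (3, false), (11, true), (15, true), (20, true), (21, true), (28, true), (47, true)],
    [(0, false), (4, false), (7, true), (11, false), (16, false), (29, true), (30, true), (36, false), (50, false)],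
    [(0, false), (11, true), (30, true)],
    [(0, false), (11, true), (31, true)],
    [(0, true), (3, true), (5, true), (7, false), (8, true), (9, true), (10, true), (11, false), (16, true), (20, true), (21, true), (22, false), (23, false), (24, true), (31, false), (32, true), (33, false), (34, false), (36, true), (37, false), (38, false), (39, false), (40, false), (41, false), (42, false), (43, true), (44, false), (45, true), (46, true), (47, false), (48, false), (49, false), (50, false)],
    [(0, false), (11, true), (33, true)],
    [(0, false), (11, true), (34, true)],
    [(0, false), (1, true), (6, false), (16, true), (17, true), (18, true), (19, true), (23, true), (24, false), (41, true), (42, true), (44, true), (48, true), (51, true)],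
    [(0, false), (7, false), (14, true), (29, true), (40, false), (50, true)],
    [(0, false), (3, true), (7, false), (8, true), (9, true), (10, true), (11, true), (14, true), (20, true), (21, true), (22, false), (23, false), (24, true), (31, false), (32, false), (34, false), (36, true), (37, true), (38, false), (39, false), (40, true), (41, false), (42, false), (43, true), (44, false), (45, true), (46, true), (47, false), (48, false), (49, false), (50, false)],
    [(0, false), (7, false), (15, true), (29, true), (30, false), (31, true), (36, true), (38, false), (40, false), (50, true)],
    [(0, false), (3, true), (7, false), (8, true), (9, true), (10, true), (11, true), (15, true), (20, true), (21, true), (22, false), (23, false), (24, true), (31, false), (32, false), (33, false), (36, true), (37, false), (38, false), (39, true), (40, true), (41, false), (42, false), (43, true), (44, false), (45, true), (46, true), (47, false), (48, false), (49, false), (50, false)],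
    [(16, true)],
    [(0, false), (1, true), (6, false), (16, true), (17, true), (18, true), (19, true), (23, true), (24, false), (35, true), (42, true), (44, true), (48, true), (51, true)],
    [(0, false), (1, true), (6, false), (16, true), (17, true), (18, true), (19, true), (23, true), (24, false), (35, true), (41, true), (44, true), (48, true), (51, true)],
    [(0, false), (1, true), (6, false), (16, true), (17, true), (18, true), (19, true), (23, true), (24, false), (35, true), (41, true), (42, true), (43, false), (44, true), (48, true), (51, true)],
    [(1, true), (4, false), (5, false), (22, true), (30, false), (33, false), (44, false)],
    [(2, true), (6, false), (7, false), (8, false), (9, false), (10, false), (11, true), (17, true), (20, true), (21, true), (22, false), (23, false), (24, true), (25, true), (28, true), (29, false), (31, false), (32, true), (33, false), (35, true), (36, true), (37, true), (38, true), (39, true), (40, false), (41, false), (42, false), (43, false), (44, true), (45, true), (46, false), (48, false), (49, true), (51, true)],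
    [(2, true), (6, false), (7, false), (8, false), (9, false), (10, false), (11, true), (17, true), (20, true), (21, true), (22, false), (23, false), (24, true), (25, true), (28, true), (29, false), (30, false), (32, true), (34, false), (35, true), (36, true), (37, true), (38, true), (39, true), (40, false), (41, false), (42, false), (43, false), (44, true), (45, false), (46, true), (48, false), (49, true), (51, true)],
    [(1, true), (4, false), (5, false), (22, true), (31, false), (34, false), (47, false)],
    [(0, true), (1, false), (2, true), (3, false), (4, true), (5, true), (7, false), (8, false), (9, false), (10, false), (11, false), (14, false), (18, false), (19, false), (20, false), (21, false), (22, true), (23, true), (24, false), (25, true), (29, false), (30, false), (31, true), (32, true), (33, false), (34, true), (36, true), (37, true), (38, true), (39, true), (41, true), (42, true), (43, false), (45, false), (46, false), (47, true), (49, true)],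
    [(0, true), (1, false), (4, true), (5, true), (7, false), (8, false), (9, false), (10, false), (11, false), (15, false), (20, true), (21, true), (22, true), (23, true), (24, false), (28, true), (29, false), (30, true), (31, false), (32, true), (33, true), (34, false), (36, true), (37, true), (38, true), (39, true), (41, true), (42, true), (43, false), (44, true), (45, false), (46, false), (48, true)],
    [(0, false), (4, false), (7, true), (11, false), (16, false), (29, false), (30, true), (36, false), (50, true)],
    [(0, false), (1, true), (6, false), (16, true), (17, true), (18, true), (19, true), (23, true), (24, false), (35, true), (41, true), (42, true), (44, true), (48, true)]]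

/-- The sparse columns of a generator. -/
def col30 : List (List (ℕ × Bool)) :=
  [[(0, false)],
    [(1, false)],
    [(0, false), (1, false), (2, true), (3, true), (6, false), (17, false)],
    [(3, false)],
    [(4, false)],
    [(5, false)],
    [(6, false)],
    [(0, true), (4, false), (7, true), (9, true), (12, true), (29, false)],
    [(0, true), (5, false), (8, true), (10, true), (13, false), (32, true)],
    [(9, false)],
    [(10, false)],
    [(11, false)],
    [(12, false)],
    [(13, false)],
    [(0, false), (11, false), (14, true), (15, true), (16, false), (40, false)],
    [(15, false)],
    [(16, false)],
    [(17, false)],
    [(2, true), (4, false), (17, false), (20, true), (23, false), (29, true), (41, false)],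
    [(2, true), (5, false), (17, false), (21, true), (24, true), (32, false), (42, false)],
    [(20, false)],
    [(21, false)],
    [(22, false)],
    [(0, false), (2, true), (6, false), (18, false), (26, true), (41, false)],
    [(0, true), (2, false), (6, true), (19, true), (27, true), (42, true)],
    [(0, true), (22, true), (25, true), (28, true), (35, true), (43, true)],
    [(26, false)],
    [(27, false)],
    [(28, false)],
    [(29, false)],
    [(7, false), (11, true), (29, true), (31, true), (36, true), (40, false), (50, true)],
    [(31, false)],
    [(32, false)],
    [(3, true), (7, false), (8, true), (9, true), (10, true), (11, false), (20, true), (21, true), (22, false), (23, false), (24, true), (31, false), (32, false), (36, true), (37, false), (38, false), (39, false), (40, true), (41, false), (42, false), (43, true), (44, false), (45, true), (46, true), (47, false), (48, false), (49, false), (50, false)],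
    [(34, false)],
    [(35, false)],
    [(0, true), (7, true), (12, true), (30, true), (38, true), (50, false)],
    [(0, true), (3, false), (7, true), (8, false), (9, false), (10, false), (11, false), (13, false), (20, false), (21, false), (22, true), (23, true), (24, false), (31, true), (33, true), (34, true), (36, false), (37, false), (38, true), (39, false), (40, true), (41, true), (42, true), (43, false), (44, true), (45, false), (46, false), (47, true), (48, true), (49, true), (50, true)],
    [(38, false)],
    [(39, false)],
    [(40, false)],
    [(1, false), (3, true), (4, true), (20, false), (26, false), (29, false), (41, true)],
    [(1, false), (3, true), (5, true), (21, false), (27, true), (32, true), (42, true)],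
    [(43, false)],
    [(1, false), (2, true), (4, true), (5, true), (11, false), (22, false), (29, false), (32, true), (40, true), (43, true), (47, true), (48, false), (51, false)],
    [(2, false), (3, false), (7, false), (9, true), (19, false), (21, true), (24, true), (26, false), (27, false), (30, false), (31, false), (36, true), (38, false), (42, false), (44, false), (45, true), (47, true), (48, false), (49, true), (50, true), (51, false)],
    [(2, false), (7, false), (8, true), (9, true), (10, false), (11, true), (18, false), (20, false), (21, true), (22, false), (23, true), (24, true), (26, true), (27, true), (31, false), (33, false), (34, true), (36, true), (37, false), (38, false), (39, true), (40, false), (41, true), (42, false), (43, true), (44, true), (45, true), (46, false), (48, true), (50, false), (51, false)],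
    [(47, false)],
    [(0, false), (2, true), (6, false), (44, false), (49, true), (51, false)],
    [(49, false)],
    [(4, false), (9, true), (11, true), (31, true), (38, false), (40, false), (50, true)],
    [(3, true), (4, false), (5, false), (11, true), (17, false), (22, true), (29, true), (32, false), (40, false), (43, false), (47, false), (49, false), (51, true)]]

/-- The sparse columns of a generator. -/
def col31 : List (List (ℕ × Bool)) :=
  [[(0, false)],
    [(1, false)],
    [(0, false), (1, false), (2, true), (4, true), (7, false), (18, false)],
    [(3, false)],
    [(4, false)],
    [(5, false)],
    [(0, true), (3, false), (6, true), (9, true), (12, true), (26, false)],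
    [(7, false)],
    [(0, true), (5, false), (8, true), (11, true), (14, false), (33, true)],
    [(9, false)],
    [(10, false)],
    [(11, false)],
    [(12, false)],
    [(0, false), (10, false), (13, true), (15, true), (16, false), (39, false)],
    [(14, false)],
    [(15, false)],
    [(16, false)],
    [(2, true), (3, false), (18, false), (20, true), (23, false), (26, true), (41, false)],
    [(18, false)],
    [(2, true), (5, false), (18, false), (22, true), (25, true), (33, false), (44, false)],
    [(20, false)],
    [(21, false)],
    [(22, false)],
    [(0, false), (2, true), (7, false), (17, false), (29, true), (41, false)],
    [(0, true), (21, true), (24, true), (31, true), (36, true), (45, true)],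
    [(0, true), (2, false), (7, true), (19, true), (30, true), (44, true)],
    [(26, false)],
    [(6, false), (10, true), (26, true), (28, true), (35, true), (39, false), (49, true)],
    [(28, false)],
    [(29, false)],
    [(30, false)],
    [(31, false)],
    [(3, true), (7, false), (8, true), (9, true), (10, false), (11, true), (20, true), (21, true), (22, false), (23, false), (24, true), (31, false), (33, false), (36, true), (37, false), (38, false), (39, true), (40, false), (41, false), (42, false), (43, true), (44, false), (45, true), (46, true), (47, false), (48, false), (49, false), (50, false)],
    [(33, false)],
    [(34, false)],
    [(0, true), (6, true), (12, true), (27, true), (38, true), (49, false)],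
    [(36, false)],
    [(0, true), (3, false), (7, true), (8, false), (9, false), (10, false), (11, false), (14, false), (20, false), (21, false), (22, true), (23, true), (24, false), (31, true), (32, true), (34, true), (36, false), (37, false), (38, true), (39, true), (40, false), (41, true), (42, true), (43, false), (44, true), (45, false), (46, false), (47, true), (48, true), (49, true), (50, true)],
    [(38, false)],
    [(39, false)],
    [(40, false)],
    [(1, false), (3, true), (4, true), (20, false), (26, false), (29, false), (41, true)],
    [(1, false), (2, true), (4, true), (5, true), (6, true), (7, false), (10, false), (22, false), (24, true), (25, false), (26, false), (28, false), (31, true), (33, true), (35, false), (36, true), (39, true), (45, true), (47, true), (48, false), (51, false)],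
    [(2, false), (3, false), (7, false), (9, true), (19, false), (21, true), (24, true), (27, false), (28, true), (29, false), (30, false), (31, true), (36, true), (38, false), (42, false), (43, true), (44, false), (47, true), (48, false), (49, true), (50, true), (51, false)],
    [(1, false), (4, true), (5, true), (22, false), (30, true), (33, true), (44, true)],
    [(45, false)],
    [(2, false), (6, true), (7, true), (8, true), (9, true), (10, true), (11, false), (17, false), (20, false), (21, false), (22, true), (23, true), (24, false), (25, false), (28, false), (29, true), (30, true), (32, false), (34, true), (35, false), (36, false), (37, false), (38, false), (39, false), (40, true), (41, true), (42, true), (43, true), (44, false), (45, true), (46, false), (48, true), (49, false), (51, false)],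
    [(47, false)],
    [(0, false), (2, false), (3, false), (7, false), (9, true), (19, false), (21, true), (24, true), (26, false), (27, false), (30, false), (31, true), (38, false), (42, false), (44, false), (45, true), (49, true), (50, true), (51, false)],
    [(3, false), (9, true), (10, true), (28, true), (38, false), (39, false), (49, true)],
    [(50, false)],
    [(5, false), (10, true), (18, false), (22, true), (26, true), (28, true), (31, false), (33, false), (39, false), (45, false), (47, false), (50, false), (51, true)]]

/-- The sparse columns of a generator. -/
def col32 : List (List (ℕ × Bool)) :=
  [[(0, false)],
    [(1, false)],
    [(0, false), (1, false), (2, true), (5, true), (8, false), (19, false)],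
    [(3, false)],
    [(4, false)],
    [(5, false)],
    [(0, true), (3, false), (6, true), (10, true), (13, false), (27, true)],
    [(0, true), (4, false), (7, true), (11, true), (14, false), (30, true)],
    [(8, false)],
    [(9, false)],
    [(10, false)],
    [(11, false)],
    [(0, true), (9, true), (12, true), (15, false), (16, true), (38, true)],
    [(13, false)],
    [(14, false)],
    [(15, false)],
    [(16, false)],
    [(2, true), (3, false), (19, false), (21, true), (24, true), (27, false), (42, false)],
    [(2, true), (4, false), (19, false), (22, true), (25, true), (30, false), (44, false)],
    [(19, false)],
    [(20, false)],
    [(21, false)],
    [(22, false)],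
    [(0, false), (20, false), (23, true), (34, false), (37, false), (46, false)],
    [(0, true), (2, false), (8, true), (17, true), (32, true), (42, true)],
    [(0, true), (2, false), (8, true), (18, true), (33, true), (44, true)],
    [(6, true), (9, false), (27, true), (28, false), (35, false), (38, true), (49, false)],
    [(27, false)],
    [(28, false)],
    [(7, true), (9, false), (30, true), (31, false), (36, false), (38, true), (50, false)],
    [(30, false)],
    [(31, false)],
    [(32, false)],
    [(33, false)],
    [(34, false)],
    [(0, true), (6, true), (13, false), (26, false), (39, true), (49, false)],
    [(0, true), (7, true), (14, false), (29, false), (40, true), (50, false)],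
    [(37, false)],
    [(38, false)],
    [(39, false)],
    [(40, false)],
    [(1, false), (2, true), (4, true), (5, true), (6, true), (8, false), (9, false), (22, false), (23, false), (25, false), (27, true), (28, false), (30, true), (34, true), (35, false), (37, true), (38, true), (46, true), (47, true), (48, false), (51, false)],
    [(1, false), (3, true), (5, true), (21, false), (27, true), (32, true), (42, true)],
    [(2, false), (7, false), (8, true), (9, true), (10, false), (11, true), (18, false), (20, false), (21, true), (22, false), (23, true), (24, true), (26, true), (28, true), (31, false), (32, true), (33, false), (36, true), (37, false), (38, false), (39, true), (40, false), (41, true), (42, false), (43, false), (44, true), (45, true), (46, true), (48, true), (50, false), (51, false)],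
    [(1, false), (4, true), (5, true), (22, false), (30, true), (33, true), (44, true)],
    [(2, false), (6, true), (7, true), (8, true), (9, true), (10, true), (11, false), (17, false), (20, false), (21, false), (22, true), (23, true), (24, false), (25, false), (28, false), (29, true), (31, true), (32, false), (33, true), (35, false), (36, false), (37, false), (38, false), (39, false), (40, true), (41, true), (42, true), (43, true), (44, false), (45, false), (46, true), (48, true), (49, false), (51, false)],
    [(46, false)],
    [(47, false)],
    [(0, false), (2, false), (7, false), (8, true), (9, true), (10, false), (11, true), (18, false), (20, false), (21, true), (22, false), (23, true), (24, true), (26, true), (27, true), (31, false), (33, false), (36, true), (37, true), (38, false), (39, true), (40, false), (41, true), (42, false), (43, true), (44, true), (45, true), (46, false), (47, false), (48, false), (50, false), (51, false)],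
    [(3, false), (9, true), (10, true), (28, true), (38, false), (39, false), (49, true)],
    [(4, false), (9, true), (11, true), (31, true), (38, false), (40, false), (50, true)],
    [(3, false), (4, false), (7, true), (8, true), (10, false), (11, false), (19, false), (20, false), (21, false), (22, false), (23, true), (24, false), (27, false), (28, true), (30, false), (31, true), (36, false), (37, false), (39, true), (40, true), (41, true), (42, true), (43, false), (44, true), (45, false), (46, true), (48, true), (49, true), (50, true), (51, true)]]

/-- The sparse columns of a generator. -/
def col33 : List (List (ℕ × Bool)) :=
  [[(0, true)],
    [(0, true), (1, false), (2, true)],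
    [(2, true)],
    [(0, false), (3, false), (6, true)],
    [(0, false), (4, false), (7, true)],
    [(0, false), (5, false), (8, true)],
    [(6, true)],
    [(7, true)],
    [(8, true)],
    [(0, true), (9, false), (12, false)],
    [(0, true), (10, false), (13, true)],
    [(0, true), (11, false), (14, true)],
    [(12, true)],
    [(13, true)],
    [(14, true)],
    [(0, false), (15, false), (16, true)],
    [(16, true)],
    [(0, true), (2, true), (17, false)],
    [(0, true), (2, true), (18, false)],
    [(0, true), (2, true), (19, false)],
    [(0, true), (20, false), (23, true)],
    [(0, true), (21, false), (24, false)],
    [(0, true), (22, false), (25, false)],
    [(23, true)],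
    [(24, true)],
    [(25, true)],
    [(0, false), (6, true), (26, false)],
    [(0, true), (6, false), (27, false)],
    [(0, true), (28, false), (35, false)],
    [(0, false), (7, true), (29, false)],
    [(0, true), (7, false), (30, false)],
    [(0, true), (31, false), (36, false)],
    [(0, true), (8, false), (32, false)],
    [(0, true), (8, false), (33, false)],
    [(0, true), (34, false), (37, false)],
    [(35, true)],
    [(36, true)],
    [(37, true)],
    [(0, true), (12, false), (38, false)],
    [(0, true), (13, true), (39, false)],
    [(0, true), (14, true), (40, false)],
    [(0, true), (2, true), (41, false)],
    [(0, true), (2, true), (42, false)],
    [(0, true), (25, false), (43, false)],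
    [(0, true), (2, true), (44, false)],
    [(0, true), (24, false), (45, false)],
    [(0, true), (23, true), (46, false)],
    [(0, true), (47, false), (48, true)],
    [(48, true)],
    [(0, false), (6, true), (49, false)],
    [(0, false), (7, true), (50, false)],
    [(0, true), (2, true), (51, false)]]

/-- The sparse columns of a generator. -/
def col34 : List (List (ℕ × Bool)) :=
  [[(12, true)],
    [(0, true), (1, true), (2, true), (12, false), (17, false), (18, false), (23, false), (41, false)],
    [(23, true)],
    [(26, true)],
    [(29, true)],
    [(0, true), (1, true), (5, false), (6, false), (16, true), (17, true), (18, true), (19, true), (23, true), (24, false), (35, true), (41, true), (42, true), (44, true), (48, true), (51, true)],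
    [(0, false), (6, true), (12, true)],
    [(0, false), (7, true), (12, true)],
    [(0, false), (2, false), (6, true), (8, false), (12, true), (16, false), (23, false), (24, true), (35, false), (48, false)],
    [(0, false), (9, true), (12, true)],
    [(0, false), (3, false), (6, true), (10, false), (12, true), (16, false), (26, false), (27, true), (35, false), (49, false)],
    [(0, false), (4, false), (7, true), (11, false), (12, true), (16, false), (29, false), (30, true), (36, false), (50, false)],
    [(0, true)],
    [(0, true), (6, true), (12, true), (13, false), (16, true), (35, true)],
    [(0, true), (7, true), (12, true), (14, false), (16, true), (36, true)],
    [(0, true), (9, true), (12, true), (15, false), (16, true), (38, true)],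
    [(0, false), (12, true), (16, true)],
    [(0, true), (1, false), (2, true), (12, false), (17, true), (18, false), (23, false), (41, false)],
    [(0, true), (1, false), (2, true), (12, false), (17, false), (18, true), (23, false), (41, false)],
    [(0, true), (2, true), (12, false), (19, true), (23, false), (42, false), (44, false), (51, false)],
    [(0, true), (1, false), (2, true), (12, false), (17, false), (18, false), (20, false), (23, false), (41, false)],
    [(0, true), (2, false), (3, false), (12, false), (19, false), (21, false), (24, true), (26, false), (27, false), (42, false), (44, false), (48, false), (49, true), (51, false)],
    [(0, true), (2, false), (4, false), (6, true), (7, false), (12, false), (19, false), (22, false), (24, true), (29, false), (30, false), (35, false), (36, true), (42, false), (44, false), (48, false), (50, true), (51, false)],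
    [(2, true)],
    [(48, false)],
    [(6, true), (7, false), (24, true), (25, false), (35, false), (36, true), (48, false)],
    [(3, true)],
    [(49, false)],
    [(6, true), (9, false), (27, true), (28, false), (35, false), (38, true), (49, false)],
    [(4, true)],
    [(50, false)],
    [(7, true), (9, false), (30, true), (31, false), (36, false), (38, true), (50, false)],
    [(0, false), (1, false), (6, true), (16, false), (17, false), (18, false), (19, false), (23, false), (24, true), (32, false), (35, false), (41, false), (42, false), (44, false), (48, false), (51, false)],
    [(0, false), (1, false), (6, true), (16, false), (17, false), (18, false), (19, false), (23, false), (24, true), (33, false), (35, false), (41, false), (42, false), (44, false), (48, false), (51, false)],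
    [(0, false), (1, false), (6, true), (16, false), (17, false), (18, false), (19, false), (23, false), (24, true), (34, false), (35, false), (41, false), (42, false), (44, false), (48, false), (51, false)],
    [(0, false), (12, true), (35, true)],
    [(0, false), (12, true), (36, true)],
    [(0, false), (2, false), (6, true), (12, true), (16, false), (23, false), (24, true), (35, false), (37, false), (48, false)],
    [(0, false), (12, true), (38, true)],
    [(0, false), (3, false), (6, true), (12, true), (16, false), (26, false), (27, true), (35, false), (39, false), (49, false)],
    [(0, false), (4, false), (7, true), (12, true), (16, false), (29, false), (30, true), (36, false), (40, false), (50, false)],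
    [(0, true), (1, false), (2, true), (12, false), (17, false), (18, false), (23, false), (41, true)],
    [(0, true), (2, true), (12, false), (19, false), (23, false), (42, true), (44, false), (51, false)],
    [(0, true), (2, false), (4, false), (6, true), (7, false), (12, false), (19, false), (24, true), (29, false), (30, false), (35, false), (36, true), (42, false), (43, false), (44, false), (48, false), (50, true), (51, false)],
    [(0, true), (2, true), (12, false), (19, false), (23, false), (42, false), (44, true), (51, false)],
    [(0, true), (2, false), (3, false), (12, false), (19, false), (24, true), (26, false), (27, false), (42, false), (44, false), (45, false), (48, false), (49, true), (51, false)],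
    [(0, true), (2, true), (12, false), (19, false), (23, false), (42, false), (44, false), (46, false), (51, false)],
    [(0, true), (2, false), (3, false), (12, false), (19, false), (24, true), (26, false), (27, false), (42, false), (44, false), (47, false), (48, false), (49, true), (51, false)],
    [(24, false)],
    [(27, false)],
    [(30, false)],
    [(0, true), (2, true), (12, false), (19, false), (23, false), (42, false), (44, false), (51, true)]]

/-- The sparse columns of a generator. -/
def col35 : List (List (ℕ × Bool)) :=
  [[(13, false)],
    [(0, true), (1, true), (2, true), (13, true), (17, false), (19, false), (24, true), (42, false)],
    [(24, false)],
    [(27, false)],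
    [(0, true), (1, true), (4, false), (6, false), (16, true), (17, true), (18, true), (19, true), (23, true), (24, false), (35, true), (41, true), (42, true), (44, true), (48, true), (51, true)],
    [(32, false)],
    [(0, false), (6, true), (13, false)],
    [(0, false), (2, false), (6, true), (7, false), (13, false), (16, false), (23, false), (24, true), (35, false), (48, false)],
    [(0, false), (8, true), (13, false)],
    [(0, false), (3, false), (6, true), (9, false), (13, false), (16, false), (26, false), (27, true), (35, false), (49, false)],
    [(0, false), (10, true), (13, false)],
    [(0, false), (3, false), (5, false), (7, true), (8, false), (9, false), (10, false), (11, true), (13, false), (16, false), (20, false), (21, false), (22, true), (23, true), (24, false), (31, true), (32, true), (33, true), (34, true), (36, false), (37, true), (38, true), (39, true), (40, true), (41, true), (42, true), (43, false), (44, true), (45, false), (46, false), (47, true), (48, true), (49, true), (50, true)],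
    [(0, false), (6, false), (12, false), (13, true), (16, false), (35, false)],
    [(0, false)],
    [(0, true), (8, true), (13, false), (14, false), (16, true), (37, true)],
    [(0, true), (10, true), (13, false), (15, false), (16, true), (39, true)],
    [(0, false), (13, false), (16, true)],
    [(0, true), (1, false), (2, true), (13, true), (17, true), (19, false), (24, true), (42, false)],
    [(0, true), (2, true), (13, true), (18, true), (24, true), (41, false), (44, false), (51, false)],
    [(0, true), (1, false), (2, true), (13, true), (17, false), (19, true), (24, true), (42, false)],
    [(0, true), (2, false), (3, false), (13, true), (18, false), (20, false), (23, false), (26, true), (27, true), (41, false), (44, false), (48, false), (49, true), (51, false)],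
    [(0, true), (1, false), (2, true), (13, true), (17, false), (19, false), (21, false), (24, true), (42, false)],
    [(0, true), (2, false), (3, true), (5, false), (6, true), (7, false), (8, true), (9, true), (10, true), (11, true), (13, true), (18, false), (20, true), (21, true), (22, true), (23, true), (24, true), (31, false), (32, true), (33, false), (34, false), (35, false), (36, true), (37, false), (38, false), (39, false), (40, false), (41, true), (42, false), (43, true), (44, true), (45, true), (46, true), (47, false), (48, true), (49, false), (50, false), (51, false)],
    [(48, true)],
    [(2, false)],
    [(6, true), (8, false), (23, false), (25, false), (35, false), (37, true), (48, false)],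
    [(49, true)],
    [(3, false)],
    [(6, true), (10, false), (26, false), (28, false), (35, false), (39, true), (49, false)],
    [(0, true), (1, true), (6, false), (16, true), (17, true), (18, true), (19, true), (23, true), (24, false), (29, false), (35, true), (41, true), (42, true), (44, true), (48, true), (51, true)],
    [(0, false), (1, false), (6, true), (16, false), (17, false), (18, false), (19, false), (23, false), (24, true), (30, false), (35, false), (41, false), (42, false), (44, false), (48, false), (51, false)],
    [(0, false), (1, false), (6, true), (16, false), (17, false), (18, false), (19, false), (23, false), (24, true), (31, false), (35, false), (41, false), (42, false), (44, false), (48, false), (51, false)],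
    [(5, false)],
    [(3, false), (7, true), (8, true), (9, false), (10, false), (11, false), (20, false), (21, false), (22, true), (23, true), (24, false), (31, true), (34, true), (36, false), (37, false), (38, true), (39, true), (40, true), (41, true), (42, true), (43, false), (44, true), (45, false), (46, false), (47, true), (48, true), (49, true), (50, true)],
    [(3, false), (7, true), (8, false), (9, false), (10, true), (11, false), (20, false), (21, false), (22, true), (23, true), (24, false), (31, true), (33, true), (36, false), (37, true), (38, true), (39, false), (40, true), (41, true), (42, true), (43, false), (44, true), (45, false), (46, false), (47, true), (48, true), (49, true), (50, true)],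
    [(0, false), (13, false), (35, true)],
    [(0, false), (2, false), (6, true), (13, false), (16, false), (23, false), (24, true), (35, false), (36, false), (48, false)],
    [(0, false), (13, false), (37, true)],
    [(0, false), (3, false), (6, true), (13, false), (16, false), (26, false), (27, true), (35, false), (38, false), (49, false)],
    [(0, false), (13, false), (39, true)],
    [(0, false), (3, false), (5, false), (7, true), (8, false), (9, false), (10, false), (11, false), (13, false), (16, false), (20, false), (21, false), (22, true), (23, true), (24, false), (31, true), (32, true), (33, true), (34, true), (36, false), (37, true), (38, true), (39, true), (41, true), (42, true), (43, false), (44, true), (45, false), (46, false), (47, true), (48, true), (49, true), (50, true)],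
    [(0, true), (2, true), (13, true), (18, false), (24, true), (41, true), (44, false), (51, false)],
    [(0, true), (1, false), (2, true), (13, true), (17, false), (19, false), (24, true), (42, true)],
    [(0, true), (2, false), (3, true), (5, false), (6, true), (7, false), (8, true), (9, true), (10, true), (11, true), (13, true), (18, false), (20, true), (21, true), (22, false), (23, true), (24, true), (31, false), (32, true), (33, false), (34, false), (35, false), (36, true), (37, false), (38, false), (39, false), (40, false), (41, true), (42, false), (44, true), (45, true), (46, true), (47, false), (48, true), (49, false), (50, false), (51, false)],
    [(0, true), (2, true), (13, true), (18, false), (24, true), (41, false), (44, true), (51, false)],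
    [(0, true), (2, true), (13, true), (18, false), (24, true), (41, false), (44, false), (45, false), (51, false)],
    [(0, true), (2, false), (3, false), (13, true), (18, false), (23, false), (26, true), (27, true), (41, false), (44, false), (46, false), (48, false), (49, true), (51, false)],
    [(0, true), (2, false), (3, false), (13, true), (18, false), (23, false), (26, true), (27, true), (41, false), (44, false), (47, false), (48, false), (49, true), (51, false)],
    [(23, true)],
    [(26, true)],
    [(0, true), (1, true), (6, false), (16, true), (17, true), (18, true), (19, true), (23, true), (24, false), (35, true), (41, true), (42, true), (44, true), (48, true), (50, false), (51, true)],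
    [(0, true), (2, true), (13, true), (18, false), (24, true), (41, false), (44, false), (51, true)]]

/-- The sparse columns of a generator. -/
def col36 : List (List (ℕ × Bool)) :=
  [[(14, false)],
    [(0, true), (1, true), (2, true), (14, true), (18, false), (19, false), (25, true), (44, false)],
    [(25, false)],
    [(0, true), (1, true), (3, false), (6, false), (16, true), (17, true), (18, true), (19, true), (23, true), (24, false), (35, true), (41, true), (42, true), (44, true), (48, true), (51, true)],
    [(30, false)],
    [(33, false)],
    [(0, false), (2, false), (14, false), (16, false), (23, false), (24, true), (35, false), (48, false)],
    [(0, false), (7, true), (14, false)],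
    [(0, false), (8, true), (14, false)],
    [(0, false), (4, false), (7, true), (9, false), (14, false), (16, false), (29, false), (30, true), (36, false), (50, false)],
    [(0, false), (3, false), (5, false), (7, true), (8, false), (9, false), (10, true), (11, false), (14, false), (16, false), (20, false), (21, false), (22, true), (23, true), (24, false), (31, true), (32, true), (33, true), (34, true), (36, false), (37, true), (38, true), (39, true), (40, true), (41, true), (42, true), (43, false), (44, true), (45, false), (46, false), (47, true), (48, true), (49, true), (50, true)],
    [(0, false), (11, true), (14, false)],
    [(0, false), (7, false), (12, false), (14, true), (16, false), (36, false)],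
    [(0, true), (8, true), (13, false), (14, false), (16, true), (37, true)],
    [(0, false)],
    [(0, true), (11, true), (14, false), (15, false), (16, true), (40, true)],
    [(0, false), (14, false), (16, true)],
    [(0, true), (2, true), (14, true), (17, true), (25, true), (41, false), (42, false), (51, false)],
    [(0, true), (1, false), (2, true), (14, true), (18, true), (19, false), (25, true), (44, false)],
    [(0, true), (1, false), (2, true), (14, true), (18, false), (19, true), (25, true), (44, false)],
    [(0, true), (2, false), (4, false), (6, true), (7, false), (14, true), (17, false), (20, false), (23, false), (24, true), (25, false), (29, true), (30, true), (35, false), (36, true), (41, false), (42, false), (48, false), (50, true), (51, false)],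
    [(0, true), (2, false), (3, true), (5, false), (6, true), (7, false), (8, true), (9, true), (10, true), (11, true), (14, true), (17, false), (20, true), (22, false), (23, true), (24, false), (25, false), (31, false), (32, false), (33, true), (34, false), (35, false), (36, true), (37, false), (38, false), (39, false), (40, false), (41, true), (42, true), (43, true), (44, false), (45, true), (46, true), (47, false), (48, true), (49, false), (50, false), (51, false)],
    [(0, true), (1, false), (2, true), (14, true), (18, false), (19, false), (22, false), (25, true), (44, false)],
    [(6, false), (7, true), (24, false), (25, true), (35, true), (36, false), (48, true)],
    [(6, true), (8, false), (23, false), (25, false), (35, false), (37, true), (48, false)],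
    [(2, false)],
    [(0, true), (1, true), (6, false), (16, true), (17, true), (18, true), (19, true), (23, true), (24, false), (26, false), (35, true), (41, true), (42, true), (44, true), (48, true), (51, true)],
    [(0, false), (1, false), (6, true), (16, false), (17, false), (18, false), (19, false), (23, false), (24, true), (27, false), (35, false), (41, false), (42, false), (44, false), (48, false), (51, false)],
    [(0, false), (1, false), (6, true), (16, false), (17, false), (18, false), (19, false), (23, false), (24, true), (28, false), (35, false), (41, false), (42, false), (44, false), (48, false), (51, false)],
    [(50, true)],
    [(4, false)],
    [(7, true), (11, false), (29, false), (31, false), (36, false), (40, true), (50, false)],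
    [(3, false), (7, true), (8, true), (9, false), (10, false), (11, false), (20, false), (21, false), (22, true), (23, true), (24, false), (31, true), (34, true), (36, false), (37, false), (38, true), (39, true), (40, true), (41, true), (42, true), (43, false), (44, true), (45, false), (46, false), (47, true), (48, true), (49, true), (50, true)],
    [(5, false)],
    [(3, false), (7, true), (8, false), (9, false), (10, false), (11, true), (20, false), (21, false), (22, true), (23, true), (24, false), (31, true), (32, true), (36, false), (37, true), (38, true), (39, true), (40, false), (41, true), (42, true), (43, false), (44, true), (45, false), (46, false), (47, true), (48, true), (49, true), (50, true)],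
    [(0, false), (2, false), (6, true), (14, false), (16, false), (23, false), (24, true), (35, true), (48, false)],
    [(0, false), (14, false), (36, true)],
    [(0, false), (14, false), (37, true)],
    [(0, false), (4, false), (7, true), (14, false), (16, false), (29, false), (30, true), (36, false), (38, false), (50, false)],
    [(0, false), (3, false), (5, false), (7, true), (8, false), (9, false), (10, false), (11, false), (14, false), (16, false), (20, false), (21, false), (22, true), (23, true), (24, false), (31, true), (32, true), (33, true), (34, true), (36, false), (37, true), (38, true), (40, true), (41, true), (42, true), (43, false), (44, true), (45, false), (46, false), (47, true), (48, true), (49, true), (50, true)],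
    [(0, false), (14, false), (40, true)],
    [(0, true), (2, true), (14, true), (17, false), (25, true), (41, true), (42, false), (51, false)],
    [(0, true), (2, true), (14, true), (17, false), (25, true), (41, false), (42, true), (51, false)],
    [(0, true), (2, true), (14, true), (17, false), (25, true), (41, false), (42, false), (43, false), (51, false)],
    [(0, true), (1, false), (2, true), (14, true), (18, false), (19, false), (25, true), (44, true)],
    [(0, true), (2, false), (3, true), (5, false), (6, true), (7, false), (8, true), (9, true), (10, true), (11, true), (14, true), (17, false), (20, true), (21, true), (22, false), (23, true), (24, false), (25, false), (31, false), (32, false), (33, true), (34, false), (35, false), (36, true), (37, false), (38, false), (39, false), (40, false), (41, true), (42, true), (43, true), (44, false), (46, true), (47, false), (48, true), (49, false), (50, false), (51, false)],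
    [(0, true), (2, false), (4, false), (6, true), (7, false), (14, true), (17, false), (23, false), (24, true), (25, false), (29, true), (30, true), (35, false), (36, true), (41, false), (42, false), (46, false), (48, false), (50, true), (51, false)],
    [(0, true), (1, false), (2, true), (3, false), (4, true), (5, true), (7, false), (8, false), (9, false), (10, false), (14, true), (18, false), (19, false), (20, false), (21, false), (22, true), (23, true), (24, false), (25, true), (29, false), (30, false), (31, true), (32, true), (33, false), (34, true), (36, true), (37, true), (38, true), (39, true), (41, true), (42, true), (43, false), (45, false), (46, false), (48, true), (49, true)],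
    [(2, true), (7, false), (8, false), (25, false), (36, true), (37, true), (48, false)],
    [(0, true), (1, true), (6, false), (16, true), (17, true), (18, true), (19, true), (23, true), (24, false), (35, true), (41, true), (42, true), (44, true), (48, true), (49, false), (51, true)],
    [(29, true)],
    [(0, true), (2, true), (14, true), (17, false), (25, true), (41, false), (42, false), (51, true)]]

/-- The sparse columns of a generator. -/
def col37 : List (List (ℕ × Bool)) :=
  [[(0, true)],
    [(0, true), (1, false), (3, true)],
    [(0, false), (2, false), (6, true)],
    [(3, true)],
    [(0, false), (4, false), (9, true)],
    [(0, false), (5, false), (10, true)],
    [(6, true)],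
    [(0, true), (7, false), (12, false)],
    [(0, true), (8, false), (13, true)],
    [(9, true)],
    [(10, true)],
    [(0, true), (11, false), (15, true)],
    [(12, true)],
    [(13, true)],
    [(0, false), (14, false), (16, true)],
    [(15, true)],
    [(16, true)],
    [(0, true), (3, true), (17, false)],
    [(0, true), (18, false), (26, true)],
    [(0, true), (19, false), (27, false)],
    [(0, true), (3, true), (20, false)],
    [(0, true), (3, true), (21, false)],
    [(0, true), (22, false), (28, false)],
    [(0, false), (6, true), (23, false)],
    [(0, true), (6, false), (24, false)],
    [(0, true), (25, false), (35, false)],
    [(26, true)],
    [(27, true)],
    [(28, true)],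
    [(0, false), (9, true), (29, false)],
    [(0, true), (30, false), (38, false)],
    [(0, true), (9, false), (31, false)],
    [(0, true), (10, false), (32, false)],
    [(0, true), (33, false), (39, false)],
    [(0, true), (10, false), (34, false)],
    [(35, true)],
    [(0, true), (12, false), (36, false)],
    [(0, true), (13, true), (37, false)],
    [(38, true)],
    [(39, true)],
    [(0, true), (15, true), (40, false)],
    [(0, true), (26, true), (41, false)],
    [(0, true), (27, false), (42, false)],
    [(0, true), (28, false), (43, false)],
    [(0, true), (44, false), (49, true)],
    [(0, true), (26, true), (45, false)],
    [(0, true), (27, false), (46, false)],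
    [(0, true), (3, true), (47, false)],
    [(0, false), (6, true), (48, false)],
    [(49, true)],
    [(0, false), (38, true), (50, false)],
    [(0, true), (49, true), (51, false)]]

/-- The sparse columns of a generator. -/
def col38 : List (List (ℕ × Bool)) :=
  [[(0, true)],
    [(0, true), (1, false), (4, true)],
    [(0, false), (2, false), (7, true)],
    [(0, false), (3, false), (9, true)],
    [(4, true)],
    [(0, false), (5, false), (11, true)],
    [(0, true), (6, false), (12, false)],
    [(7, true)],
    [(0, true), (8, false), (14, true)],
    [(9, true)],
    [(0, true), (10, false), (15, true)],
    [(11, true)],
    [(12, true)],
    [(0, false), (13, false), (16, true)],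
    [(14, true)],
    [(15, true)],
    [(16, true)],
    [(0, true), (17, false), (29, true)],
    [(0, true), (4, true), (18, false)],
    [(0, true), (19, false), (30, false)],
    [(0, true), (4, true), (20, false)],
    [(0, true), (21, false), (31, false)],
    [(0, true), (4, true), (22, false)],
    [(0, false), (7, true), (23, false)],
    [(0, true), (24, false), (36, false)],
    [(0, true), (7, false), (25, false)],
    [(0, false), (9, true), (26, false)],
    [(0, true), (27, false), (38, false)],
    [(0, true), (9, false), (28, false)],
    [(29, true)],
    [(30, true)],
    [(31, true)],
    [(0, true), (32, false), (40, false)],
    [(0, true), (11, false), (33, false)],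
    [(0, true), (11, false), (34, false)],
    [(0, true), (12, false), (35, false)],
    [(36, true)],
    [(0, true), (14, true), (37, false)],
    [(38, true)],
    [(0, true), (15, true), (39, false)],
    [(40, true)],
    [(0, true), (29, true), (41, false)],
    [(0, true), (42, false), (50, true)],
    [(0, true), (29, true), (43, false)],
    [(0, true), (30, false), (44, false)],
    [(0, true), (31, false), (45, false)],
    [(0, true), (30, false), (46, false)],
    [(0, true), (31, false), (47, false)],
    [(0, false), (36, true), (48, false)],
    [(0, false), (38, true), (49, false)],
    [(50, true)],
    [(0, true), (50, true), (51, false)]]

/-- The sparse columns of a generator. -/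
def col39 : List (List (ℕ × Bool)) :=
  [[(0, true)],
    [(0, true), (1, false), (5, true)],
    [(0, false), (2, false), (8, true)],
    [(0, false), (3, false), (10, true)],
    [(0, false), (4, false), (11, true)],
    [(5, true)],
    [(0, true), (6, false), (13, true)],
    [(0, true), (7, false), (14, true)],
    [(8, true)],
    [(0, true), (9, false), (15, true)],
    [(10, true)],
    [(11, true)],
    [(0, true), (12, false), (16, false)],
    [(13, true)],
    [(14, true)],
    [(15, true)],
    [(16, true)],
    [(0, true), (17, false), (32, false)],
    [(0, true), (18, false), (33, false)],
    [(0, true), (5, true), (19, false)],
    [(0, true), (20, false), (34, false)],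
    [(0, true), (5, true), (21, false)],
    [(0, true), (5, true), (22, false)],
    [(0, false), (23, false), (37, true)],
    [(0, true), (8, false), (24, false)],
    [(0, true), (8, false), (25, false)],
    [(0, false), (26, false), (39, true)],
    [(0, true), (10, false), (27, false)],
    [(0, true), (10, false), (28, false)],
    [(0, false), (29, false), (40, true)],
    [(0, true), (11, false), (30, false)],
    [(0, true), (11, false), (31, false)],
    [(32, true)],
    [(33, true)],
    [(34, true)],
    [(0, true), (13, true), (35, false)],
    [(0, true), (14, true), (36, false)],
    [(37, true)],
    [(0, true), (15, true), (38, false)],
    [(39, true)],
    [(40, true)],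
    [(0, true), (3, true), (7, false), (8, false), (9, true), (10, true), (11, true), (20, true), (21, true), (22, false), (23, false), (24, true), (31, false), (34, false), (36, true), (37, true), (38, false), (39, false), (40, false), (41, true), (42, false), (43, true), (44, false), (45, true), (46, true), (47, false), (48, false), (49, false), (50, false)],
    [(0, true), (32, false), (42, false)],
    [(0, true), (32, false), (43, false)],
    [(0, true), (33, false), (44, false)],
    [(0, true), (33, false), (45, false)],
    [(0, true), (34, false), (46, false)],
    [(0, true), (34, false), (47, false)],
    [(0, false), (37, true), (48, false)],
    [(0, false), (39, true), (49, false)],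
    [(0, false), (40, true), (50, false)],
    [(0, true), (3, true), (7, false), (8, false), (9, true), (10, true), (11, true), (20, true), (21, true), (22, false), (23, false), (24, true), (31, false), (34, false), (36, true), (37, true), (38, false), (39, false), (40, false), (41, false), (42, false), (43, true), (44, false), (45, true), (46, true), (47, false), (48, false), (49, false), (50, false), (51, false)]]

/-- The sparse columns of a generator. -/
def col40 : List (List (ℕ × Bool)) :=
  [[(15, false)],
    [(0, true), (1, true), (3, true), (15, true), (20, false), (21, false), (28, true), (47, false)],
    [(0, true), (1, true), (2, false), (6, false), (16, true), (17, true), (18, true), (19, true), (23, true), (24, false), (35, true), (41, true), (42, true), (44, true), (48, true), (51, true)],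
    [(28, false)],
    [(31, false)],
    [(34, false)],
    [(0, false), (3, false), (15, false), (16, false), (26, false), (27, true), (35, false), (49, false)],
    [(0, false), (4, false), (15, false), (16, false), (29, false), (30, true), (36, false), (50, false)],
    [(0, false), (3, false), (5, false), (7, true), (8, true), (9, false), (10, false), (11, false), (15, false), (16, false), (20, false), (21, false), (22, true), (23, true), (24, false), (31, true), (32, true), (33, true), (34, true), (36, false), (37, true), (38, true), (39, true), (40, true), (41, true), (42, true), (43, false), (44, true), (45, false), (46, false), (47, true), (48, true), (49, true), (50, true)],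
    [(0, false), (9, true), (15, false)],
    [(0, false), (10, true), (15, false)],
    [(0, false), (11, true), (15, false)],
    [(0, false), (9, false), (12, false), (15, true), (16, false), (38, false)],
    [(0, true), (10, true), (13, false), (15, false), (16, true), (39, true)],
    [(0, true), (11, true), (14, false), (15, false), (16, true), (40, true)],
    [(0, false)],
    [(0, false), (15, false), (16, true)],
    [(0, true), (3, true), (15, true), (17, true), (18, false), (19, false), (20, true), (21, true), (23, false), (24, true), (26, true), (27, false), (28, true), (41, false), (42, false), (44, false), (47, true), (48, false), (49, true), (51, false)],
    [(0, true), (3, false), (4, false), (6, true), (7, false), (15, true), (17, false), (18, true), (19, false), (20, true), (21, true), (23, false), (24, true), (28, false), (29, true), (30, false), (31, false), (35, false), (36, true), (41, false), (42, false), (44, false), (47, true), (48, false), (50, true), (51, false)],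
    [(0, true), (5, false), (6, true), (7, false), (8, true), (9, true), (10, true), (11, true), (15, true), (17, false), (18, false), (19, true), (20, false), (21, false), (22, false), (23, true), (24, false), (28, false), (31, false), (32, false), (33, false), (34, true), (35, false), (36, true), (37, false), (38, false), (39, false), (40, false), (41, true), (42, true), (43, true), (44, true), (45, true), (46, true), (48, true), (49, false), (50, false), (51, false)],
    [(0, true), (1, false), (3, true), (15, true), (20, true), (21, false), (28, true), (47, false)],
    [(0, true), (1, false), (3, true), (15, true), (20, false), (21, true), (28, true), (47, false)],
    [(0, true), (1, false), (3, true), (15, true), (20, false), (21, false), (22, false), (28, true), (47, false)],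
    [(0, true), (1, true), (6, false), (16, true), (17, true), (18, true), (19, true), (24, false), (35, true), (41, true), (42, true), (44, true), (48, true), (51, true)],
    [(0, false), (1, false), (6, true), (16, false), (17, false), (18, false), (19, false), (23, false), (35, false), (41, false), (42, false), (44, false), (48, false), (51, false)],
    [(0, false), (1, false), (6, true), (16, false), (17, false), (18, false), (19, false), (23, false), (24, true), (25, false), (35, false), (41, false), (42, false), (44, false), (48, false), (51, false)],
    [(6, false), (9, true), (27, false), (28, true), (35, true), (38, false), (49, true)],
    [(6, true), (10, false), (26, false), (28, false), (35, false), (39, true), (49, false)],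
    [(3, false)],
    [(7, false), (9, true), (30, false), (31, true), (36, true), (38, false), (50, true)],
    [(7, true), (11, false), (29, false), (31, false), (36, false), (40, true), (50, false)],
    [(4, false)],
    [(3, false), (7, true), (8, false), (9, false), (10, true), (11, false), (20, false), (21, false), (22, true), (23, true), (24, false), (31, true), (33, true), (36, false), (37, true), (38, true), (39, false), (40, true), (41, true), (42, true), (43, false), (44, true), (45, false), (46, false), (47, true), (48, true), (49, true), (50, true)],
    [(3, false), (7, true), (8, false), (9, false), (10, false), (11, true), (20, false), (21, false), (22, true), (23, true), (24, false), (31, true), (32, true), (36, false), (37, true), (38, true), (39, true), (40, false), (41, true), (42, true), (43, false), (44, true), (45, false), (46, false), (47, true), (48, true), (49, true), (50, true)],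
    [(5, false)],
    [(0, false), (3, false), (6, true), (15, false), (16, false), (26, false), (27, true), (35, true), (49, false)],
    [(0, false), (4, false), (7, true), (15, false), (16, false), (29, false), (30, true), (36, true), (50, false)],
    [(0, false), (3, false), (5, false), (7, true), (8, false), (9, false), (10, false), (11, false), (15, false), (16, false), (20, false), (21, false), (22, true), (23, true), (24, false), (31, true), (32, true), (33, true), (34, true), (36, false), (38, true), (39, true), (40, true), (41, true), (42, true), (43, false), (44, true), (45, false), (46, false), (47, true), (48, true), (49, true), (50, true)],
    [(0, false), (15, false), (38, true)],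
    [(0, false), (15, false), (39, true)],
    [(0, false), (15, false), (40, true)],
    [(0, true), (1, false), (3, false), (4, true), (6, true), (7, true), (9, true), (15, true), (20, false), (21, false), (26, false), (27, true), (28, false), (29, false), (30, true), (31, true), (35, false), (36, false), (38, false), (41, false), (47, false), (49, false), (50, false)],
    [(0, true), (1, false), (3, true), (5, true), (6, true), (7, true), (8, false), (9, false), (11, false), (15, true), (20, true), (21, true), (22, true), (23, true), (24, false), (26, false), (27, true), (28, false), (31, true), (32, true), (33, true), (34, false), (35, false), (36, false), (37, true), (38, true), (40, true), (41, true), (43, false), (44, true), (45, false), (46, false), (48, true), (50, true)],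
    [(0, true), (3, true), (15, true), (17, false), (18, false), (19, false), (20, true), (21, true), (23, false), (24, true), (26, true), (27, false), (28, true), (41, false), (42, false), (43, false), (44, false), (47, true), (48, false), (49, true), (51, false)],
    [(0, true), (1, false), (4, true), (5, true), (7, false), (8, false), (9, false), (10, false), (15, true), (20, true), (21, true), (22, true), (23, true), (24, false), (28, true), (29, false), (30, true), (31, false), (32, true), (33, true), (34, false), (36, true), (37, true), (38, true), (39, true), (41, true), (42, true), (43, false), (45, false), (46, false), (48, true), (49, true)],
    [(0, true), (3, false), (4, false), (6, true), (7, false), (15, true), (17, false), (18, false), (19, false), (20, true), (21, true), (23, false), (24, true), (28, false), (29, true), (30, false), (31, false), (35, false), (36, true), (41, false), (42, false), (44, false), (45, false), (47, true), (48, false), (50, true), (51, false)],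
    [(0, true), (5, false), (6, true), (7, false), (8, true), (9, true), (10, true), (11, true), (15, true), (17, false), (18, false), (19, false), (20, false), (21, false), (22, false), (23, true), (24, false), (28, false), (31, false), (32, false), (33, false), (34, true), (35, false), (36, true), (37, false), (38, false), (39, false), (40, false), (41, true), (42, true), (43, true), (44, true), (45, true), (48, true), (49, false), (50, false), (51, false)],
    [(0, true), (1, false), (3, true), (15, true), (20, false), (21, false), (28, true), (47, true)],
    [(0, true), (1, true), (6, false), (16, true), (17, true), (18, true), (19, true), (23, true), (24, false), (35, true), (41, true), (42, true), (44, true), (51, true)],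
    [(3, true), (9, false), (10, false), (28, false), (38, true), (39, true), (49, false)],
    [(4, true), (9, false), (11, false), (31, false), (38, true), (40, true), (50, false)],
    [(0, true), (3, false), (4, false), (5, false), (7, true), (8, true), (15, true), (17, false), (18, false), (19, false), (20, false), (21, false), (22, false), (23, true), (24, false), (26, true), (27, false), (28, true), (29, true), (30, false), (31, true), (32, false), (33, false), (34, true), (36, false), (37, false), (41, true), (42, true), (43, true), (44, true), (45, true), (46, true), (48, true), (51, true)]]

/-- The sparse columns of a generator. -/
def col41 : List (List (ℕ × Bool)) :=
  [[(0, false)],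
    [(17, false)],
    [(2, false)],
    [(3, false)],
    [(29, false)],
    [(32, true)],
    [(6, false)],
    [(7, false)],
    [(8, false)],
    [(9, false)],
    [(10, false)],
    [(40, false)],
    [(12, false)],
    [(13, false)],
    [(14, false)],
    [(15, false)],
    [(16, false)],
    [(1, false)],
    [(41, false)],
    [(42, false)],
    [(2, true), (3, false), (18, false), (20, true), (23, false), (26, true), (41, false)],
    [(2, true), (3, false), (19, false), (21, true), (24, true), (27, false), (42, false)],
    [(43, false)],
    [(23, false)],
    [(24, false)],
    [(25, false)],
    [(26, false)],
    [(27, false)],
    [(28, false)],
    [(4, false)],
    [(50, true)],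
    [(7, false), (9, true), (30, false), (31, true), (36, true), (38, false), (50, true)],
    [(5, true)],
    [(3, true), (7, false), (8, false), (9, true), (10, true), (11, true), (20, true), (21, true), (22, false), (23, false), (24, true), (31, false), (34, false), (36, true), (37, true), (38, false), (39, false), (40, false), (41, false), (42, false), (43, true), (44, false), (45, true), (46, true), (47, false), (48, false), (49, false), (50, false)],
    [(3, true), (7, false), (8, true), (9, true), (10, false), (11, true), (20, true), (21, true), (22, false), (23, false), (24, true), (31, false), (33, false), (36, true), (37, false), (38, false), (39, true), (40, false), (41, false), (42, false), (43, true), (44, false), (45, true), (46, true), (47, false), (48, false), (49, false), (50, false)],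
    [(35, false)],
    [(36, false)],
    [(37, false)],
    [(38, false)],
    [(39, false)],
    [(11, false)],
    [(18, false)],
    [(19, false)],
    [(22, false)],
    [(51, false)],
    [(2, true), (24, true), (26, false), (44, false), (45, true), (49, true), (51, false)],
    [(2, true), (23, false), (27, true), (44, false), (46, true), (49, true), (51, false)],
    [(2, true), (3, false), (44, false), (47, true), (48, false), (49, true), (51, false)],
    [(48, false)],
    [(49, false)],
    [(30, true)],
    [(44, false)]]

/-- The sparse columns of a generator. -/
def col42 : List (List (ℕ × Bool)) :=
  [[(0, false)],
    [(18, false)],
    [(2, false)],
    [(26, false)],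
    [(4, false)],
    [(33, true)],
    [(6, false)],
    [(7, false)],
    [(8, false)],
    [(9, false)],
    [(39, false)],
    [(11, false)],
    [(12, false)],
    [(13, false)],
    [(14, false)],
    [(15, false)],
    [(16, false)],
    [(41, false)],
    [(1, false)],
    [(44, false)],
    [(2, true), (4, false), (17, false), (20, true), (23, false), (29, true), (41, false)],
    [(45, false)],
    [(2, true), (4, false), (19, false), (22, true), (25, true), (30, false), (44, false)],
    [(23, false)],
    [(24, false)],
    [(25, false)],
    [(3, false)],
    [(49, true)],
    [(6, false), (9, true), (27, false), (28, true), (35, true), (38, false), (49, true)],
    [(29, false)],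
    [(30, false)],
    [(31, false)],
    [(3, true), (7, false), (8, false), (9, true), (10, true), (11, true), (20, true), (21, true), (22, false), (23, false), (24, true), (31, false), (34, false), (36, true), (37, true), (38, false), (39, false), (40, false), (41, false), (42, false), (43, true), (44, false), (45, true), (46, true), (47, false), (48, false), (49, false), (50, false)],
    [(5, true)],
    [(3, true), (7, false), (8, true), (9, true), (10, true), (11, false), (20, true), (21, true), (22, false), (23, false), (24, true), (31, false), (32, false), (36, true), (37, false), (38, false), (39, false), (40, true), (41, false), (42, false), (43, true), (44, false), (45, true), (46, true), (47, false), (48, false), (49, false), (50, false)],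
    [(35, false)],
    [(36, false)],
    [(37, false)],
    [(38, false)],
    [(10, false)],
    [(40, false)],
    [(17, false)],
    [(51, false)],
    [(2, true), (25, true), (29, false), (42, false), (43, true), (50, true), (51, false)],
    [(19, false)],
    [(21, false)],
    [(2, true), (23, false), (30, true), (42, false), (46, true), (50, true), (51, false)],
    [(2, false), (3, false), (7, false), (9, true), (19, false), (21, true), (24, true), (26, false), (27, false), (30, false), (31, false), (36, true), (38, false), (42, false), (44, false), (45, true), (47, true), (48, false), (49, true), (50, true), (51, false)],
    [(48, false)],
    [(27, true)],
    [(50, false)],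
    [(42, false)]]

/-- The sparse columns of a generator. -/
def col43 : List (List (ℕ × Bool)) :=
  [[(0, false)],
    [(19, false)],
    [(2, false)],
    [(27, true)],
    [(30, true)],
    [(5, false)],
    [(6, false)],
    [(7, false)],
    [(8, false)],
    [(38, false)],
    [(10, false)],
    [(11, false)],
    [(12, false)],
    [(13, false)],
    [(14, false)],
    [(15, false)],
    [(16, false)],
    [(42, false)],
    [(44, false)],
    [(1, false)],
    [(46, false)],
    [(2, true), (5, false), (17, false), (21, true), (24, true), (32, false), (42, false)],
    [(2, true), (5, false), (18, false), (22, true), (25, true), (33, false), (44, false)],
    [(23, false)],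
    [(24, false)],
    [(25, false)],
    [(49, false)],
    [(3, true)],
    [(6, false), (10, true), (26, true), (28, true), (35, true), (39, false), (49, true)],
    [(50, false)],
    [(4, true)],
    [(7, false), (11, true), (29, true), (31, true), (36, true), (40, false), (50, true)],
    [(32, false)],
    [(33, false)],
    [(34, false)],
    [(35, false)],
    [(36, false)],
    [(37, false)],
    [(9, false)],
    [(39, false)],
    [(40, false)],
    [(51, false)],
    [(17, false)],
    [(2, true), (3, true), (7, false), (8, false), (9, true), (10, true), (11, true), (20, true), (21, true), (22, false), (23, false), (24, true), (25, true), (31, false), (32, true), (34, false), (36, true), (37, true), (38, false), (39, false), (40, false), (41, true), (42, false), (43, false), (44, false), (45, true), (46, true), (47, false), (48, false), (49, false), (50, false), (51, false)],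
    [(18, false)],
    [(2, true), (3, true), (7, false), (8, false), (9, true), (10, true), (11, true), (20, true), (21, true), (22, false), (23, false), (24, false), (31, false), (33, true), (34, false), (36, true), (37, true), (38, false), (39, false), (40, false), (41, true), (42, false), (43, true), (44, false), (45, false), (46, true), (47, false), (48, false), (49, false), (50, false), (51, false)],
    [(20, false)],
    [(2, false), (7, false), (8, true), (9, true), (10, false), (11, true), (18, false), (20, false), (21, true), (22, false), (23, true), (24, true), (26, true), (27, true), (31, false), (33, false), (34, true), (36, true), (37, false), (38, false), (39, true), (40, false), (41, true), (42, false), (43, true), (44, true), (45, true), (46, false), (48, true), (50, false), (51, false)],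
    [(48, false)],
    [(26, false)],
    [(29, false)],
    [(41, false)]]

/-- The sparse columns of a generator. -/
def col44 : List (List (ℕ × Bool)) :=
  [[(16, true)],
    [(0, false), (6, false), (16, true), (17, true), (18, true), (19, true), (23, true), (24, false), (35, true), (41, true), (42, true), (44, true), (48, true), (51, true)],
    [(0, false), (2, true), (6, true), (16, true), (23, false), (24, true), (35, false), (48, false)],
    [(0, false), (3, true), (6, true), (16, true), (26, false), (27, true), (35, false), (49, false)],
    [(0, false), (4, true), (7, true), (16, true), (29, false), (30, true), (36, false), (50, false)],
    [(0, false), (3, false), (5, true), (7, true), (8, false), (9, false), (10, false), (11, false), (16, true), (20, false), (21, false), (22, true), (23, true), (24, false), (31, true), (32, true), (33, true), (34, true), (36, false), (37, true), (38, true), (39, true), (40, true), (41, true), (42, true), (43, false), (44, true), (45, false), (46, false), (47, true), (48, true), (49, true), (50, true)],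
    [(35, true)],
    [(36, true)],
    [(37, true)],
    [(38, true)],
    [(39, true)],
    [(40, true)],
    [(0, false), (12, true), (16, true)],
    [(0, true), (13, true), (16, false)],
    [(0, true), (14, true), (16, false)],
    [(0, true), (15, true), (16, false)],
    [(0, true)],
    [(0, false), (1, true), (6, false), (16, true), (18, true), (19, true), (23, true), (24, false), (35, true), (41, true), (42, true), (44, true), (48, true), (51, true)],
    [(0, false), (1, true), (6, false), (16, true), (17, true), (19, true), (23, true), (24, false), (35, true), (41, true), (42, true), (44, true), (48, true), (51, true)],
    [(0, false), (1, true), (6, false), (16, true), (17, true), (18, true), (23, true), (24, false), (35, true), (41, true), (42, true), (44, true), (48, true), (51, true)],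
    [(0, false), (1, true), (6, false), (16, true), (17, true), (18, true), (19, true), (20, false), (23, true), (24, false), (35, true), (41, true), (42, true), (44, true), (48, true), (51, true)],
    [(0, false), (1, true), (6, false), (16, true), (17, true), (18, true), (19, true), (21, false), (23, true), (24, false), (35, true), (41, true), (42, true), (44, true), (48, true), (51, true)],
    [(0, false), (1, true), (6, false), (16, true), (17, true), (18, true), (19, true), (22, false), (23, true), (24, false), (35, true), (41, true), (42, true), (44, true), (48, true), (51, true)],
    [(0, false), (2, false), (6, true), (16, true), (23, true), (24, true), (35, false), (48, false)],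
    [(0, true), (2, true), (6, false), (16, false), (23, true), (24, true), (35, true), (48, true)],
    [(0, true), (2, true), (6, false), (16, false), (23, true), (24, false), (25, false), (35, true), (48, true)],
    [(0, false), (3, false), (6, true), (16, true), (26, true), (27, true), (35, false), (49, false)],
    [(0, true), (3, true), (6, false), (16, false), (26, true), (27, true), (35, true), (49, true)],
    [(0, true), (3, true), (6, false), (16, false), (26, true), (27, false), (28, false), (35, true), (49, true)],
    [(0, false), (4, false), (7, true), (16, true), (29, true), (30, true), (36, false), (50, false)],
    [(0, true), (4, true), (7, false), (16, false), (29, true), (30, true), (36, true), (50, true)],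
    [(0, true), (4, true), (7, false), (16, false), (29, true), (30, false), (31, false), (36, true), (50, true)],
    [(0, true), (3, true), (5, true), (7, false), (8, true), (9, true), (10, true), (11, true), (16, false), (20, true), (21, true), (22, false), (23, false), (24, true), (31, false), (32, true), (33, false), (34, false), (36, true), (37, false), (38, false), (39, false), (40, false), (41, false), (42, false), (43, true), (44, false), (45, true), (46, true), (47, false), (48, false), (49, false), (50, false)],
    [(0, true), (3, true), (5, true), (7, false), (8, true), (9, true), (10, true), (11, true), (16, false), (20, true), (21, true), (22, false), (23, false), (24, true), (31, false), (32, false), (33, true), (34, false), (36, true), (37, false), (38, false), (39, false), (40, false), (41, false), (42, false), (43, true), (44, false), (45, true), (46, true), (47, false), (48, false), (49, false), (50, false)],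
    [(0, true), (3, true), (5, true), (7, false), (8, true), (9, true), (10, true), (11, true), (16, false), (20, true), (21, true), (22, false), (23, false), (24, true), (31, false), (32, false), (33, false), (34, true), (36, true), (37, false), (38, false), (39, false), (40, false), (41, false), (42, false), (43, true), (44, false), (45, true), (46, true), (47, false), (48, false), (49, false), (50, false)],
    [(6, true)],
    [(7, true)],
    [(8, true)],
    [(9, true)],
    [(10, true)],
    [(11, true)],
    [(0, false), (1, true), (6, false), (16, true), (17, true), (18, true), (19, true), (23, true), (24, false), (35, true), (42, true), (44, true), (48, true), (51, true)],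
    [(0, false), (1, true), (6, false), (16, true), (17, true), (18, true), (19, true), (23, true), (24, false), (35, true), (41, true), (44, true), (48, true), (51, true)],
    [(0, false), (1, true), (6, false), (16, true), (17, true), (18, true), (19, true), (23, true), (24, false), (35, true), (41, true), (42, true), (43, false), (44, true), (48, true), (51, true)],
    [(0, false), (1, true), (6, false), (16, true), (17, true), (18, true), (19, true), (23, true), (24, false), (35, true), (41, true), (42, true), (48, true), (51, true)],
    [(0, false), (1, true), (6, false), (16, true), (17, true), (18, true), (19, true), (23, true), (24, false), (35, true), (41, true), (42, true), (44, true), (45, false), (48, true), (51, true)],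
    [(0, false), (1, true), (6, false), (16, true), (17, true), (18, true), (19, true), (23, true), (24, false), (35, true), (41, true), (42, true), (44, true), (46, false), (48, true), (51, true)],
    [(0, false), (1, true), (6, false), (16, true), (17, true), (18, true), (19, true), (23, true), (24, false), (35, true), (41, true), (42, true), (44, true), (47, false), (48, true), (51, true)],
    [(0, false), (2, false), (6, true), (16, true), (23, false), (24, true), (35, false), (48, true)],
    [(0, false), (3, false), (6, true), (16, true), (26, false), (27, true), (35, false), (49, true)],
    [(0, false), (4, false), (7, true), (16, true), (29, false), (30, true), (36, false), (50, true)],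
    [(0, false), (1, true), (6, false), (16, true), (17, true), (18, true), (19, true), (23, true), (24, false), (35, true), (41, true), (42, true), (44, true), (48, true)]]

/-- The sparse columns of a generator. -/
def col45 : List (List (ℕ × Bool)) :=
  [[(0, false)],
    [(20, false)],
    [(23, false)],
    [(3, false)],
    [(4, false)],
    [(34, true)],
    [(6, false)],
    [(7, false)],
    [(37, false)],
    [(9, false)],
    [(10, false)],
    [(11, false)],
    [(12, false)],
    [(13, false)],
    [(14, false)],
    [(15, false)],
    [(16, false)],
    [(2, true), (3, false), (18, false), (20, true), (23, false), (26, true), (41, false)],
    [(2, true), (4, false), (17, false), (20, true), (23, false), (29, true), (41, false)],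
    [(46, false)],
    [(1, false)],
    [(47, false)],
    [(3, true), (4, false), (21, false), (22, true), (28, true), (31, false), (47, false)],
    [(2, false)],
    [(48, true)],
    [(6, false), (7, true), (24, false), (25, true), (35, true), (36, false), (48, true)],
    [(26, false)],
    [(27, false)],
    [(28, false)],
    [(29, false)],
    [(30, false)],
    [(31, false)],
    [(3, true), (7, false), (8, true), (9, true), (10, false), (11, true), (20, true), (21, true), (22, false), (23, false), (24, true), (31, false), (33, false), (36, true), (37, false), (38, false), (39, true), (40, false), (41, false), (42, false), (43, true), (44, false), (45, true), (46, true), (47, false), (48, false), (49, false), (50, false)],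
    [(3, true), (7, false), (8, true), (9, true), (10, true), (11, false), (20, true), (21, true), (22, false), (23, false), (24, true), (31, false), (32, false), (36, true), (37, false), (38, false), (39, false), (40, true), (41, false), (42, false), (43, true), (44, false), (45, true), (46, true), (47, false), (48, false), (49, false), (50, false)],
    [(5, true)],
    [(35, false)],
    [(36, false)],
    [(8, false)],
    [(38, false)],
    [(39, false)],
    [(40, false)],
    [(1, false), (3, true), (4, true), (20, false), (26, false), (29, false), (41, true)],
    [(2, true), (23, false), (27, true), (44, false), (46, true), (49, true), (51, false)],
    [(2, false), (3, false), (7, false), (9, true), (19, false), (21, true), (24, true), (27, false), (28, true), (29, false), (30, false), (31, true), (36, true), (38, false), (42, false), (43, true), (44, false), (47, true), (48, false), (49, true), (50, true), (51, false)],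
    [(2, true), (23, false), (30, true), (42, false), (46, true), (50, true), (51, false)],
    [(2, false), (3, false), (7, false), (9, true), (19, false), (21, true), (24, true), (26, false), (27, false), (30, false), (31, false), (36, true), (38, false), (42, false), (44, false), (45, true), (47, true), (48, false), (49, true), (50, true), (51, false)],
    [(19, false)],
    [(21, false)],
    [(24, true)],
    [(49, false)],
    [(50, false)],
    [(19, false), (27, false), (30, false), (46, false), (49, false), (50, false), (51, true)]]

/-- The sparse columns of a generator. -/
def col46 : List (List (ℕ × Bool)) :=
  [[(0, false)],
    [(21, false)],
    [(24, true)],
    [(3, false)],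
    [(31, true)],
    [(5, false)],
    [(6, false)],
    [(36, false)],
    [(8, false)],
    [(9, false)],
    [(10, false)],
    [(11, false)],
    [(12, false)],
    [(13, false)],
    [(14, false)],
    [(15, false)],
    [(16, false)],
    [(2, true), (3, false), (19, false), (21, true), (24, true), (27, false), (42, false)],
    [(45, false)],
    [(2, true), (5, false), (17, false), (21, true), (24, true), (32, false), (42, false)],
    [(47, false)],
    [(1, false)],
    [(3, true), (5, false), (20, false), (22, true), (28, true), (34, false), (47, false)],
    [(48, false)],
    [(2, true)],
    [(6, false), (8, true), (23, true), (25, true), (35, true), (37, false), (48, true)],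
    [(26, false)],
    [(27, false)],
    [(28, false)],
    [(7, true), (9, false), (30, true), (31, false), (36, false), (38, true), (50, false)],
    [(7, false), (11, true), (29, true), (31, true), (36, true), (40, false), (50, true)],
    [(4, true)],
    [(32, false)],
    [(33, false)],
    [(34, false)],
    [(35, false)],
    [(7, false)],
    [(37, false)],
    [(38, false)],
    [(39, false)],
    [(40, false)],
    [(2, true), (24, true), (26, false), (44, false), (45, true), (49, true), (51, false)],
    [(1, false), (3, true), (5, true), (21, false), (27, true), (32, true), (42, true)],
    [(2, false), (7, false), (8, true), (9, true), (10, false), (11, true), (18, false), (20, false), (21, true), (22, false), (23, true), (24, true), (26, true), (28, true), (31, false), (32, true), (33, false), (36, true), (37, false), (38, false), (39, true), (40, false), (41, true), (42, false), (43, false), (44, true), (45, true), (46, true), (48, true), (50, false), (51, false)],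
    [(2, true), (3, true), (7, false), (8, false), (9, true), (10, true), (11, true), (20, true), (21, true), (22, false), (23, false), (24, false), (31, false), (33, true), (34, false), (36, true), (37, true), (38, false), (39, false), (40, false), (41, true), (42, false), (43, true), (44, false), (45, false), (46, true), (47, false), (48, false), (49, false), (50, false), (51, false)],
    [(18, false)],
    [(2, false), (7, false), (8, true), (9, true), (10, false), (11, true), (18, false), (20, false), (21, true), (22, false), (23, true), (24, true), (26, true), (27, true), (31, false), (33, false), (34, true), (36, true), (37, false), (38, false), (39, true), (40, false), (41, true), (42, false), (43, true), (44, true), (45, true), (46, false), (48, true), (50, false), (51, false)],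
    [(20, false)],
    [(23, false)],
    [(49, false)],
    [(4, false), (9, true), (11, true), (31, true), (38, false), (40, false), (50, true)],
    [(3, false), (7, true), (8, true), (9, false), (10, false), (11, false), (18, false), (20, false), (21, false), (22, true), (23, true), (24, false), (26, true), (31, true), (33, false), (34, true), (36, false), (37, false), (38, true), (39, true), (40, true), (41, true), (42, true), (43, false), (44, true), (45, true), (46, false), (47, true), (48, true), (50, true), (51, true)]]

/-- The sparse columns of a generator. -/
def col47 : List (List (ℕ × Bool)) :=
  [[(0, false)],
    [(22, false)],
    [(25, true)],
    [(28, true)],
    [(4, false)],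
    [(5, false)],
    [(35, false)],
    [(7, false)],
    [(8, false)],
    [(9, false)],
    [(10, false)],
    [(11, false)],
    [(12, false)],
    [(13, false)],
    [(14, false)],
    [(15, false)],
    [(16, false)],
    [(43, false)],
    [(2, true), (4, false), (19, false), (22, true), (25, true), (30, false), (44, false)],
    [(2, true), (5, false), (18, false), (22, true), (25, true), (33, false), (44, false)],
    [(3, true), (4, false), (21, false), (22, true), (28, true), (31, false), (47, false)],
    [(3, true), (5, false), (20, false), (22, true), (28, true), (34, false), (47, false)],
    [(1, false)],
    [(6, true), (7, false), (24, true), (25, false), (35, false), (36, true), (48, false)],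
    [(6, false), (8, true), (23, true), (25, true), (35, true), (37, false), (48, true)],
    [(2, true)],
    [(6, true), (9, false), (27, true), (28, false), (35, false), (38, true), (49, false)],
    [(6, false), (10, true), (26, true), (28, true), (35, true), (39, false), (49, true)],
    [(3, true)],
    [(29, false)],
    [(30, false)],
    [(31, false)],
    [(32, false)],
    [(33, false)],
    [(34, false)],
    [(6, false)],
    [(36, false)],
    [(37, false)],
    [(38, false)],
    [(39, false)],
    [(40, false)],
    [(2, true), (25, true), (29, false), (42, false), (43, true), (50, true), (51, false)],
    [(2, true), (3, true), (7, false), (8, false), (9, true), (10, true), (11, true), (20, true), (21, true), (22, false), (23, false), (24, true), (25, true), (31, false), (32, true), (34, false), (36, true), (37, true), (38, false), (39, false), (40, false), (41, true), (42, false), (43, false), (44, false), (45, true), (46, true), (47, false), (48, false), (49, false), (50, false), (51, false)],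
    [(17, false)],
    [(1, false), (4, true), (5, true), (22, false), (30, true), (33, true), (44, true)],
    [(2, false), (6, true), (7, true), (8, true), (9, true), (10, true), (11, false), (17, false), (20, false), (21, false), (22, true), (23, true), (24, false), (25, false), (28, false), (29, true), (31, true), (32, false), (33, true), (35, false), (36, false), (37, false), (38, false), (39, false), (40, true), (41, true), (42, true), (43, true), (44, false), (45, false), (46, true), (48, true), (49, false), (51, false)],
    [(2, false), (6, true), (7, true), (8, true), (9, true), (10, true), (11, false), (17, false), (20, false), (21, false), (22, true), (23, true), (24, false), (25, false), (28, false), (29, true), (30, true), (32, false), (34, true), (35, false), (36, false), (37, false), (38, false), (39, false), (40, true), (41, true), (42, true), (43, true), (44, false), (45, true), (46, false), (48, true), (49, false), (51, false)],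
    [(1, false), (4, true), (5, true), (22, false), (31, true), (34, true), (47, true)],
    [(2, false), (7, true), (8, true), (25, true), (36, false), (37, false), (48, true)],
    [(3, false), (9, true), (10, true), (28, true), (38, false), (39, false), (49, true)],
    [(50, false)],
    [(3, false), (7, true), (8, true), (9, false), (10, false), (11, false), (17, false), (20, false), (21, false), (22, true), (23, true), (24, false), (29, true), (31, true), (32, false), (34, true), (36, false), (37, false), (38, true), (39, true), (40, true), (41, true), (42, true), (43, true), (44, true), (45, false), (46, false), (47, true), (48, true), (49, true), (51, true)]]

/-- The sparse columns. -/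
def genCols : List (List (List (ℕ × Bool))) :=
  [col0,
    col1,
    col2,
    col3,
    col4,
    col5,
    col6,
    col7,
    col8,
    col9,
    col10,
    col11,
    col12,
    col13,
    col14,
    col15,
    col16,
    col17,
    col18,
    col19,
    col20,
    col21,
    col22,
    col23,
    col24,
    col25,
    col26,
    col27,
    col28,
    col29,
    col30,
    col31,
    col32,
    col33,
    col34,
    col35,
    col36,
    col37,
    col38,
    col39,
    col40,
    col41,
    col42,
    col43,
    col44,
    col45,
    col46,
    col47]

end Cfsg.Agent.Chev.F4Two
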