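import Cfsg.Agent.Chev.F4Two.Tables

/-! # Rows determining the deviations of lifts -/

set_option autoImplicit false
set_option maxRecDepth 100000
set_option maxHeartbeats 0

namespace Cfsg.Agent.Chev.F4Two

/-- Rows. -/
def rows0 : List Row :=
  [⟨2353, 1, [0, 24], [0], []⟩,
    ⟨2354, 1, [0, 26], [0], []⟩,
    ⟨2373, 1, [0, 45], [], [0, 2]⟩,
    ⟨2375, 1, [0, 46], [], [0, 2]⟩,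
    ⟨2352, 1, [1, 23], [0], []⟩,
    ⟨2374, 1, [1, 45], [], [0, 2]⟩,
    ⟨2376, 1, [1, 47], [], [0, 2]⟩,
    ⟨2377, 1, [2, 46], [], [0, 2]⟩,
    ⟨2378, 1, [2, 47], [], [0, 2]⟩,
    ⟨2397, 1, [21, 47], [], [0, 2]⟩,
    ⟨2398, 1, [23, 47], [], [0, 2]⟩,
    ⟨2399, 1, [24, 46], [], [0, 2]⟩,
    ⟨2401, 2, [0, 24], [0], []⟩,
    ⟨2405, 2, [0, 32], [], [0, 2]⟩,
    ⟨2415, 2, [0, 42], [0], []⟩,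
    ⟨2423, 2, [0, 46], [], [0, 2]⟩,
    ⟨2400, 2, [1, 23], [0], []⟩,
    ⟨2406, 2, [1, 32], [], [0, 2]⟩,
    ⟨2424, 2, [1, 47], [], [0, 2]⟩,
    ⟨2432, 2, [5, 47], [], [0, 2]⟩,
    ⟨2441, 2, [15, 46], [], [0, 2]⟩,
    ⟨2442, 2, [15, 47], [], [0, 2]⟩,
    ⟨2446, 2, [23, 47], [], [0, 2]⟩,
    ⟨2447, 2, [24, 46], [], [0, 2]⟩,
    ⟨2455, 3, [3, 33], [0], []⟩,
    ⟨2458, 3, [3, 36], [], [0, 2]⟩,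
    ⟨2459, 3, [3, 37], [0], []⟩,
    ⟨2462, 3, [3, 40], [], [0, 2]⟩,
    ⟨2451, 3, [7, 14], [0], []⟩,
    ⟨2466, 3, [7, 37], [0], []⟩,
    ⟨2477, 3, [10, 40], [], [0, 2]⟩,
    ⟨2484, 3, [10, 44], [], [0, 2]⟩,
    ⟨2485, 3, [11, 44], [], [0, 2]⟩,
    ⟨2488, 3, [14, 44], [], [0, 2]⟩,
    ⟨2492, 3, [33, 40], [], [0, 2]⟩,
    ⟨2504, 4, [3, 34], [0], []⟩,
    ⟨2509, 4, [3, 39], [], [0, 2]⟩,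
    ⟨2510, 4, [3, 40], [], [0, 2]⟩,
    ⟨2499, 4, [7, 14], [0], []⟩,
    ⟨2516, 4, [7, 39], [], [0, 2]⟩,
    ⟨2540, 4, [33, 40], [], [0, 2]⟩,
    ⟨1329, 0, [33, 25, 24], [0, 1, 0, 2], [1, 0, 1]⟩,
    ⟨1328, 0, [32, 25, 24], [0, 1, 0], [1, 0, 1, 2]⟩,
    ⟨1325, 0, [29, 25, 24], [0, 1, 0], [1, 0, 1, 2]⟩,
    ⟨1339, 0, [43, 25, 24], [0, 1, 0], [1, 0, 1, 2]⟩,
    ⟨1332, 0, [36, 25, 24], [0, 1, 0], [1, 0, 1, 2]⟩,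
    ⟨1343, 0, [47, 25, 24], [0, 1, 0], [1, 0, 1, 2]⟩,
    ⟨1335, 0, [39, 25, 24], [0, 1, 0], [1, 0, 1, 2]⟩,
    ⟨1336, 0, [40, 25, 24], [0, 1, 0], [1, 0, 1, 2]⟩,
    ⟨1340, 0, [44, 25, 24], [0, 1, 0], [1, 0, 1, 2]⟩,
    ⟨1234, 0, [33, 27, 24], [0, 2, 1, 0], [1, 0, 1]⟩,
    ⟨1375, 0, [30, 27, 24], [0, 1, 0], [1, 0, 2, 1]⟩,
    ⟨1386, 0, [41, 27, 24], [0, 1, 0], [1, 0, 2, 1]⟩,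
    ⟨1238, 0, [36, 27, 24], [0, 2, 1, 0], [1, 0, 1]⟩,
    ⟨1391, 0, [46, 27, 24], [0, 1, 0], [1, 0, 2, 1]⟩,
    ⟨1240, 0, [39, 27, 24], [0, 2, 1, 0], [1, 0, 1]⟩,
    ⟨1674, 0, [41, 33, 24], [0, 1, 0], [1, 0, 2, 1]⟩,
    ⟨1236, 0, [29, 33, 24], [0, 2, 1, 0], [1, 0, 1]⟩,
    ⟨1679, 0, [46, 33, 24], [0, 1, 0], [1, 0, 2, 1]⟩,
    ⟨1244, 0, [40, 33, 24], [0, 2, 1, 0], [1, 0, 1]⟩,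
    ⟨1247, 0, [45, 26, 24], [0, 2, 1, 0], [1, 0, 1]⟩,
    ⟨1570, 0, [34, 30, 24], [0, 1, 0, 2], [1, 0, 1]⟩,
    ⟨1568, 0, [32, 30, 24], [0, 1, 0], [1, 0, 1, 2]⟩,
    ⟨1471, 0, [29, 30, 24], [0, 1, 0], [1, 0, 1, 2]⟩,
    ⟨1581, 0, [45, 30, 24], [0, 1, 0], [1, 0, 1, 2]⟩,
    ⟨1574, 0, [38, 30, 24], [0, 1, 0], [1, 0, 1, 2]⟩,
    ⟨1583, 0, [47, 30, 24], [0, 1, 0], [1, 0, 1, 2]⟩,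
    ⟨1575, 0, [39, 30, 24], [0, 1, 0], [1, 0, 1, 2]⟩,
    ⟨1576, 0, [40, 30, 24], [0, 1, 0], [1, 0, 1, 2]⟩,
    ⟨1580, 0, [44, 30, 24], [0, 1, 0], [1, 0, 1, 2]⟩,
    ⟨1722, 0, [41, 34, 24], [0, 1, 0], [1, 0, 2, 1]⟩,
    ⟨1727, 0, [46, 34, 24], [0, 1, 0], [1, 0, 2, 1]⟩,
    ⟨1472, 0, [32, 28, 24], [0, 1, 0, 3, 2], [1, 0, 1, 2]⟩,
    ⟨2107, 0, [43, 41, 24], [0, 1, 0], [1, 0, 1, 2]⟩,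
    ⟨1818, 0, [36, 41, 24], [0, 1, 0], [1, 0, 1, 2]⟩,
    ⟨2109, 0, [45, 41, 24], [0, 1, 0], [1, 0, 1, 2]⟩,
    ⟨1914, 0, [38, 41, 24], [0, 1, 0], [1, 0, 1, 2]⟩,
    ⟨2111, 0, [47, 41, 24], [0, 1, 0], [1, 0, 1, 2]⟩,
    ⟨1962, 0, [39, 41, 24], [0, 1, 0], [1, 0, 1, 2]⟩,
    ⟨2010, 0, [40, 41, 24], [0, 1, 0], [1, 0, 1, 2]⟩,
    ⟨2108, 0, [44, 41, 24], [0, 1, 0], [1, 0, 1, 2]⟩,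
    ⟨1631, 0, [46, 32, 24], [0, 1, 0], [1, 0, 2, 1]⟩,
    ⟨1819, 0, [43, 35, 24], [0, 1, 0, 3, 2], [1, 0, 1, 2]⟩,
    ⟨1487, 0, [46, 29, 24], [0, 1, 0], [1, 0, 2, 1]⟩,
    ⟨1917, 0, [45, 37, 24], [0, 1, 0, 3, 2], [1, 0, 1, 2]⟩,
    ⟨2159, 0, [46, 43, 24], [0, 1, 0], [1, 0, 2, 1]⟩,
    ⟨1823, 0, [46, 36, 24], [0, 1, 0], [1, 0, 2, 1]⟩,
    ⟨2255, 0, [46, 45, 24], [0, 1, 0], [1, 0, 2, 1]⟩,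
    ⟨1919, 0, [46, 38, 24], [0, 1, 0], [1, 0, 2, 1]⟩,
    ⟨1967, 0, [39, 46, 24], [0, 1, 0], [1, 0, 1, 2]⟩,
    ⟨2015, 0, [40, 46, 24], [0, 1, 0], [1, 0, 1, 2]⟩,
    ⟨2207, 0, [44, 46, 24], [0, 1, 0], [1, 0, 1, 2]⟩,
    ⟨1422, 0, [30, 27, 25], [0, 1, 0, 3, 2], [1, 0, 1, 2]⟩,
    ⟨1283, 0, [28, 33, 25], [0, 2, 1, 0], [1, 0, 1]⟩,
    ⟨1675, 0, [42, 33, 25], [0, 1, 0], [1, 0, 2, 1]⟩,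
    ⟨1284, 0, [29, 33, 25], [0, 2, 1, 0], [1, 0, 1]⟩,
    ⟨1678, 0, [45, 33, 25], [0, 1, 0], [1, 0, 2, 1]⟩,
    ⟨1292, 0, [40, 33, 25], [0, 2, 1, 0], [1, 0, 1]⟩,
    ⟨1280, 0, [30, 26, 25], [0, 2, 1, 0], [1, 0, 1]⟩,
    ⟨1291, 0, [41, 26, 25], [0, 2, 1, 0], [1, 0, 1]⟩]

theorem rows0_ok : rowsOK tT sR cV rK 0 rows0 = true := by decide +kernel

/-- Rows. -/
def rows1 : List Row :=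
  [⟨1520, 0, [31, 30, 25], [0, 1, 0], [1, 0, 2, 1]⟩,
    ⟨1294, 0, [43, 30, 25], [0, 2, 1, 0], [1, 0, 1]⟩,
    ⟨1534, 0, [45, 30, 25], [0, 1, 0], [1, 0, 2, 1]⟩,
    ⟨1769, 0, [41, 34, 25], [0, 1, 0, 3, 2], [1, 0, 1, 2]⟩,
    ⟨1424, 0, [31, 28, 25], [0, 1, 0], [1, 0, 2, 1]⟩,
    ⟨1287, 0, [36, 28, 25], [0, 2, 1, 0], [1, 0, 1]⟩,
    ⟨1438, 0, [45, 28, 25], [0, 1, 0], [1, 0, 2, 1]⟩,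
    ⟨1621, 0, [37, 31, 25], [0, 1, 0], [1, 0, 1, 2]⟩,
    ⟨1620, 0, [36, 31, 25], [0, 1, 0], [1, 0, 1, 2]⟩,
    ⟨1630, 0, [46, 31, 25], [0, 1, 0], [1, 0, 1, 2]⟩,
    ⟨1623, 0, [39, 31, 25], [0, 1, 0], [1, 0, 1, 2]⟩,
    ⟨1624, 0, [40, 31, 25], [0, 1, 0], [1, 0, 1, 2]⟩,
    ⟨1628, 0, [44, 31, 25], [0, 1, 0], [1, 0, 1, 2]⟩,
    ⟨2059, 0, [42, 41, 25], [0, 1, 0], [1, 0, 2, 1]⟩,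
    ⟨2062, 0, [45, 41, 25], [0, 1, 0], [1, 0, 2, 1]⟩,
    ⟨1771, 0, [42, 35, 25], [0, 1, 0], [1, 0, 2, 1]⟩,
    ⟨1774, 0, [45, 35, 25], [0, 1, 0], [1, 0, 2, 1]⟩,
    ⟨1483, 0, [29, 42, 25], [0, 1, 0, 2], [1, 0, 1]⟩,
    ⟨1867, 0, [37, 42, 25], [0, 1, 0, 2], [1, 0, 1]⟩,
    ⟨2158, 0, [46, 42, 25], [0, 1, 0], [1, 0, 1, 2]⟩,
    ⟨1963, 0, [39, 42, 25], [0, 1, 0], [1, 0, 1, 2]⟩,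
    ⟨2011, 0, [40, 42, 25], [0, 1, 0], [1, 0, 1, 2]⟩,
    ⟨2156, 0, [44, 42, 25], [0, 1, 0], [1, 0, 1, 2]⟩,
    ⟨1288, 0, [37, 29, 25], [0, 2, 1, 0], [1, 0, 1]⟩,
    ⟨1486, 0, [45, 29, 25], [0, 1, 0], [1, 0, 2, 1]⟩,
    ⟨1870, 0, [45, 37, 25], [0, 1, 0], [1, 0, 2, 1]⟩,
    ⟨1822, 0, [45, 36, 25], [0, 1, 0], [1, 0, 2, 1]⟩,
    ⟨2303, 0, [47, 45, 25], [0, 1, 0], [1, 0, 1, 2]⟩,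
    ⟨1966, 0, [39, 45, 25], [0, 1, 0], [1, 0, 1, 2]⟩,
    ⟨2014, 0, [40, 45, 25], [0, 1, 0], [1, 0, 1, 2]⟩,
    ⟨2206, 0, [44, 45, 25], [0, 1, 0], [1, 0, 1, 2]⟩,
    ⟨1721, 0, [41, 33, 27], [0, 1, 0], [1, 0, 1, 2]⟩,
    ⟨1717, 0, [37, 33, 27], [0, 1, 0], [1, 0, 1, 2]⟩,
    ⟨1725, 0, [45, 33, 27], [0, 1, 0], [1, 0, 1, 2]⟩,
    ⟨1718, 0, [38, 33, 27], [0, 1, 0], [1, 0, 1, 2]⟩,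
    ⟨1726, 0, [46, 33, 27], [0, 1, 0], [1, 0, 1, 2]⟩,
    ⟨1724, 0, [44, 33, 27], [0, 1, 0], [1, 0, 1, 2]⟩,
    ⟨1525, 0, [35, 30, 27], [0, 1, 0], [1, 0, 2, 1]⟩,
    ⟨1389, 0, [42, 30, 27], [0, 2, 1, 0], [1, 0, 1]⟩,
    ⟨1528, 0, [39, 30, 27], [0, 1, 0], [1, 0, 2, 1]⟩,
    ⟨1381, 0, [28, 34, 27], [0, 2, 1, 0], [1, 0, 1]⟩,
    ⟨1382, 0, [29, 34, 27], [0, 2, 1, 0], [1, 0, 1]⟩,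
    ⟨1429, 0, [35, 28, 27], [0, 1, 0], [1, 0, 2, 1]⟩,
    ⟨1384, 0, [38, 28, 27], [0, 2, 1, 0], [1, 0, 1]⟩,
    ⟨1432, 0, [39, 28, 27], [0, 1, 0], [1, 0, 2, 1]⟩,
    ⟨1390, 0, [32, 41, 27], [0, 2, 1, 0], [1, 0, 1]⟩,
    ⟨1865, 0, [35, 41, 27], [0, 1, 0], [1, 0, 2, 1]⟩,
    ⟨1913, 0, [36, 41, 27], [0, 1, 0], [1, 0, 2, 1]⟩,
    ⟨2009, 0, [39, 41, 27], [0, 1, 0], [1, 0, 2, 1]⟩,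
    ⟨1622, 0, [36, 32, 27], [0, 1, 0], [1, 0, 2, 1]⟩,
    ⟨1866, 0, [42, 35, 27], [0, 1, 0, 2], [1, 0, 1]⟩,
    ⟨1869, 0, [45, 35, 27], [0, 1, 0], [1, 0, 1, 2]⟩,
    ⟨1871, 0, [47, 35, 27], [0, 1, 0], [1, 0, 1, 2]⟩,
    ⟨1864, 0, [40, 35, 27], [0, 1, 0], [1, 0, 1, 2]⟩,
    ⟨1868, 0, [44, 35, 27], [0, 1, 0], [1, 0, 1, 2]⟩,
    ⟨1478, 0, [36, 29, 27], [0, 1, 0], [1, 0, 2, 1]⟩,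
    ⟨1480, 0, [39, 29, 27], [0, 1, 0], [1, 0, 2, 1]⟩,
    ⟨2205, 0, [45, 43, 27], [0, 1, 0, 3, 2], [1, 0, 1, 2]⟩,
    ⟨1918, 0, [46, 36, 27], [0, 1, 0], [1, 0, 1, 2]⟩,
    ⟨1912, 0, [40, 36, 27], [0, 1, 0], [1, 0, 1, 2]⟩,
    ⟨1916, 0, [44, 36, 27], [0, 1, 0], [1, 0, 1, 2]⟩,
    ⟨2013, 0, [39, 45, 27], [0, 1, 0], [1, 0, 2, 1]⟩,
    ⟨2012, 0, [44, 39, 27], [0, 1, 0], [1, 0, 1, 2]⟩,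
    ⟨1331, 0, [28, 26, 33], [0, 1, 0], [1, 0, 2, 1]⟩,
    ⟨1676, 0, [39, 34, 33], [0, 2, 1, 0], [1, 0, 1]⟩,
    ⟨1765, 0, [37, 28, 33], [0, 1, 0], [1, 0, 1, 2]⟩,
    ⟨1773, 0, [45, 28, 33], [0, 1, 0], [1, 0, 1, 2]⟩,
    ⟨1775, 0, [47, 28, 33], [0, 1, 0], [1, 0, 1, 2]⟩,
    ⟨1767, 0, [39, 28, 33], [0, 1, 0], [1, 0, 1, 2]⟩,
    ⟨1772, 0, [44, 28, 33], [0, 1, 0], [1, 0, 1, 2]⟩,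
    ⟨2060, 0, [40, 41, 33], [0, 1, 0], [1, 0, 2, 1]⟩,
    ⟨1821, 0, [45, 29, 33], [0, 1, 0], [1, 0, 1, 2]⟩,
    ⟨1814, 0, [38, 29, 33], [0, 1, 0], [1, 0, 1, 2]⟩,
    ⟨1815, 0, [39, 29, 33], [0, 1, 0], [1, 0, 1, 2]⟩,
    ⟨1820, 0, [44, 29, 33], [0, 1, 0], [1, 0, 1, 2]⟩,
    ⟨1964, 0, [40, 39, 33], [0, 1, 0], [1, 0, 2, 1]⟩,
    ⟨1619, 0, [35, 30, 26], [0, 1, 0], [1, 0, 1, 2]⟩,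
    ⟨1435, 0, [41, 28, 26], [0, 1, 0], [1, 0, 2, 1]⟩,
    ⟨1439, 0, [45, 28, 26], [0, 1, 0], [1, 0, 2, 1]⟩,
    ⟨1915, 0, [38, 41, 26], [0, 1, 0], [1, 0, 1, 2]⟩,
    ⟨1526, 0, [29, 34, 30], [0, 2, 1, 0], [1, 0, 1]⟩,
    ⟨1532, 0, [39, 34, 30], [0, 2, 1, 0], [1, 0, 1]⟩,
    ⟨1533, 0, [41, 31, 30], [0, 2, 1, 0], [1, 0, 1]⟩,
    ⟨2061, 0, [42, 41, 30], [0, 1, 0], [1, 0, 2, 1]⟩,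
    ⟨1527, 0, [29, 35, 30], [0, 2, 1, 0], [1, 0, 1]⟩,
    ⟨1485, 0, [29, 42, 30], [0, 1, 0, 2], [1, 0, 1]⟩,
    ⟨2254, 0, [46, 42, 30], [0, 1, 0], [1, 0, 1, 2]⟩,
    ⟨1965, 0, [39, 42, 30], [0, 1, 0], [1, 0, 1, 2]⟩,
    ⟨1573, 0, [31, 28, 34], [0, 1, 0, 2], [1, 0, 1]⟩,
    ⟨1437, 0, [41, 31, 28], [0, 2, 1, 0], [1, 0, 1]⟩,
    ⟨1961, 0, [36, 41, 28], [0, 1, 0], [1, 0, 2, 1]⟩,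
    ⟨1431, 0, [29, 35, 28], [0, 2, 1, 0], [1, 0, 1]⟩,
    ⟨1479, 0, [36, 29, 28], [0, 1, 0], [1, 0, 2, 1]⟩,
    ⟨1960, 0, [40, 36, 28], [0, 1, 0], [1, 0, 1, 2]⟩,
    ⟨746, 0, [14, 25, 24], [0, 1, 0, 2], [1, 0, 1]⟩,
    ⟨1227, 0, [14, 34, 24], [0, 2, 1, 0], [1, 0, 1]⟩,
    ⟨751, 0, [30, 14, 24], [0, 1, 0], [1, 0, 2, 1]⟩,
    ⟨1229, 0, [36, 14, 24], [0, 2, 1, 0], [1, 0, 1]⟩,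
    ⟨767, 0, [46, 14, 24], [0, 1, 0], [1, 0, 2, 1]⟩,
    ⟨1276, 0, [35, 14, 25], [0, 2, 1, 0], [1, 0, 1]⟩]

theorem rows1_ok : rowsOK tT sR cV rK 100 rows1 = true := by decide +kernel

/-- Rows. -/
def rows2 : List Row :=
  [⟨752, 0, [31, 14, 25], [0, 1, 0], [1, 0, 2, 1]⟩,
    ⟨1277, 0, [36, 14, 25], [0, 2, 1, 0], [1, 0, 1]⟩,
    ⟨766, 0, [45, 14, 25], [0, 1, 0], [1, 0, 2, 1]⟩,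
    ⟨1374, 0, [30, 14, 34], [0, 1, 0], [1, 0, 1, 2]⟩,
    ⟨1324, 0, [35, 26, 14], [0, 1, 0], [1, 0, 2, 1]⟩,
    ⟨760, 0, [39, 27, 14], [0, 2, 1, 0], [1, 0, 1]⟩,
    ⟨1233, 0, [34, 20, 24], [0, 2, 1, 0], [1, 0, 1]⟩,
    ⟨1034, 0, [25, 20, 24], [0, 1, 0], [1, 0, 2, 1]⟩,
    ⟨1050, 0, [41, 20, 24], [0, 1, 0], [1, 0, 2, 1]⟩,
    ⟨1055, 0, [46, 20, 24], [0, 1, 0], [1, 0, 2, 1]⟩,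
    ⟨1239, 0, [40, 20, 24], [0, 2, 1, 0], [1, 0, 1]⟩,
    ⟨1673, 0, [41, 34, 20], [0, 1, 0], [1, 0, 1, 2]⟩,
    ⟨1667, 0, [35, 34, 20], [0, 1, 0], [1, 0, 1, 2]⟩,
    ⟨1668, 0, [36, 34, 20], [0, 1, 0], [1, 0, 1, 2]⟩,
    ⟨1051, 0, [42, 25, 20], [0, 2, 1, 0], [1, 0, 1]⟩,
    ⟨1043, 0, [28, 33, 20], [0, 2, 1, 0], [1, 0, 1]⟩,
    ⟨1044, 0, [29, 33, 20], [0, 2, 1, 0], [1, 0, 1]⟩,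
    ⟨1427, 0, [37, 28, 20], [0, 1, 0], [1, 0, 2, 1]⟩,
    ⟨1047, 0, [36, 28, 20], [0, 2, 1, 0], [1, 0, 1]⟩,
    ⟨1054, 0, [32, 41, 20], [0, 2, 1, 0], [1, 0, 1]⟩,
    ⟨1817, 0, [38, 41, 20], [0, 1, 0], [1, 0, 2, 1]⟩,
    ⟨1770, 0, [42, 37, 20], [0, 1, 0, 2], [1, 0, 1]⟩,
    ⟨1476, 0, [38, 29, 20], [0, 1, 0], [1, 0, 2, 1]⟩,
    ⟨1231, 0, [31, 22, 26], [0, 1, 0], [1, 0, 1, 2]⟩,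
    ⟨1242, 0, [42, 22, 26], [0, 1, 0], [1, 0, 1, 2]⟩,
    ⟨1138, 0, [27, 33, 22], [0, 2, 1, 0], [1, 0, 1]⟩,
    ⟨1140, 0, [29, 33, 22], [0, 2, 1, 0], [1, 0, 1]⟩,
    ⟨1677, 0, [46, 33, 22], [0, 1, 0], [1, 0, 2, 1]⟩,
    ⟨1148, 0, [40, 33, 22], [0, 2, 1, 0], [1, 0, 1]⟩,
    ⟨1135, 0, [30, 24, 22], [0, 2, 1, 0], [1, 0, 1]⟩,
    ⟨1146, 0, [41, 24, 22], [0, 2, 1, 0], [1, 0, 1]⟩,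
    ⟨1519, 0, [32, 30, 22], [0, 1, 0], [1, 0, 2, 1]⟩,
    ⟨1149, 0, [42, 30, 22], [0, 2, 1, 0], [1, 0, 1]⟩,
    ⟨1142, 0, [36, 27, 22], [0, 2, 1, 0], [1, 0, 1]⟩,
    ⟨1572, 0, [36, 32, 22], [0, 1, 0], [1, 0, 1, 2]⟩,
    ⟨2058, 0, [43, 41, 22], [0, 1, 0], [1, 0, 2, 1]⟩,
    ⟨1482, 0, [29, 43, 22], [0, 1, 0, 2], [1, 0, 1]⟩,
    ⟨1144, 0, [37, 29, 22], [0, 2, 1, 0], [1, 0, 1]⟩,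
    ⟨1281, 0, [33, 26, 23], [0, 1, 0, 2], [1, 0, 1]⟩,
    ⟨1186, 0, [33, 27, 23], [0, 2, 1, 0], [1, 0, 1]⟩,
    ⟨1385, 0, [42, 27, 23], [0, 1, 0], [1, 0, 2, 1]⟩,
    ⟨1189, 0, [35, 27, 23], [0, 2, 1, 0], [1, 0, 1]⟩,
    ⟨1192, 0, [39, 27, 23], [0, 2, 1, 0], [1, 0, 1]⟩,
    ⟨1187, 0, [28, 33, 23], [0, 2, 1, 0], [1, 0, 1]⟩,
    ⟨1196, 0, [40, 33, 23], [0, 2, 1, 0], [1, 0, 1]⟩,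
    ⟨1198, 0, [45, 25, 23], [0, 2, 1, 0], [1, 0, 1]⟩,
    ⟨1522, 0, [34, 31, 23], [0, 1, 0, 2], [1, 0, 1]⟩,
    ⟨703, 0, [13, 30, 24], [0, 1, 0, 2], [1, 0, 1]⟩,
    ⟨1032, 0, [13, 33, 24], [0, 2, 1, 0], [1, 0, 1]⟩,
    ⟨698, 0, [25, 13, 24], [0, 1, 0], [1, 0, 2, 1]⟩,
    ⟨719, 0, [46, 13, 24], [0, 1, 0], [1, 0, 2, 1]⟩,
    ⟨704, 0, [26, 13, 30], [0, 1, 0], [1, 0, 2, 1]⟩,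
    ⟨1470, 0, [38, 13, 30], [0, 2, 1, 0], [1, 0, 1]⟩,
    ⟨718, 0, [43, 13, 30], [0, 1, 0], [1, 0, 2, 1]⟩,
    ⟨1033, 0, [25, 13, 33], [0, 1, 0], [1, 0, 1, 2]⟩,
    ⟨1423, 0, [37, 31, 13], [0, 1, 0], [1, 0, 2, 1]⟩,
    ⟨711, 0, [40, 20, 13], [0, 2, 1, 0], [1, 0, 1]⟩,
    ⟨744, 0, [14, 22, 26], [0, 1, 0, 2], [1, 0, 1]⟩,
    ⟨1131, 0, [34, 14, 22], [0, 2, 1, 0], [1, 0, 1]⟩,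
    ⟨1133, 0, [36, 14, 22], [0, 2, 1, 0], [1, 0, 1]⟩,
    ⟨765, 0, [46, 14, 22], [0, 1, 0], [1, 0, 2, 1]⟩,
    ⟨745, 0, [14, 26, 23], [0, 1, 0, 2], [1, 0, 1]⟩,
    ⟨1179, 0, [14, 34, 23], [0, 2, 1, 0], [1, 0, 1]⟩,
    ⟨750, 0, [31, 14, 23], [0, 1, 0], [1, 0, 2, 1]⟩,
    ⟨1180, 0, [35, 14, 23], [0, 2, 1, 0], [1, 0, 1]⟩,
    ⟨748, 0, [28, 27, 13], [0, 1, 0], [1, 0, 1, 2]⟩,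
    ⟨749, 0, [29, 27, 13], [0, 1, 0], [1, 0, 1, 2]⟩,
    ⟨700, 0, [35, 14, 13], [0, 2, 1, 0], [1, 0, 1]⟩,
    ⟨701, 0, [36, 14, 13], [0, 2, 1, 0], [1, 0, 1]⟩,
    ⟨984, 0, [22, 19, 26], [0, 1, 0], [1, 0, 2, 1]⟩,
    ⟨1003, 0, [41, 19, 26], [0, 1, 0], [1, 0, 2, 1]⟩,
    ⟨1007, 0, [45, 19, 26], [0, 1, 0], [1, 0, 2, 1]⟩,
    ⟨1334, 0, [40, 19, 26], [0, 2, 1, 0], [1, 0, 1]⟩,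
    ⟨1666, 0, [34, 35, 19], [0, 1, 0], [1, 0, 1, 2]⟩,
    ⟨1002, 0, [43, 22, 19], [0, 2, 1, 0], [1, 0, 1]⟩,
    ⟨994, 0, [27, 33, 19], [0, 2, 1, 0], [1, 0, 1]⟩,
    ⟨996, 0, [29, 33, 19], [0, 2, 1, 0], [1, 0, 1]⟩,
    ⟨1378, 0, [37, 27, 19], [0, 1, 0], [1, 0, 2, 1]⟩,
    ⟨998, 0, [36, 27, 19], [0, 2, 1, 0], [1, 0, 1]⟩,
    ⟨1005, 0, [31, 41, 19], [0, 2, 1, 0], [1, 0, 1]⟩,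
    ⟨1723, 0, [43, 37, 19], [0, 1, 0, 2], [1, 0, 1]⟩,
    ⟨1185, 0, [34, 20, 23], [0, 2, 1, 0], [1, 0, 1]⟩,
    ⟨1049, 0, [42, 20, 23], [0, 1, 0], [1, 0, 2, 1]⟩,
    ⟨1191, 0, [40, 20, 23], [0, 2, 1, 0], [1, 0, 1]⟩,
    ⟨1226, 0, [26, 17, 31], [0, 1, 0], [1, 0, 1, 2]⟩,
    ⟨897, 0, [20, 34, 17], [0, 2, 1, 0], [1, 0, 1]⟩,
    ⟨902, 0, [29, 34, 17], [0, 2, 1, 0], [1, 0, 1]⟩,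
    ⟨908, 0, [39, 34, 17], [0, 2, 1, 0], [1, 0, 1]⟩,
    ⟨890, 0, [25, 24, 17], [0, 2, 1, 0], [1, 0, 1]⟩,
    ⟨906, 0, [41, 24, 17], [0, 2, 1, 0], [1, 0, 1]⟩,
    ⟨1274, 0, [32, 25, 17], [0, 1, 0], [1, 0, 2, 1]⟩,
    ⟨907, 0, [42, 25, 17], [0, 2, 1, 0], [1, 0, 1]⟩,
    ⟨900, 0, [38, 20, 17], [0, 2, 1, 0], [1, 0, 1]⟩,
    ⟨903, 0, [35, 29, 17], [0, 2, 1, 0], [1, 0, 1]⟩,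
    ⟨1182, 0, [30, 21, 25], [0, 1, 0], [1, 0, 1, 2]⟩,
    ⟨1193, 0, [41, 21, 25], [0, 1, 0], [1, 0, 1, 2]⟩,
    ⟨1090, 0, [27, 33, 21], [0, 2, 1, 0], [1, 0, 1]⟩,
    ⟨1091, 0, [28, 33, 21], [0, 2, 1, 0], [1, 0, 1]⟩,
    ⟨1100, 0, [40, 33, 21], [0, 2, 1, 0], [1, 0, 1]⟩,
    ⟨1086, 0, [31, 23, 21], [0, 2, 1, 0], [1, 0, 1]⟩]

theorem rows2_ok : rowsOK tT sR cV rK 200 rows2 = true := by decide +kernel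

/-- Rows. -/
def rows3 : List Row :=
  [⟨1097, 0, [42, 23, 21], [0, 2, 1, 0], [1, 0, 1]⟩,
    ⟨1101, 0, [41, 31, 21], [0, 2, 1, 0], [1, 0, 1]⟩,
    ⟨1093, 0, [35, 27, 21], [0, 2, 1, 0], [1, 0, 1]⟩,
    ⟨1523, 0, [35, 32, 21], [0, 1, 0], [1, 0, 1, 2]⟩,
    ⟨1433, 0, [28, 43, 21], [0, 1, 0, 2], [1, 0, 1]⟩,
    ⟨1096, 0, [38, 28, 21], [0, 2, 1, 0], [1, 0, 1]⟩,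
    ⟨1137, 0, [33, 24, 21], [0, 1, 0, 2], [1, 0, 1]⟩,
    ⟨696, 0, [20, 14, 24], [0, 2, 1, 0], [1, 0, 1]⟩,
    ⟨697, 0, [25, 20, 14], [0, 1, 0], [1, 0, 1, 2]⟩,
    ⟨656, 0, [12, 30, 26], [0, 1, 0, 2], [1, 0, 1]⟩,
    ⟨986, 0, [12, 33, 26], [0, 2, 1, 0], [1, 0, 1]⟩,
    ⟨648, 0, [22, 12, 26], [0, 1, 0], [1, 0, 2, 1]⟩,
    ⟨671, 0, [45, 12, 26], [0, 1, 0], [1, 0, 2, 1]⟩,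
    ⟨655, 0, [24, 12, 30], [0, 1, 0], [1, 0, 2, 1]⟩,
    ⟨669, 0, [42, 12, 30], [0, 1, 0], [1, 0, 2, 1]⟩,
    ⟨982, 0, [22, 12, 33], [0, 1, 0], [1, 0, 1, 2]⟩,
    ⟨1376, 0, [37, 32, 12], [0, 1, 0], [1, 0, 2, 1]⟩,
    ⟨662, 0, [40, 19, 12], [0, 2, 1, 0], [1, 0, 1]⟩,
    ⟨702, 0, [13, 31, 23], [0, 1, 0, 2], [1, 0, 1]⟩,
    ⟨1031, 0, [13, 33, 23], [0, 2, 1, 0], [1, 0, 1]⟩,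
    ⟨884, 0, [33, 13, 17], [0, 2, 1, 0], [1, 0, 1]⟩,
    ⟨893, 0, [38, 13, 17], [0, 2, 1, 0], [1, 0, 1]⟩,
    ⟨715, 0, [46, 13, 17], [0, 1, 0], [1, 0, 2, 1]⟩,
    ⟨743, 0, [14, 21, 25], [0, 1, 0, 2], [1, 0, 1]⟩,
    ⟨1083, 0, [34, 14, 21], [0, 2, 1, 0], [1, 0, 1]⟩,
    ⟨1084, 0, [35, 14, 21], [0, 2, 1, 0], [1, 0, 1]⟩,
    ⟨742, 0, [14, 24, 21], [0, 1, 0, 2], [1, 0, 1]⟩,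
    ⟨747, 0, [27, 28, 12], [0, 1, 0], [1, 0, 1, 2]⟩,
    ⟨651, 0, [34, 14, 12], [0, 2, 1, 0], [1, 0, 1]⟩,
    ⟨653, 0, [36, 14, 12], [0, 2, 1, 0], [1, 0, 1]⟩,
    ⟨993, 0, [20, 34, 19], [0, 2, 1, 0], [1, 0, 1]⟩,
    ⟨1041, 0, [35, 20, 19], [0, 1, 0], [1, 0, 2, 1]⟩,
    ⟨935, 0, [21, 18, 25], [0, 1, 0], [1, 0, 2, 1]⟩,
    ⟨955, 0, [42, 18, 25], [0, 1, 0], [1, 0, 2, 1]⟩,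
    ⟨958, 0, [45, 18, 25], [0, 1, 0], [1, 0, 2, 1]⟩,
    ⟨1285, 0, [40, 18, 25], [0, 2, 1, 0], [1, 0, 1]⟩,
    ⟨953, 0, [43, 21, 18], [0, 2, 1, 0], [1, 0, 1]⟩,
    ⟨946, 0, [27, 33, 18], [0, 2, 1, 0], [1, 0, 1]⟩,
    ⟨947, 0, [28, 33, 18], [0, 2, 1, 0], [1, 0, 1]⟩,
    ⟨949, 0, [35, 27, 18], [0, 2, 1, 0], [1, 0, 1]⟩,
    ⟨957, 0, [30, 42, 18], [0, 2, 1, 0], [1, 0, 1]⟩,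
    ⟨1089, 0, [35, 19, 21], [0, 2, 1, 0], [1, 0, 1]⟩,
    ⟨1001, 0, [43, 19, 21], [0, 1, 0], [1, 0, 2, 1]⟩,
    ⟨1094, 0, [40, 19, 21], [0, 2, 1, 0], [1, 0, 1]⟩,
    ⟨350, 0, [13, 27, 6], [0, 2, 1, 0], [1, 0, 1]⟩,
    ⟨374, 0, [36, 27, 6], [0, 2, 1, 0], [1, 0, 1]⟩,
    ⟨376, 0, [39, 27, 6], [0, 2, 1, 0], [1, 0, 1]⟩,
    ⟨362, 0, [25, 24, 6], [0, 2, 1, 0], [1, 0, 1]⟩,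
    ⟨367, 0, [30, 24, 6], [0, 2, 1, 0], [1, 0, 1]⟩,
    ⟨368, 0, [31, 25, 6], [0, 2, 1, 0], [1, 0, 1]⟩,
    ⟨365, 0, [38, 13, 6], [0, 2, 1, 0], [1, 0, 1]⟩,
    ⟨375, 0, [28, 36, 6], [0, 2, 1, 0], [1, 0, 1]⟩,
    ⟨888, 0, [22, 26, 17], [0, 2, 1, 0], [1, 0, 1]⟩,
    ⟨1128, 0, [31, 22, 17], [0, 1, 0], [1, 0, 2, 1]⟩,
    ⟨1177, 0, [25, 16, 30], [0, 1, 0], [1, 0, 1, 2]⟩,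
    ⟨849, 0, [20, 34, 16], [0, 2, 1, 0], [1, 0, 1]⟩,
    ⟨853, 0, [28, 34, 16], [0, 2, 1, 0], [1, 0, 1]⟩,
    ⟨860, 0, [39, 34, 16], [0, 2, 1, 0], [1, 0, 1]⟩,
    ⟨841, 0, [26, 23, 16], [0, 2, 1, 0], [1, 0, 1]⟩,
    ⟨857, 0, [42, 23, 16], [0, 2, 1, 0], [1, 0, 1]⟩,
    ⟨859, 0, [41, 26, 16], [0, 2, 1, 0], [1, 0, 1]⟩,
    ⟨851, 0, [37, 20, 16], [0, 2, 1, 0], [1, 0, 1]⟩,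
    ⟨855, 0, [36, 28, 16], [0, 2, 1, 0], [1, 0, 1]⟩,
    ⟨898, 0, [34, 24, 16], [0, 1, 0, 2], [1, 0, 1]⟩,
    ⟨650, 0, [19, 14, 26], [0, 2, 1, 0], [1, 0, 1]⟩,
    ⟨646, 0, [22, 19, 14], [0, 1, 0], [1, 0, 1, 2]⟩,
    ⟨695, 0, [20, 14, 23], [0, 2, 1, 0], [1, 0, 1]⟩,
    ⟨560, 0, [10, 25, 31], [0, 1, 0, 2], [1, 0, 1]⟩,
    ⟨991, 0, [10, 34, 31], [0, 2, 1, 0], [1, 0, 1]⟩,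
    ⟨552, 0, [17, 10, 31], [0, 1, 0], [1, 0, 2, 1]⟩,
    ⟨575, 0, [43, 10, 31], [0, 1, 0], [1, 0, 2, 1]⟩,
    ⟨554, 0, [24, 10, 25], [0, 1, 0], [1, 0, 2, 1]⟩,
    ⟨571, 0, [42, 10, 25], [0, 1, 0], [1, 0, 2, 1]⟩,
    ⟨883, 0, [17, 10, 34], [0, 1, 0], [1, 0, 1, 2]⟩,
    ⟨1040, 0, [35, 32, 10], [0, 1, 0], [1, 0, 2, 1]⟩,
    ⟨564, 0, [39, 19, 10], [0, 2, 1, 0], [1, 0, 1]⟩,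
    ⟨608, 0, [11, 31, 25], [0, 1, 0, 2], [1, 0, 1]⟩,
    ⟨937, 0, [11, 33, 25], [0, 2, 1, 0], [1, 0, 1]⟩,
    ⟨599, 0, [21, 11, 25], [0, 1, 0], [1, 0, 2, 1]⟩,
    ⟨622, 0, [45, 11, 25], [0, 1, 0], [1, 0, 2, 1]⟩,
    ⟨606, 0, [23, 11, 31], [0, 1, 0], [1, 0, 2, 1]⟩,
    ⟨621, 0, [41, 11, 31], [0, 1, 0], [1, 0, 2, 1]⟩,
    ⟨933, 0, [21, 11, 33], [0, 1, 0], [1, 0, 1, 2]⟩,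
    ⟨613, 0, [40, 18, 11], [0, 2, 1, 0], [1, 0, 1]⟩,
    ⟨654, 0, [12, 32, 21], [0, 1, 0, 2], [1, 0, 1]⟩,
    ⟨981, 0, [12, 33, 21], [0, 2, 1, 0], [1, 0, 1]⟩,
    ⟨349, 0, [14, 20, 6], [0, 2, 1, 0], [1, 0, 1]⟩,
    ⟨372, 0, [38, 20, 6], [0, 2, 1, 0], [1, 0, 1]⟩,
    ⟨666, 0, [45, 12, 17], [0, 1, 0], [1, 0, 2, 1]⟩,
    ⟨836, 0, [33, 13, 16], [0, 2, 1, 0], [1, 0, 1]⟩,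
    ⟨844, 0, [37, 13, 16], [0, 2, 1, 0], [1, 0, 1]⟩,
    ⟨741, 0, [14, 23, 22], [0, 1, 0, 2], [1, 0, 1]⟩,
    ⟨689, 0, [13, 24, 16], [0, 1, 0, 2], [1, 0, 1]⟩,
    ⟨692, 0, [20, 28, 10], [0, 1, 0], [1, 0, 1, 2]⟩,
    ⟨548, 0, [33, 13, 10], [0, 2, 1, 0], [1, 0, 1]⟩,
    ⟨557, 0, [38, 13, 10], [0, 2, 1, 0], [1, 0, 1]⟩,
    ⟨603, 0, [34, 14, 11], [0, 2, 1, 0], [1, 0, 1]⟩,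
    ⟨604, 0, [35, 14, 11], [0, 2, 1, 0], [1, 0, 1]⟩,
    ⟨638, 0, [13, 27, 12], [0, 2, 1, 0], [1, 0, 1]⟩,
    ⟨686, 0, [28, 13, 12], [0, 1, 0], [1, 0, 2, 1]⟩]

theorem rows3_ok : rowsOK tT sR cV rK 300 rows3 = true := by decide +kernel

/-- Rows. -/
def rows4 : List Row :=
  [⟨945, 0, [20, 34, 18], [0, 2, 1, 0], [1, 0, 1]⟩,
    ⟨954, 0, [43, 18, 22], [0, 1, 0], [1, 0, 2, 1]⟩,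
    ⟨1141, 0, [40, 18, 22], [0, 2, 1, 0], [1, 0, 1]⟩,
    ⟨850, 0, [37, 19, 16], [0, 2, 1, 0], [1, 0, 1]⟩,
    ⟨852, 0, [39, 19, 16], [0, 2, 1, 0], [1, 0, 1]⟩,
    ⟨360, 0, [22, 26, 6], [0, 2, 1, 0], [1, 0, 1]⟩,
    ⟨302, 0, [13, 27, 5], [0, 2, 1, 0], [1, 0, 1]⟩,
    ⟨325, 0, [35, 27, 5], [0, 2, 1, 0], [1, 0, 1]⟩,
    ⟨328, 0, [39, 27, 5], [0, 2, 1, 0], [1, 0, 1]⟩,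
    ⟨313, 0, [26, 23, 5], [0, 2, 1, 0], [1, 0, 1]⟩,
    ⟨318, 0, [31, 23, 5], [0, 2, 1, 0], [1, 0, 1]⟩,
    ⟨320, 0, [30, 26, 5], [0, 2, 1, 0], [1, 0, 1]⟩,
    ⟨316, 0, [37, 13, 5], [0, 2, 1, 0], [1, 0, 1]⟩,
    ⟨327, 0, [29, 35, 5], [0, 2, 1, 0], [1, 0, 1]⟩,
    ⟨839, 0, [21, 25, 16], [0, 2, 1, 0], [1, 0, 1]⟩,
    ⟨1079, 0, [30, 21, 16], [0, 1, 0], [1, 0, 2, 1]⟩,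
    ⟨1078, 0, [22, 15, 30], [0, 1, 0], [1, 0, 1, 2]⟩,
    ⟨801, 0, [19, 35, 15], [0, 2, 1, 0], [1, 0, 1]⟩,
    ⟨805, 0, [27, 35, 15], [0, 2, 1, 0], [1, 0, 1]⟩,
    ⟨812, 0, [38, 35, 15], [0, 2, 1, 0], [1, 0, 1]⟩,
    ⟨790, 0, [24, 21, 15], [0, 2, 1, 0], [1, 0, 1]⟩,
    ⟨809, 0, [43, 21, 15], [0, 2, 1, 0], [1, 0, 1]⟩,
    ⟨810, 0, [41, 24, 15], [0, 2, 1, 0], [1, 0, 1]⟩,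
    ⟨802, 0, [37, 19, 15], [0, 2, 1, 0], [1, 0, 1]⟩,
    ⟨806, 0, [36, 27, 15], [0, 2, 1, 0], [1, 0, 1]⟩,
    ⟨363, 0, [27, 24, 5], [0, 1, 0, 2], [1, 0, 1]⟩,
    ⟨899, 0, [35, 26, 15], [0, 1, 0, 2], [1, 0, 1]⟩,
    ⟨559, 0, [19, 13, 31], [0, 2, 1, 0], [1, 0, 1]⟩,
    ⟨545, 0, [17, 19, 13], [0, 1, 0], [1, 0, 1, 2]⟩,
    ⟨601, 0, [18, 14, 25], [0, 2, 1, 0], [1, 0, 1]⟩,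
    ⟨597, 0, [21, 18, 14], [0, 1, 0], [1, 0, 1, 2]⟩,
    ⟨645, 0, [19, 14, 21], [0, 2, 1, 0], [1, 0, 1]⟩,
    ⟨348, 0, [6, 10, 27], [0, 1, 0], [1, 0, 1, 2]⟩,
    ⟨570, 0, [43, 10, 22], [0, 1, 0], [1, 0, 2, 1]⟩,
    ⟨512, 0, [9, 26, 30], [0, 1, 0, 2], [1, 0, 1]⟩,
    ⟨942, 0, [9, 34, 30], [0, 2, 1, 0], [1, 0, 1]⟩,
    ⟨503, 0, [16, 9, 30], [0, 1, 0], [1, 0, 2, 1]⟩,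
    ⟨526, 0, [43, 9, 30], [0, 1, 0], [1, 0, 2, 1]⟩,
    ⟨505, 0, [23, 9, 26], [0, 1, 0], [1, 0, 2, 1]⟩,
    ⟨523, 0, [41, 9, 26], [0, 1, 0], [1, 0, 2, 1]⟩,
    ⟨834, 0, [16, 9, 34], [0, 1, 0], [1, 0, 1, 2]⟩,
    ⟨515, 0, [39, 18, 9], [0, 2, 1, 0], [1, 0, 1]⟩,
    ⟨607, 0, [11, 32, 22], [0, 1, 0, 2], [1, 0, 1]⟩,
    ⟨934, 0, [11, 33, 22], [0, 2, 1, 0], [1, 0, 1]⟩,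
    ⟨553, 0, [10, 32, 16], [0, 1, 0, 2], [1, 0, 1]⟩,
    ⟨835, 0, [10, 34, 16], [0, 2, 1, 0], [1, 0, 1]⟩,
    ⟨301, 0, [14, 20, 5], [0, 2, 1, 0], [1, 0, 1]⟩,
    ⟨323, 0, [37, 20, 5], [0, 2, 1, 0], [1, 0, 1]⟩,
    ⟨617, 0, [45, 11, 16], [0, 1, 0], [1, 0, 2, 1]⟩,
    ⟨787, 0, [33, 12, 15], [0, 2, 1, 0], [1, 0, 1]⟩,
    ⟨795, 0, [37, 12, 15], [0, 2, 1, 0], [1, 0, 1]⟩,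
    ⟨688, 0, [13, 23, 17], [0, 1, 0, 2], [1, 0, 1]⟩,
    ⟨356, 0, [20, 24, 5], [0, 1, 0, 2], [1, 0, 1]⟩,
    ⟨641, 0, [12, 26, 15], [0, 1, 0, 2], [1, 0, 1]⟩,
    ⟨541, 0, [14, 20, 10], [0, 2, 1, 0], [1, 0, 1]⟩,
    ⟨643, 0, [19, 27, 10], [0, 1, 0], [1, 0, 1, 2]⟩,
    ⟨547, 0, [33, 12, 10], [0, 2, 1, 0], [1, 0, 1]⟩,
    ⟨500, 0, [33, 13, 9], [0, 2, 1, 0], [1, 0, 1]⟩,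
    ⟨508, 0, [37, 13, 9], [0, 2, 1, 0], [1, 0, 1]⟩,
    ⟨590, 0, [13, 27, 11], [0, 2, 1, 0], [1, 0, 1]⟩,
    ⟨315, 0, [37, 12, 5], [0, 2, 1, 0], [1, 0, 1]⟩,
    ⟨317, 0, [39, 12, 5], [0, 2, 1, 0], [1, 0, 1]⟩,
    ⟨803, 0, [37, 20, 15], [0, 2, 1, 0], [1, 0, 1]⟩,
    ⟨804, 0, [38, 20, 15], [0, 2, 1, 0], [1, 0, 1]⟩,
    ⟨311, 0, [21, 25, 5], [0, 2, 1, 0], [1, 0, 1]⟩,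
    ⟨254, 0, [12, 28, 4], [0, 2, 1, 0], [1, 0, 1]⟩,
    ⟨277, 0, [34, 28, 4], [0, 2, 1, 0], [1, 0, 1]⟩,
    ⟨280, 0, [38, 28, 4], [0, 2, 1, 0], [1, 0, 1]⟩,
    ⟨262, 0, [24, 21, 4], [0, 2, 1, 0], [1, 0, 1]⟩,
    ⟨270, 0, [32, 21, 4], [0, 2, 1, 0], [1, 0, 1]⟩,
    ⟨271, 0, [30, 24, 4], [0, 2, 1, 0], [1, 0, 1]⟩,
    ⟨267, 0, [37, 12, 4], [0, 2, 1, 0], [1, 0, 1]⟩,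
    ⟨278, 0, [29, 34, 4], [0, 2, 1, 0], [1, 0, 1]⟩,
    ⟨789, 0, [23, 22, 15], [0, 2, 1, 0], [1, 0, 1]⟩,
    ⟨833, 0, [17, 15, 25], [0, 1, 0], [1, 0, 1, 2]⟩,
    ⟨785, 0, [24, 16, 15], [0, 2, 1, 0], [1, 0, 1]⟩,
    ⟨364, 0, [28, 26, 4], [0, 1, 0, 2], [1, 0, 1]⟩,
    ⟨346, 0, [6, 12, 20], [0, 1, 0], [1, 0, 1, 2]⟩,
    ⟨510, 0, [18, 13, 30], [0, 2, 1, 0], [1, 0, 1]⟩,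
    ⟨496, 0, [16, 18, 13], [0, 1, 0], [1, 0, 1, 2]⟩,
    ⟨598, 0, [18, 14, 22], [0, 2, 1, 0], [1, 0, 1]⟩,
    ⟨544, 0, [19, 13, 16], [0, 2, 1, 0], [1, 0, 1]⟩,
    ⟨299, 0, [5, 9, 27], [0, 1, 0], [1, 0, 1, 2]⟩,
    ⟨521, 0, [43, 9, 21], [0, 1, 0], [1, 0, 2, 1]⟩,
    ⟨463, 0, [8, 24, 30], [0, 1, 0, 2], [1, 0, 1]⟩,
    ⟨453, 0, [15, 8, 30], [0, 1, 0], [1, 0, 2, 1]⟩,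
    ⟨477, 0, [42, 8, 30], [0, 1, 0], [1, 0, 2, 1]⟩,
    ⟨454, 0, [21, 8, 24], [0, 1, 0], [1, 0, 2, 1]⟩,
    ⟨474, 0, [41, 8, 24], [0, 1, 0], [1, 0, 2, 1]⟩,
    ⟨786, 0, [15, 8, 35], [0, 1, 0], [1, 0, 1, 2]⟩,
    ⟨466, 0, [38, 18, 8], [0, 2, 1, 0], [1, 0, 1]⟩,
    ⟨506, 0, [9, 32, 17], [0, 1, 0, 2], [1, 0, 1]⟩,
    ⟨882, 0, [9, 34, 17], [0, 2, 1, 0], [1, 0, 1]⟩,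
    ⟨300, 0, [10, 27, 5], [0, 2, 1, 0], [1, 0, 1]⟩,
    ⟨550, 0, [10, 31, 15], [0, 1, 0, 2], [1, 0, 1]⟩,
    ⟨788, 0, [10, 35, 15], [0, 2, 1, 0], [1, 0, 1]⟩,
    ⟨252, 0, [14, 19, 4], [0, 2, 1, 0], [1, 0, 1]⟩,
    ⟨274, 0, [37, 19, 4], [0, 2, 1, 0], [1, 0, 1]⟩,
    ⟨308, 0, [20, 23, 6], [0, 1, 0, 2], [1, 0, 1]⟩,
    ⟨639, 0, [12, 21, 17], [0, 1, 0, 2], [1, 0, 1]⟩]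

theorem rows4_ok : rowsOK tT sR cV rK 400 rows4 = true := by decide +kernel

/-- Rows. -/
def rows5 : List Row :=
  [⟨355, 0, [19, 26, 4], [0, 1, 0, 2], [1, 0, 1]⟩,
    ⟨592, 0, [11, 25, 15], [0, 1, 0, 2], [1, 0, 1]⟩,
    ⟨540, 0, [14, 19, 10], [0, 2, 1, 0], [1, 0, 1]⟩,
    ⟨493, 0, [14, 20, 9], [0, 2, 1, 0], [1, 0, 1]⟩,
    ⟨594, 0, [18, 27, 9], [0, 1, 0], [1, 0, 1, 2]⟩,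
    ⟨498, 0, [33, 11, 9], [0, 2, 1, 0], [1, 0, 1]⟩,
    ⟨451, 0, [33, 12, 8], [0, 2, 1, 0], [1, 0, 1]⟩,
    ⟨459, 0, [37, 12, 8], [0, 2, 1, 0], [1, 0, 1]⟩,
    ⟨268, 0, [37, 13, 4], [0, 2, 1, 0], [1, 0, 1]⟩,
    ⟨269, 0, [38, 13, 4], [0, 2, 1, 0], [1, 0, 1]⟩,
    ⟨261, 0, [23, 22, 4], [0, 2, 1, 0], [1, 0, 1]⟩,
    ⟨157, 0, [10, 28, 2], [0, 2, 1, 0], [1, 0, 1]⟩,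
    ⟨179, 0, [33, 28, 2], [0, 2, 1, 0], [1, 0, 1]⟩,
    ⟨183, 0, [36, 28, 2], [0, 2, 1, 0], [1, 0, 1]⟩,
    ⟨161, 0, [24, 16, 2], [0, 2, 1, 0], [1, 0, 1]⟩,
    ⟨169, 0, [32, 16, 2], [0, 2, 1, 0], [1, 0, 1]⟩,
    ⟨170, 0, [25, 24, 2], [0, 2, 1, 0], [1, 0, 1]⟩,
    ⟨164, 0, [35, 10, 2], [0, 2, 1, 0], [1, 0, 1]⟩,
    ⟨180, 0, [29, 33, 2], [0, 2, 1, 0], [1, 0, 1]⟩,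
    ⟨784, 0, [23, 17, 15], [0, 2, 1, 0], [1, 0, 1]⟩,
    ⟨294, 0, [6, 4, 25], [0, 1, 0], [1, 0, 1, 2]⟩,
    ⟨246, 0, [24, 5, 4], [0, 2, 1, 0], [1, 0, 1]⟩,
    ⟨297, 0, [5, 11, 20], [0, 1, 0], [1, 0, 1, 2]⟩,
    ⟨462, 0, [18, 12, 30], [0, 2, 1, 0], [1, 0, 1]⟩,
    ⟨447, 0, [15, 18, 12], [0, 1, 0], [1, 0, 1, 2]⟩,
    ⟨497, 0, [18, 13, 17], [0, 2, 1, 0], [1, 0, 1]⟩,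
    ⟨298, 0, [12, 20, 5], [0, 2, 1, 0], [1, 0, 1]⟩,
    ⟨543, 0, [20, 12, 15], [0, 2, 1, 0], [1, 0, 1]⟩,
    ⟨251, 0, [4, 8, 28], [0, 1, 0], [1, 0, 1, 2]⟩,
    ⟨473, 0, [42, 8, 23], [0, 1, 0], [1, 0, 2, 1]⟩,
    ⟨410, 0, [7, 24, 25], [0, 1, 0, 2], [1, 0, 1]⟩,
    ⟨400, 0, [15, 7, 25], [0, 1, 0], [1, 0, 2, 1]⟩,
    ⟨427, 0, [42, 7, 25], [0, 1, 0], [1, 0, 2, 1]⟩,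
    ⟨401, 0, [16, 7, 24], [0, 1, 0], [1, 0, 2, 1]⟩,
    ⟨426, 0, [41, 7, 24], [0, 1, 0], [1, 0, 2, 1]⟩,
    ⟨417, 0, [36, 18, 7], [0, 2, 1, 0], [1, 0, 1]⟩,
    ⟨347, 0, [9, 27, 6], [0, 2, 1, 0], [1, 0, 1]⟩,
    ⟨456, 0, [8, 31, 17], [0, 1, 0, 2], [1, 0, 1]⟩,
    ⟨253, 0, [10, 28, 4], [0, 2, 1, 0], [1, 0, 1]⟩,
    ⟨501, 0, [9, 30, 15], [0, 1, 0, 2], [1, 0, 1]⟩,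
    ⟨154, 0, [13, 19, 2], [0, 2, 1, 0], [1, 0, 1]⟩,
    ⟨177, 0, [35, 19, 2], [0, 2, 1, 0], [1, 0, 1]⟩,
    ⟨259, 0, [19, 21, 6], [0, 1, 0, 2], [1, 0, 1]⟩,
    ⟨591, 0, [11, 22, 16], [0, 1, 0, 2], [1, 0, 1]⟩,
    ⟨306, 0, [18, 25, 4], [0, 1, 0, 2], [1, 0, 1]⟩,
    ⟨491, 0, [14, 18, 9], [0, 2, 1, 0], [1, 0, 1]⟩,
    ⟨444, 0, [14, 19, 8], [0, 2, 1, 0], [1, 0, 1]⟩,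
    ⟨450, 0, [33, 11, 8], [0, 2, 1, 0], [1, 0, 1]⟩,
    ⟨403, 0, [34, 10, 7], [0, 2, 1, 0], [1, 0, 1]⟩,
    ⟨404, 0, [35, 10, 7], [0, 2, 1, 0], [1, 0, 1]⟩,
    ⟨172, 0, [35, 14, 2], [0, 2, 1, 0], [1, 0, 1]⟩,
    ⟨173, 0, [36, 14, 2], [0, 2, 1, 0], [1, 0, 1]⟩,
    ⟨160, 0, [23, 17, 2], [0, 2, 1, 0], [1, 0, 1]⟩,
    ⟨150, 0, [24, 5, 2], [0, 2, 1, 0], [1, 0, 1]⟩,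
    ⟨108, 0, [10, 27, 1], [0, 2, 1, 0], [1, 0, 1]⟩,
    ⟨130, 0, [33, 27, 1], [0, 2, 1, 0], [1, 0, 1]⟩,
    ⟨134, 0, [36, 27, 1], [0, 2, 1, 0], [1, 0, 1]⟩,
    ⟨113, 0, [26, 15, 1], [0, 2, 1, 0], [1, 0, 1]⟩,
    ⟨118, 0, [31, 15, 1], [0, 2, 1, 0], [1, 0, 1]⟩,
    ⟨120, 0, [22, 26, 1], [0, 2, 1, 0], [1, 0, 1]⟩,
    ⟨115, 0, [34, 10, 1], [0, 2, 1, 0], [1, 0, 1]⟩,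
    ⟨132, 0, [29, 33, 1], [0, 2, 1, 0], [1, 0, 1]⟩,
    ⟨245, 0, [23, 6, 4], [0, 2, 1, 0], [1, 0, 1]⟩,
    ⟨248, 0, [4, 11, 19], [0, 1, 0], [1, 0, 1, 2]⟩,
    ⟨409, 0, [18, 10, 25], [0, 2, 1, 0], [1, 0, 1]⟩,
    ⟨399, 0, [15, 18, 10], [0, 1, 0], [1, 0, 1, 2]⟩,
    ⟨345, 0, [11, 20, 6], [0, 2, 1, 0], [1, 0, 1]⟩,
    ⟨449, 0, [18, 12, 17], [0, 2, 1, 0], [1, 0, 1]⟩,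
    ⟨250, 0, [13, 19, 4], [0, 2, 1, 0], [1, 0, 1]⟩,
    ⟨495, 0, [20, 11, 15], [0, 2, 1, 0], [1, 0, 1]⟩,
    ⟨153, 0, [2, 7, 28], [0, 1, 0], [1, 0, 1, 2]⟩,
    ⟨425, 0, [42, 7, 23], [0, 1, 0], [1, 0, 2, 1]⟩,
    ⟨218, 0, [3, 24, 25], [0, 1, 0, 2], [1, 0, 1]⟩,
    ⟨197, 0, [4, 3, 25], [0, 1, 0], [1, 0, 2, 1]⟩,
    ⟨224, 0, [31, 3, 25], [0, 1, 0], [1, 0, 2, 1]⟩,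
    ⟨198, 0, [5, 3, 24], [0, 1, 0], [1, 0, 2, 1]⟩,
    ⟨223, 0, [30, 3, 24], [0, 1, 0], [1, 0, 2, 1]⟩,
    ⟨206, 0, [29, 11, 3], [0, 2, 1, 0], [1, 0, 1]⟩,
    ⟨408, 0, [7, 26, 22], [0, 1, 0, 2], [1, 0, 1]⟩,
    ⟨455, 0, [8, 30, 16], [0, 1, 0, 2], [1, 0, 1]⟩,
    ⟨158, 0, [12, 28, 2], [0, 2, 1, 0], [1, 0, 1]⟩,
    ⟨106, 0, [12, 20, 1], [0, 2, 1, 0], [1, 0, 1]⟩,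
    ⟨129, 0, [34, 20, 1], [0, 2, 1, 0], [1, 0, 1]⟩,
    ⟨163, 0, [19, 16, 6], [0, 1, 0, 2], [1, 0, 1]⟩,
    ⟨258, 0, [18, 22, 5], [0, 1, 0, 2], [1, 0, 1]⟩,
    ⟨443, 0, [14, 18, 8], [0, 2, 1, 0], [1, 0, 1]⟩,
    ⟨394, 0, [13, 19, 7], [0, 2, 1, 0], [1, 0, 1]⟩,
    ⟨402, 0, [34, 9, 7], [0, 2, 1, 0], [1, 0, 1]⟩,
    ⟨204, 0, [27, 10, 3], [0, 2, 1, 0], [1, 0, 1]⟩,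
    ⟨205, 0, [28, 10, 3], [0, 2, 1, 0], [1, 0, 1]⟩,
    ⟨123, 0, [34, 14, 1], [0, 2, 1, 0], [1, 0, 1]⟩,
    ⟨125, 0, [36, 14, 1], [0, 2, 1, 0], [1, 0, 1]⟩,
    ⟨149, 0, [23, 6, 2], [0, 2, 1, 0], [1, 0, 1]⟩,
    ⟨111, 0, [21, 17, 1], [0, 2, 1, 0], [1, 0, 1]⟩,
    ⟨102, 0, [26, 4, 1], [0, 2, 1, 0], [1, 0, 1]⟩,
    ⟨59, 0, [9, 27, 0], [0, 2, 1, 0], [1, 0, 1]⟩,
    ⟨82, 0, [33, 27, 0], [0, 2, 1, 0], [1, 0, 1]⟩,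
    ⟨85, 0, [35, 27, 0], [0, 2, 1, 0], [1, 0, 1]⟩,
    ⟨64, 0, [25, 15, 0], [0, 2, 1, 0], [1, 0, 1]⟩,
    ⟨69, 0, [30, 15, 0], [0, 2, 1, 0], [1, 0, 1]⟩]

theorem rows5_ok : rowsOK tT sR cV rK 500 rows5 = true := by decide +kernel

/-- Rows. -/
def rows6 : List Row :=
  [⟨71, 0, [21, 25, 0], [0, 2, 1, 0], [1, 0, 1]⟩,
    ⟨66, 0, [34, 9, 0], [0, 2, 1, 0], [1, 0, 1]⟩,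
    ⟨83, 0, [28, 33, 0], [0, 2, 1, 0], [1, 0, 1]⟩,
    ⟨151, 0, [2, 9, 19], [0, 1, 0], [1, 0, 1, 2]⟩,
    ⟨217, 0, [11, 10, 25], [0, 2, 1, 0], [1, 0, 1]⟩,
    ⟨196, 0, [4, 11, 10], [0, 1, 0], [1, 0, 1, 2]⟩,
    ⟨406, 0, [18, 10, 22], [0, 2, 1, 0], [1, 0, 1]⟩,
    ⟨344, 0, [11, 19, 6], [0, 2, 1, 0], [1, 0, 1]⟩,
    ⟨448, 0, [19, 11, 16], [0, 2, 1, 0], [1, 0, 1]⟩,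
    ⟨156, 0, [14, 19, 2], [0, 2, 1, 0], [1, 0, 1]⟩,
    ⟨249, 0, [13, 18, 4], [0, 2, 1, 0], [1, 0, 1]⟩,
    ⟨104, 0, [1, 7, 27], [0, 1, 0], [1, 0, 1, 2]⟩,
    ⟨222, 0, [31, 3, 23], [0, 1, 0], [1, 0, 2, 1]⟩,
    ⟨216, 0, [3, 26, 22], [0, 1, 0, 2], [1, 0, 1]⟩,
    ⟨407, 0, [7, 25, 21], [0, 1, 0, 2], [1, 0, 1]⟩,
    ⟨110, 0, [13, 27, 1], [0, 2, 1, 0], [1, 0, 1]⟩,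
    ⟨57, 0, [11, 20, 0], [0, 2, 1, 0], [1, 0, 1]⟩,
    ⟨81, 0, [34, 20, 0], [0, 2, 1, 0], [1, 0, 1]⟩,
    ⟨116, 0, [20, 15, 6], [0, 1, 0, 2], [1, 0, 1]⟩,
    ⟨162, 0, [18, 17, 5], [0, 1, 0, 2], [1, 0, 1]⟩,
    ⟨393, 0, [13, 18, 7], [0, 2, 1, 0], [1, 0, 1]⟩,
    ⟨202, 0, [20, 12, 3], [0, 2, 1, 0], [1, 0, 1]⟩,
    ⟨203, 0, [27, 9, 3], [0, 2, 1, 0], [1, 0, 1]⟩,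
    ⟨75, 0, [34, 14, 0], [0, 2, 1, 0], [1, 0, 1]⟩,
    ⟨76, 0, [35, 14, 0], [0, 2, 1, 0], [1, 0, 1]⟩,
    ⟨100, 0, [21, 6, 1], [0, 2, 1, 0], [1, 0, 1]⟩,
    ⟨63, 0, [22, 16, 0], [0, 2, 1, 0], [1, 0, 1]⟩,
    ⟨53, 0, [25, 4, 0], [0, 2, 1, 0], [1, 0, 1]⟩,
    ⟨147, 0, [2, 9, 12], [0, 1, 0], [1, 0, 1, 2]⟩,
    ⟨103, 0, [1, 8, 20], [0, 1, 0], [1, 0, 1, 2]⟩,
    ⟨214, 0, [11, 10, 22], [0, 2, 1, 0], [1, 0, 1]⟩,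
    ⟨405, 0, [19, 9, 21], [0, 2, 1, 0], [1, 0, 1]⟩,
    ⟨343, 0, [9, 19, 6], [0, 2, 1, 0], [1, 0, 1]⟩,
    ⟨296, 0, [12, 18, 5], [0, 2, 1, 0], [1, 0, 1]⟩,
    ⟨109, 0, [14, 20, 1], [0, 2, 1, 0], [1, 0, 1]⟩,
    ⟨155, 0, [14, 18, 2], [0, 2, 1, 0], [1, 0, 1]⟩,
    ⟨56, 0, [0, 7, 27], [0, 1, 0], [1, 0, 1, 2]⟩,
    ⟨215, 0, [3, 25, 21], [0, 1, 0, 2], [1, 0, 1]⟩,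
    ⟨62, 0, [13, 27, 0], [0, 2, 1, 0], [1, 0, 1]⟩,
    ⟨68, 0, [20, 15, 5], [0, 1, 0, 2], [1, 0, 1]⟩,
    ⟨114, 0, [18, 17, 4], [0, 1, 0, 2], [1, 0, 1]⟩,
    ⟨201, 0, [20, 11, 3], [0, 2, 1, 0], [1, 0, 1]⟩,
    ⟨392, 0, [12, 18, 7], [0, 2, 1, 0], [1, 0, 1]⟩,
    ⟨98, 0, [16, 6, 1], [0, 2, 1, 0], [1, 0, 1]⟩,
    ⟨52, 0, [22, 5, 0], [0, 2, 1, 0], [1, 0, 1]⟩,
    ⟨99, 0, [1, 8, 13], [0, 1, 0], [1, 0, 1, 2]⟩,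
    ⟨55, 0, [0, 8, 20], [0, 1, 0], [1, 0, 1, 2]⟩,
    ⟨209, 0, [9, 12, 17], [0, 2, 1, 0], [1, 0, 1]⟩,
    ⟨213, 0, [12, 9, 21], [0, 2, 1, 0], [1, 0, 1]⟩,
    ⟨295, 0, [10, 18, 5], [0, 2, 1, 0], [1, 0, 1]⟩,
    ⟨61, 0, [14, 20, 0], [0, 2, 1, 0], [1, 0, 1]⟩,
    ⟨107, 0, [14, 18, 1], [0, 2, 1, 0], [1, 0, 1]⟩,
    ⟨67, 0, [19, 16, 4], [0, 1, 0, 2], [1, 0, 1]⟩,
    ⟨200, 0, [19, 11, 3], [0, 2, 1, 0], [1, 0, 1]⟩,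
    ⟨50, 0, [17, 5, 0], [0, 2, 1, 0], [1, 0, 1]⟩,
    ⟨51, 0, [0, 8, 13], [0, 1, 0], [1, 0, 1, 2]⟩,
    ⟨208, 0, [10, 11, 16], [0, 2, 1, 0], [1, 0, 1]⟩,
    ⟨247, 0, [10, 18, 4], [0, 2, 1, 0], [1, 0, 1]⟩,
    ⟨60, 0, [14, 19, 0], [0, 2, 1, 0], [1, 0, 1]⟩,
    ⟨105, 0, [13, 18, 1], [0, 2, 1, 0], [1, 0, 1]⟩,
    ⟨199, 0, [19, 9, 3], [0, 2, 1, 0], [1, 0, 1]⟩,
    ⟨49, 0, [17, 4, 0], [0, 2, 1, 0], [1, 0, 1]⟩,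
    ⟨207, 0, [10, 11, 15], [0, 2, 1, 0], [1, 0, 1]⟩,
    ⟨152, 0, [12, 18, 2], [0, 2, 1, 0], [1, 0, 1]⟩,
    ⟨58, 0, [13, 19, 0], [0, 2, 1, 0], [1, 0, 1]⟩,
    ⟨2360, 1, [0, 38], [], [0, 3, 2]⟩,
    ⟨2361, 1, [0, 39], [], [0, 3, 2]⟩,
    ⟨2362, 1, [1, 39], [], [0, 3, 2]⟩,
    ⟨2389, 1, [8, 46], [], [0, 3, 2]⟩,
    ⟨2390, 1, [8, 47], [], [0, 3, 2]⟩,
    ⟨2391, 1, [9, 47], [], [0, 3, 2]⟩,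
    ⟨2403, 2, [0, 29], [], [0, 3, 2]⟩,
    ⟨2418, 2, [0, 44], [], [0, 3, 2]⟩,
    ⟨2419, 2, [1, 44], [], [0, 3, 2]⟩,
    ⟨2428, 2, [3, 46], [], [0, 3, 2]⟩,
    ⟨2429, 2, [3, 47], [], [0, 3, 2]⟩,
    ⟨2444, 2, [18, 47], [], [0, 3, 2]⟩,
    ⟨2454, 3, [0, 29], [], [0, 3, 2]⟩,
    ⟨2478, 3, [0, 40], [], [0, 3, 2]⟩,
    ⟨2448, 3, [3, 41], [], [0, 3, 2]⟩,
    ⟨2495, 3, [6, 44], [], [0, 3, 2]⟩,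
    ⟨2528, 4, [2, 40], [], [0, 3, 2]⟩,
    ⟨2498, 4, [3, 43], [], [0, 3, 2]⟩,
    ⟨1373, 0, [28, 27, 24], [0, 1, 0], [1, 0, 3, 2, 1]⟩,
    ⟨1716, 1, [27, 29], [], [0]⟩,
    ⟨1037, 2, [20, 29], [], [0]⟩,
    ⟨708, 1, [13, 36], [], [0]⟩,
    ⟨758, 2, [13, 36], [], [0]⟩,
    ⟨1670, 1, [14, 38], [], [0]⟩,
    ⟨660, 3, [12, 36], [], [0]⟩,
    ⟨989, 1, [12, 36], [], [0]⟩,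
    ⟨566, 2, [10, 38], [], [0]⟩,
    ⟨567, 3, [10, 38], [], [0]⟩,
    ⟨664, 2, [10, 39], [], [0]⟩,
    ⟨1004, 1, [12, 40], [], [0]⟩,
    ⟨712, 3, [12, 40], [], [0]⟩,
    ⟨1052, 1, [13, 40], [], [0]⟩,
    ⟨759, 2, [13, 40], [], [0]⟩,
    ⟨1671, 1, [14, 39], [], [0]⟩,
    ⟨1388, 2, [20, 44], [], [0]⟩]

theorem rows6_ok : rowsOK tT sR cV rK 600 rows6 = true := by decide +kernel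

/-- Rows. -/
def rows7 : List Row :=
  [⟨1720, 1, [27, 44], [], [0]⟩,
    ⟨1421, 3, [27, 29], [], [0]⟩,
    ⟨1764, 1, [28, 29], [], [0]⟩,
    ⟨1862, 2, [35, 36], [], [0]⟩,
    ⟨1436, 3, [27, 44], [], [0]⟩,
    ⟨1768, 1, [28, 44], [], [0]⟩,
    ⟨1863, 2, [35, 40], [], [0]⟩,
    ⟨517, 4, [9, 37], [], [0]⟩,
    ⟨611, 2, [9, 37], [], [0]⟩,
    ⟨940, 1, [11, 35], [], [0]⟩,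
    ⟨469, 3, [8, 37], [], [0]⟩,
    ⟨419, 2, [7, 35], [], [0]⟩,
    ⟨220, 1, [3, 28], [], [0]⟩,
    ⟨219, 3, [3, 27], [], [0]⟩,
    ⟨418, 1, [3, 27], [], [0]⟩,
    ⟨212, 2, [3, 20], [], [0]⟩,
    ⟨397, 1, [3, 20], [], [0]⟩,
    ⟨446, 2, [7, 13], [], [0]⟩,
    ⟨465, 1, [8, 14], [], [0]⟩,
    ⟨211, 3, [3, 19], [], [0]⟩,
    ⟨396, 1, [3, 19], [], [0]⟩,
    ⟨442, 2, [7, 12], [], [0]⟩,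
    ⟨490, 3, [8, 10], [], [0]⟩,
    ⟨588, 2, [9, 10], [], [0]⟩,
    ⟨931, 1, [11, 12], [], [0]⟩,
    ⟨494, 3, [8, 14], [], [0]⟩,
    ⟨513, 1, [9, 14], [], [0]⟩,
    ⟨589, 2, [9, 14], [], [0]⟩,
    ⟨932, 1, [11, 13], [], [0]⟩,
    ⟨610, 2, [9, 33], [], [0]⟩,
    ⟨939, 1, [11, 34], [], [0]⟩,
    ⟨210, 4, [3, 18], [], [0]⟩,
    ⟨395, 1, [3, 18], [], [0]⟩,
    ⟨441, 2, [7, 11], [], [0]⟩,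
    ⟨221, 4, [3, 28], [], [0]⟩,
    ⟨420, 1, [3, 29], [], [0]⟩,
    ⟨470, 2, [7, 36], [], [0]⟩,
    ⟨519, 3, [8, 38], [], [0]⟩,
    ⟨616, 2, [9, 39], [], [0]⟩,
    ⟨956, 1, [11, 40], [], [0]⟩,
    ⟨542, 4, [9, 14], [], [0]⟩,
    ⟨561, 1, [10, 14], [], [0]⟩,
    ⟨637, 2, [10, 14], [], [0]⟩,
    ⟨980, 1, [12, 13], [], [0]⟩,
    ⟨658, 2, [10, 33], [], [0]⟩,
    ⟨987, 1, [12, 34], [], [0]⟩,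
    ⟨707, 3, [12, 34], [], [0]⟩,
    ⟨1036, 1, [13, 35], [], [0]⟩,
    ⟨757, 2, [13, 35], [], [0]⟩,
    ⟨1669, 1, [14, 37], [], [0]⟩,
    ⟨1372, 2, [20, 28], [], [0]⟩,
    ⟨1715, 1, [27, 28], [], [0]⟩,
    ⟨1484, 4, [28, 44], [], [0]⟩,
    ⟨1816, 1, [29, 44], [], [0]⟩,
    ⟨1911, 2, [36, 40], [], [0]⟩,
    ⟨1245, 0, [43, 27, 24], [0, 3, 2, 1, 0], [1, 0, 1]⟩,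
    ⟨1243, 2, [24, 43], [], [0]⟩,
    ⟨1232, 1, [24, 32], [], [0]⟩,
    ⟨1327, 3, [24, 32], [], [0]⟩,
    ⟨1338, 1, [26, 31], [], [0]⟩,
    ⟨1578, 2, [26, 42], [], [0]⟩,
    ⟨1342, 3, [24, 45], [], [0]⟩,
    ⟨1582, 2, [26, 46], [], [0]⟩,
    ⟨2110, 1, [31, 46], [], [0]⟩,
    ⟨1627, 3, [31, 42], [], [0]⟩,
    ⟨1629, 2, [32, 43], [], [0]⟩,
    ⟨2157, 1, [32, 45], [], [0]⟩,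
    ⟨1184, 4, [23, 32], [], [0]⟩,
    ⟨1195, 1, [23, 32], [], [0]⟩,
    ⟨1197, 2, [23, 43], [], [0]⟩,
    ⟨1087, 3, [21, 31], [], [0]⟩,
    ⟨1098, 1, [21, 31], [], [0]⟩,
    ⟨842, 2, [16, 26], [], [0]⟩,
    ⟨314, 1, [5, 26], [], [0]⟩,
    ⟨319, 2, [5, 26], [], [0]⟩,
    ⟨858, 1, [5, 31], [], [0]⟩,
    ⟨264, 3, [4, 24], [], [0]⟩,
    ⟨792, 1, [4, 24], [], [0]⟩,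
    ⟨168, 2, [2, 24], [], [0]⟩,
    ⟨122, 3, [1, 26], [], [0]⟩,
    ⟨127, 2, [1, 26], [], [0]⟩,
    ⟨138, 1, [1, 31], [], [0]⟩,
    ⟨176, 3, [1, 31], [], [0]⟩,
    ⟨187, 1, [2, 32], [], [0]⟩,
    ⟨272, 2, [2, 32], [], [0]⟩,
    ⟨811, 1, [4, 32], [], [0]⟩,
    ⟨285, 2, [2, 43], [], [0]⟩,
    ⟨813, 1, [4, 45], [], [0]⟩,
    ⟨334, 3, [4, 45], [], [0]⟩,
    ⟨862, 1, [5, 46], [], [0]⟩,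
    ⟨1102, 2, [16, 46], [], [0]⟩,
    ⟨73, 4, [0, 25], [], [0]⟩,
    ⟨78, 2, [0, 25], [], [0]⟩,
    ⟨89, 1, [0, 30], [], [0]⟩,
    ⟨70, 3, [0, 22], [], [0]⟩,
    ⟨65, 2, [0, 17], [], [0]⟩,
    ⟨54, 1, [0, 6], [], [0]⟩,
    ⟨101, 4, [0, 6], [], [0]⟩,
    ⟨112, 1, [1, 5], [], [0]⟩,
    ⟨117, 2, [1, 16], [], [0]⟩]

theorem rows7_ok : rowsOK tT sR cV rK 700 rows7 = true := by decide +kernel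

/-- Rows. -/
def rows8 : List Row :=
  [⟨148, 3, [1, 5], [], [0]⟩,
    ⟨159, 1, [2, 4], [], [0]⟩,
    ⟨255, 2, [2, 15], [], [0]⟩,
    ⟨167, 3, [1, 21], [], [0]⟩,
    ⟨263, 2, [2, 23], [], [0]⟩,
    ⟨791, 1, [4, 23], [], [0]⟩,
    ⟨304, 3, [4, 15], [], [0]⟩,
    ⟨309, 2, [5, 16], [], [0]⟩,
    ⟨837, 1, [5, 21], [], [0]⟩,
    ⟨353, 4, [5, 16], [], [0]⟩,
    ⟨358, 2, [6, 17], [], [0]⟩,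
    ⟨886, 1, [6, 22], [], [0]⟩,
    ⟨361, 3, [6, 22], [], [0]⟩,
    ⟨889, 1, [6, 25], [], [0]⟩,
    ⟨366, 2, [6, 25], [], [0]⟩,
    ⟨905, 1, [6, 30], [], [0]⟩,
    ⟨1134, 2, [17, 25], [], [0]⟩,
    ⟨1145, 1, [22, 30], [], [0]⟩,
    ⟨1278, 3, [22, 30], [], [0]⟩,
    ⟨1289, 1, [25, 30], [], [0]⟩,
    ⟨1529, 2, [25, 41], [], [0]⟩,
    ⟨383, 4, [5, 46], [], [0]⟩,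
    ⟨911, 1, [6, 47], [], [0]⟩,
    ⟨1151, 2, [17, 47], [], [0]⟩,
    ⟨1295, 3, [22, 47], [], [0]⟩,
    ⟨1535, 2, [25, 47], [], [0]⟩,
    ⟨2063, 1, [30, 47], [], [0]⟩,
    ⟨2356, 1, [0, 31], [0], []⟩,
    ⟨2357, 1, [0, 32], [], [0, 2]⟩,
    ⟨2358, 1, [1, 32], [], [0, 2]⟩,
    ⟨411, 1, [3, 34], [0], []⟩,
    ⟨412, 1, [3, 35], [0], []⟩,
    ⟨413, 1, [3, 36], [], [0, 2]⟩,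
    ⟨2363, 1, [3, 37], [0], []⟩,
    ⟨2364, 1, [3, 38], [], [0, 2]⟩,
    ⟨2365, 1, [3, 39], [], [0, 2]⟩,
    ⟨2366, 1, [3, 40], [], [0, 2]⟩,
    ⟨2382, 1, [4, 46], [], [0, 2]⟩,
    ⟨2383, 1, [4, 47], [], [0, 2]⟩,
    ⟨2384, 1, [5, 47], [], [0, 2]⟩,
    ⟨2355, 1, [7, 14], [0], []⟩,
    ⟨2370, 1, [7, 37], [0], []⟩,
    ⟨2371, 1, [7, 38], [], [0, 2]⟩,
    ⟨2372, 1, [7, 39], [], [0, 2]⟩,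
    ⟨2379, 1, [8, 40], [], [0, 2]⟩,
    ⟨2386, 1, [8, 44], [], [0, 2]⟩,
    ⟨2380, 1, [9, 40], [], [0, 2]⟩,
    ⟨2387, 1, [9, 44], [], [0, 2]⟩,
    ⟨2381, 1, [10, 40], [], [0, 2]⟩,
    ⟨2388, 1, [10, 44], [], [0, 2]⟩,
    ⟨952, 1, [11, 44], [], [0, 2]⟩,
    ⟨1000, 1, [12, 44], [], [0, 2]⟩,
    ⟨1048, 1, [13, 44], [], [0, 2]⟩,
    ⟨2392, 1, [14, 44], [], [0, 2]⟩,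
    ⟨2402, 2, [0, 26], [0], []⟩,
    ⟨2404, 2, [0, 31], [0], []⟩,
    ⟨2416, 2, [0, 43], [], [0, 2]⟩,
    ⟨2417, 2, [1, 43], [], [0, 2]⟩,
    ⟨2425, 2, [2, 46], [], [0, 2]⟩,
    ⟨2426, 2, [2, 47], [], [0, 2]⟩,
    ⟨2407, 2, [3, 33], [0], []⟩,
    ⟨2408, 2, [3, 34], [0], []⟩,
    ⟨2409, 2, [3, 35], [0], []⟩,
    ⟨2410, 2, [3, 36], [], [0, 2]⟩,
    ⟨2411, 2, [3, 37], [0], []⟩,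
    ⟨2412, 2, [3, 38], [], [0, 2]⟩,
    ⟨2413, 2, [3, 39], [], [0, 2]⟩,
    ⟨2414, 2, [3, 40], [], [0, 2]⟩,
    ⟨445, 2, [7, 14], [0], []⟩,
    ⟨452, 1, [8, 13], [0], []⟩,
    ⟨460, 2, [7, 28], [0], []⟩,
    ⟨467, 1, [8, 28], [0], []⟩,
    ⟨461, 2, [7, 29], [], [0, 2]⟩,
    ⟨468, 1, [8, 29], [], [0, 2]⟩,
    ⟨2420, 2, [7, 39], [], [0, 2]⟩,
    ⟨2433, 2, [7, 44], [], [0, 2]⟩,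
    ⟨615, 2, [9, 40], [], [0, 2]⟩,
    ⟨951, 1, [11, 39], [], [0, 2]⟩,
    ⟨2435, 2, [9, 44], [], [0, 2]⟩,
    ⟨663, 2, [10, 40], [], [0, 2]⟩,
    ⟨999, 1, [12, 39], [], [0, 2]⟩,
    ⟨2436, 2, [10, 44], [], [0, 2]⟩,
    ⟨2437, 2, [11, 44], [], [0, 2]⟩,
    ⟨2438, 2, [12, 44], [], [0, 2]⟩,
    ⟨2439, 2, [13, 44], [], [0, 2]⟩,
    ⟨2440, 2, [14, 44], [], [0, 2]⟩,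
    ⟨2443, 2, [16, 47], [], [0, 2]⟩,
    ⟨1383, 2, [20, 40], [], [0, 2]⟩,
    ⟨1719, 1, [27, 39], [], [0, 2]⟩,
    ⟨2449, 3, [0, 24], [0], []⟩,
    ⟨2450, 3, [0, 26], [0], []⟩,
    ⟨2452, 3, [0, 31], [], [0, 2]⟩,
    ⟨2453, 3, [0, 32], [0], []⟩,
    ⟨2463, 3, [0, 42], [], [0, 2]⟩,
    ⟨2469, 3, [0, 45], [], [0, 2]⟩,
    ⟨165, 3, [1, 23], [0], []⟩,
    ⟨256, 2, [2, 21], [0], []⟩,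
    ⟨175, 3, [1, 32], [], [0, 2]⟩,
    ⟨186, 1, [2, 31], [], [0, 2]⟩,
    ⟨266, 2, [2, 31], [], [0, 2]⟩]

theorem rows8_ok : rowsOK tT sR cV rK 800 rows8 = true := by decide +kernel

/-- Rows. -/
def rows9 : List Row :=
  [⟨794, 1, [4, 26], [], [0, 2]⟩,
    ⟨282, 2, [2, 42], [], [0, 2]⟩,
    ⟨799, 1, [4, 42], [], [0, 2]⟩,
    ⟨2470, 3, [1, 45], [], [0, 2]⟩,
    ⟨2472, 3, [1, 47], [], [0, 2]⟩,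
    ⟨2474, 3, [2, 47], [], [0, 2]⟩,
    ⟨2456, 3, [3, 34], [0], []⟩,
    ⟨2457, 3, [3, 35], [0], []⟩,
    ⟨2460, 3, [3, 38], [], [0, 2]⟩,
    ⟨2461, 3, [3, 39], [], [0, 2]⟩,
    ⟨303, 3, [4, 16], [], [0, 2]⟩,
    ⟨312, 3, [4, 26], [], [0, 2]⟩,
    ⟨840, 1, [5, 24], [], [0, 2]⟩,
    ⟨1080, 2, [16, 24], [], [0, 2]⟩,
    ⟨331, 3, [4, 42], [], [0, 2]⟩,
    ⟨848, 1, [5, 43], [], [0, 2]⟩,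
    ⟨333, 2, [5, 43], [], [0, 2]⟩,
    ⟨861, 1, [5, 45], [], [0, 2]⟩,
    ⟨1088, 2, [16, 32], [], [0, 2]⟩,
    ⟨1099, 1, [21, 32], [], [0, 2]⟩,
    ⟨2479, 3, [4, 47], [], [0, 2]⟩,
    ⟨2480, 3, [5, 47], [], [0, 2]⟩,
    ⟨2467, 3, [7, 38], [], [0, 2]⟩,
    ⟨492, 3, [8, 13], [0], []⟩,
    ⟨499, 1, [9, 12], [0], []⟩,
    ⟨595, 2, [9, 19], [0], []⟩,
    ⟨507, 3, [8, 28], [0], []⟩,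
    ⟨514, 1, [9, 27], [0], []⟩,
    ⟨596, 2, [9, 27], [0], []⟩,
    ⟨609, 2, [9, 34], [0], []⟩,
    ⟨509, 3, [8, 29], [], [0, 2]⟩,
    ⟨516, 1, [9, 29], [], [0, 2]⟩,
    ⟨605, 2, [9, 29], [], [0, 2]⟩,
    ⟨948, 1, [11, 29], [], [0, 2]⟩,
    ⟨614, 2, [9, 36], [], [0, 2]⟩,
    ⟨950, 1, [11, 38], [], [0, 2]⟩,
    ⟨2475, 3, [8, 40], [], [0, 2]⟩,
    ⟨2482, 3, [8, 44], [], [0, 2]⟩,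
    ⟨710, 3, [12, 39], [], [0, 2]⟩,
    ⟨1046, 1, [13, 38], [], [0, 2]⟩,
    ⟨756, 2, [13, 38], [], [0, 2]⟩,
    ⟨1380, 2, [20, 38], [], [0, 2]⟩,
    ⟨2486, 3, [12, 44], [], [0, 2]⟩,
    ⟨2490, 3, [15, 47], [], [0, 2]⟩,
    ⟨1178, 3, [21, 24], [], [0, 2]⟩,
    ⟨1183, 2, [23, 26], [], [0, 2]⟩,
    ⟨1194, 1, [23, 31], [], [0, 2]⟩,
    ⟨2493, 3, [21, 47], [], [0, 2]⟩,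
    ⟨1341, 3, [24, 46], [], [0, 2]⟩,
    ⟨1579, 2, [26, 45], [], [0, 2]⟩,
    ⟨1428, 3, [27, 36], [], [0, 2]⟩,
    ⟨1430, 2, [28, 36], [], [0, 2]⟩,
    ⟨1766, 1, [28, 38], [], [0, 2]⟩,
    ⟨1626, 3, [31, 43], [], [0, 2]⟩,
    ⟨2497, 4, [0, 24], [0], []⟩,
    ⟨121, 4, [0, 26], [0], []⟩,
    ⟨126, 2, [1, 25], [0], []⟩,
    ⟨137, 1, [1, 30], [0], []⟩,
    ⟨166, 3, [1, 25], [0], []⟩,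
    ⟨257, 2, [2, 22], [0], []⟩,
    ⟨174, 3, [1, 30], [0], []⟩,
    ⟨185, 1, [2, 30], [0], []⟩,
    ⟨265, 2, [2, 30], [0], []⟩,
    ⟨793, 1, [4, 25], [0], []⟩,
    ⟨281, 2, [2, 41], [0], []⟩,
    ⟨798, 1, [4, 41], [0], []⟩,
    ⟨305, 3, [4, 17], [0], []⟩,
    ⟨310, 2, [5, 17], [0], []⟩,
    ⟨838, 1, [5, 22], [0], []⟩,
    ⟨329, 3, [4, 41], [0], []⟩,
    ⟨846, 1, [5, 41], [0], []⟩,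
    ⟨1081, 2, [16, 30], [0], []⟩,
    ⟨2501, 4, [0, 32], [], [0, 2]⟩,
    ⟨2512, 4, [0, 43], [], [0, 2]⟩,
    ⟨2519, 4, [0, 46], [], [0, 2]⟩,
    ⟨2496, 4, [1, 23], [0], []⟩,
    ⟨2502, 4, [1, 32], [], [0, 2]⟩,
    ⟨2521, 4, [2, 46], [], [0, 2]⟩,
    ⟨2505, 4, [3, 35], [], [0, 2]⟩,
    ⟨2507, 4, [3, 37], [], [0, 2]⟩,
    ⟨351, 4, [5, 15], [], [0, 2]⟩,
    ⟨352, 3, [6, 15], [], [0, 2]⟩,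
    ⟨357, 2, [6, 16], [], [0, 2]⟩,
    ⟨885, 1, [6, 21], [], [0, 2]⟩,
    ⟨359, 3, [6, 21], [], [0, 2]⟩,
    ⟨887, 1, [6, 23], [], [0, 2]⟩,
    ⟨1127, 2, [17, 23], [], [0, 2]⟩,
    ⟨378, 4, [5, 41], [0], []⟩,
    ⟨895, 1, [6, 42], [0], []⟩,
    ⟨1130, 2, [17, 31], [0], []⟩,
    ⟨379, 3, [6, 42], [], [0, 2]⟩,
    ⟨896, 1, [6, 43], [], [0, 2]⟩,
    ⟨381, 2, [6, 43], [], [0, 2]⟩,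
    ⟨909, 1, [6, 45], [], [0, 2]⟩,
    ⟨1136, 2, [17, 32], [], [0, 2]⟩,
    ⟨1147, 1, [22, 32], [], [0, 2]⟩,
    ⟨382, 3, [6, 45], [], [0, 2]⟩,
    ⟨910, 1, [6, 46], [], [0, 2]⟩,
    ⟨1150, 2, [17, 46], [], [0, 2]⟩,
    ⟨1279, 3, [22, 32], [], [0, 2]⟩]

theorem rows9_ok : rowsOK tT sR cV rK 900 rows9 = true := by decide +kernel

/-- Rows. -/
def rows10 : List Row :=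
  [⟨1290, 1, [25, 31], [], [0, 2]⟩,
    ⟨1530, 2, [25, 42], [], [0, 2]⟩,
    ⟨1293, 3, [22, 46], [], [0, 2]⟩,
    ⟨1531, 2, [25, 45], [], [0, 2]⟩,
    ⟨2514, 4, [7, 37], [], [0, 2]⟩,
    ⟨539, 4, [9, 12], [], [0, 2]⟩,
    ⟨546, 1, [10, 11], [], [0, 2]⟩,
    ⟨642, 2, [10, 18], [], [0, 2]⟩,
    ⟨690, 3, [12, 18], [], [0, 2]⟩,
    ⟨738, 2, [13, 18], [], [0, 2]⟩,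
    ⟨555, 4, [9, 27], [0], []⟩,
    ⟨562, 1, [10, 27], [0], []⟩,
    ⟨644, 2, [10, 27], [0], []⟩,
    ⟨657, 2, [10, 34], [0], []⟩,
    ⟨556, 3, [10, 27], [], [0, 2]⟩,
    ⟨563, 1, [10, 28], [], [0, 2]⟩,
    ⟨652, 2, [10, 28], [], [0, 2]⟩,
    ⟨995, 1, [12, 28], [], [0, 2]⟩,
    ⟨661, 2, [10, 35], [], [0, 2]⟩,
    ⟨997, 1, [12, 37], [], [0, 2]⟩,
    ⟨691, 3, [12, 20], [], [0, 2]⟩,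
    ⟨739, 2, [13, 19], [], [0, 2]⟩,
    ⟨699, 3, [12, 28], [], [0, 2]⟩,
    ⟨1042, 1, [13, 27], [], [0, 2]⟩,
    ⟨740, 2, [13, 27], [], [0, 2]⟩,
    ⟨1377, 2, [20, 34], [], [0, 2]⟩,
    ⟨705, 3, [12, 33], [0], []⟩,
    ⟨754, 2, [13, 33], [0], []⟩,
    ⟨709, 3, [12, 37], [], [0, 2]⟩,
    ⟨1045, 1, [13, 37], [], [0, 2]⟩,
    ⟨755, 2, [13, 37], [], [0, 2]⟩,
    ⟨1379, 2, [20, 37], [], [0, 2]⟩,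
    ⟨1425, 3, [27, 33], [0], []⟩,
    ⟨1426, 2, [28, 33], [0], []⟩,
    ⟨2524, 4, [9, 40], [], [0, 2]⟩,
    ⟨2531, 4, [9, 44], [], [0, 2]⟩,
    ⟨2533, 4, [11, 44], [], [0, 2]⟩,
    ⟨1225, 4, [23, 26], [], [0, 2]⟩,
    ⟨1230, 2, [24, 25], [], [0, 2]⟩,
    ⟨1241, 1, [24, 30], [], [0, 2]⟩,
    ⟨1326, 3, [24, 30], [], [0, 2]⟩,
    ⟨1337, 1, [26, 30], [], [0, 2]⟩,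
    ⟨1577, 2, [26, 41], [], [0, 2]⟩,
    ⟨1625, 3, [31, 41], [0], []⟩,
    ⟨2542, 4, [23, 47], [], [0, 2]⟩,
    ⟨1473, 4, [28, 33], [0], []⟩,
    ⟨1474, 2, [29, 33], [0], []⟩,
    ⟨1475, 3, [29, 34], [0], []⟩,
    ⟨1477, 2, [29, 35], [], [0, 2]⟩,
    ⟨1813, 1, [29, 37], [0], []⟩,
    ⟨26, 0, [25, 25, 24], [0], [1, 0, 2, 1, 1]⟩,
    ⟨31, 2, [26, 26], [0], []⟩,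
    ⟨42, 1, [31, 31], [0], []⟩,
    ⟨24, 3, [24, 24], [0], []⟩,
    ⟨32, 3, [31, 31], [0], []⟩,
    ⟨43, 1, [32, 32], [0], []⟩,
    ⟨45, 2, [43, 43], [0], []⟩,
    ⟨46, 3, [45, 45], [0], []⟩,
    ⟨23, 4, [23, 23], [0], []⟩,
    ⟨21, 3, [21, 21], [0], []⟩,
    ⟨16, 2, [16, 16], [0], []⟩,
    ⟨5, 1, [5, 5], [0], []⟩,
    ⟨4, 3, [4, 4], [0], []⟩,
    ⟨15, 1, [4, 4], [0], []⟩,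
    ⟨2, 2, [2, 2], [0], []⟩,
    ⟨1, 3, [1, 1], [0], []⟩,
    ⟨0, 4, [0, 0], [0], []⟩,
    ⟨6, 4, [5, 5], [0], []⟩,
    ⟨17, 1, [6, 6], [0], []⟩,
    ⟨22, 2, [17, 17], [0], []⟩,
    ⟨25, 3, [22, 22], [0], []⟩,
    ⟨30, 2, [25, 25], [0], []⟩,
    ⟨41, 1, [30, 30], [0], []⟩,
    ⟨47, 4, [46, 46], [0], []⟩,
    ⟨34, 0, [33, 33, 27], [0], [1, 0, 2, 1, 1]⟩,
    ⟨27, 1, [27, 27], [0], []⟩,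
    ⟨20, 2, [20, 20], [0], []⟩,
    ⟨13, 1, [13, 13], [0], []⟩,
    ⟨14, 2, [13, 13], [0], []⟩,
    ⟨33, 1, [14, 14], [0], []⟩,
    ⟨12, 3, [12, 12], [0], []⟩,
    ⟨19, 1, [12, 12], [0], []⟩,
    ⟨10, 2, [10, 10], [0], []⟩,
    ⟨28, 3, [27, 27], [0], []⟩,
    ⟨35, 1, [28, 28], [0], []⟩,
    ⟨37, 2, [35, 35], [0], []⟩,
    ⟨9, 4, [9, 9], [0], []⟩,
    ⟨11, 2, [9, 9], [0], []⟩,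
    ⟨18, 1, [11, 11], [0], []⟩,
    ⟨8, 3, [8, 8], [0], []⟩,
    ⟨7, 2, [7, 7], [0], []⟩,
    ⟨3, 1, [3, 3], [0], []⟩,
    ⟨29, 4, [28, 28], [0], []⟩,
    ⟨36, 1, [29, 29], [0], []⟩,
    ⟨38, 2, [36, 36], [0], []⟩,
    ⟨39, 3, [38, 38], [0], []⟩,
    ⟨40, 2, [39, 39], [0], []⟩,
    ⟨44, 1, [40, 40], [0], []⟩,
    ⟨124, 1, [1, 28], [], [0, 3, 2]⟩,
    ⟨133, 2, [1, 35], [], [0, 3, 2]⟩]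

theorem rows10_ok : rowsOK tT sR cV rK 1000 rows10 = true := by decide +kernel

/-- Rows. -/
def rows11 : List Row :=
  [⟨171, 3, [1, 28], [], [0, 3, 2]⟩,
    ⟨178, 1, [2, 27], [], [0, 3, 2]⟩,
    ⟨260, 2, [2, 27], [], [0, 3, 2]⟩,
    ⟨273, 2, [2, 34], [], [0, 3, 2]⟩,
    ⟨181, 3, [1, 37], [], [0, 3, 2]⟩,
    ⟨275, 2, [2, 37], [], [0, 3, 2]⟩,
    ⟨796, 1, [4, 35], [], [0, 3, 2]⟩,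
    ⟨307, 3, [4, 20], [], [0, 3, 2]⟩,
    ⟨321, 3, [4, 33], [], [0, 3, 2]⟩,
    ⟨322, 2, [5, 33], [], [0, 3, 2]⟩,
    ⟨843, 1, [5, 34], [], [0, 3, 2]⟩,
    ⟨77, 4, [0, 29], [], [0, 3, 2]⟩,
    ⟨84, 1, [0, 29], [], [0, 3, 2]⟩,
    ⟨86, 2, [0, 36], [], [0, 3, 2]⟩,
    ⟨87, 3, [0, 38], [], [0, 3, 2]⟩,
    ⟨88, 2, [0, 39], [], [0, 3, 2]⟩,
    ⟨92, 1, [0, 40], [], [0, 3, 2]⟩,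
    ⟨135, 4, [0, 39], [], [0, 3, 2]⟩,
    ⟨136, 2, [1, 39], [], [0, 3, 2]⟩,
    ⟨140, 1, [1, 40], [], [0, 3, 2]⟩,
    ⟨182, 3, [1, 39], [], [0, 3, 2]⟩,
    ⟨276, 2, [2, 38], [], [0, 3, 2]⟩,
    ⟨797, 1, [4, 36], [], [0, 3, 2]⟩,
    ⟨184, 3, [1, 40], [], [0, 3, 2]⟩,
    ⟨188, 1, [2, 40], [], [0, 3, 2]⟩,
    ⟨279, 2, [2, 40], [], [0, 3, 2]⟩,
    ⟨807, 1, [4, 39], [], [0, 3, 2]⟩,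
    ⟨284, 2, [2, 44], [], [0, 3, 2]⟩,
    ⟨808, 1, [4, 44], [], [0, 3, 2]⟩,
    ⟨324, 3, [4, 36], [], [0, 3, 2]⟩,
    ⟨845, 1, [5, 36], [], [0, 3, 2]⟩,
    ⟨326, 2, [5, 36], [], [0, 3, 2]⟩,
    ⟨854, 1, [5, 38], [], [0, 3, 2]⟩,
    ⟨1085, 2, [16, 29], [], [0, 3, 2]⟩,
    ⟨1092, 1, [21, 29], [], [0, 3, 2]⟩,
    ⟨332, 3, [4, 44], [], [0, 3, 2]⟩,
    ⟨856, 1, [5, 44], [], [0, 3, 2]⟩,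
    ⟨1095, 2, [16, 40], [], [0, 3, 2]⟩,
    ⟨1181, 3, [21, 29], [], [0, 3, 2]⟩,
    ⟨1188, 1, [23, 29], [], [0, 3, 2]⟩,
    ⟨1190, 2, [23, 36], [], [0, 3, 2]⟩,
    ⟨354, 4, [5, 19], [], [0, 3, 2]⟩,
    ⟨369, 4, [5, 33], [], [0, 3, 2]⟩,
    ⟨370, 2, [6, 33], [], [0, 3, 2]⟩,
    ⟨891, 1, [6, 34], [], [0, 3, 2]⟩,
    ⟨371, 3, [6, 34], [], [0, 3, 2]⟩,
    ⟨892, 1, [6, 35], [], [0, 3, 2]⟩,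
    ⟨373, 2, [6, 35], [], [0, 3, 2]⟩,
    ⟨901, 1, [6, 37], [], [0, 3, 2]⟩,
    ⟨1132, 2, [17, 28], [], [0, 3, 2]⟩,
    ⟨1139, 1, [22, 28], [], [0, 3, 2]⟩,
    ⟨1275, 3, [22, 28], [], [0, 3, 2]⟩,
    ⟨1282, 1, [25, 27], [], [0, 3, 2]⟩,
    ⟨1521, 2, [25, 34], [0, 2], [2]⟩,
    ⟨380, 4, [5, 44], [], [0, 3, 2]⟩,
    ⟨904, 1, [6, 44], [], [0, 3, 2]⟩,
    ⟨1143, 2, [17, 40], [], [0, 3, 2]⟩,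
    ⟨1286, 3, [22, 39], [], [0, 3, 2]⟩,
    ⟨1524, 2, [25, 38], [], [0, 3, 2]⟩,
    ⟨1228, 4, [23, 29], [], [0, 3, 2]⟩,
    ⟨1235, 1, [24, 28], [], [0, 3, 2]⟩,
    ⟨1237, 2, [24, 35], [], [0, 3, 2]⟩,
    ⟨1323, 3, [24, 28], [0, 2], [2]⟩,
    ⟨1330, 1, [26, 27], [], [0, 3, 2]⟩,
    ⟨1569, 2, [26, 34], [0, 2], [2]⟩,
    ⟨1333, 3, [24, 37], [], [0, 3, 2]⟩,
    ⟨1571, 2, [26, 37], [], [0, 3, 2]⟩,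
    ⟨1617, 3, [31, 33], [0, 2], [2]⟩,
    ⟨1618, 2, [32, 33], [0, 2], [2]⟩,
    ⟨687, 1, [4, 20], [], [0, 2, 3, 2]⟩,
    ⟨735, 2, [13, 15], [0, 2], [2]⟩,
    ⟨640, 3, [12, 16], [0, 2], [2]⟩,
    ⟨549, 2, [10, 21], [0, 2], [2]⟩,
    ⟨551, 3, [10, 21], [0, 2], [2]⟩,
    ⟨647, 2, [10, 23], [0, 2], [2]⟩,
    ⟨983, 1, [12, 23], [0, 2], [2]⟩,
    ⟨693, 3, [12, 23], [0, 2], [2]⟩,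
    ⟨1029, 1, [13, 21], [0, 2], [2]⟩,
    ⟨736, 2, [13, 21], [0, 2], [2]⟩,
    ⟨502, 4, [9, 22], [0, 2], [2]⟩,
    ⟨593, 2, [9, 22], [0, 2], [2]⟩,
    ⟨457, 3, [8, 25], [0, 2], [2]⟩,
    ⟨414, 2, [7, 30], [0, 2], [2]⟩,
    ⟨233, 1, [3, 41], [], [0, 3, 2]⟩,
    ⟨234, 4, [3, 41], [], [0, 3, 2]⟩,
    ⟨415, 1, [3, 42], [], [0, 3, 2]⟩,
    ⟨458, 2, [7, 31], [0, 2], [2]⟩,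
    ⟨235, 3, [3, 42], [], [0, 3, 2]⟩,
    ⟨416, 1, [3, 43], [], [0, 3, 2]⟩,
    ⟨237, 2, [3, 43], [], [0, 3, 2]⟩,
    ⟨429, 1, [3, 45], [], [0, 3, 2]⟩,
    ⟨464, 2, [7, 32], [], [0, 3, 2]⟩,
    ⟨475, 1, [8, 32], [], [0, 3, 2]⟩,
    ⟨238, 3, [3, 45], [], [0, 3, 2]⟩,
    ⟨430, 1, [3, 46], [], [0, 3, 2]⟩,
    ⟨478, 2, [7, 46], [], [0, 3, 2]⟩,
    ⟨504, 3, [8, 26], [0, 2], [2]⟩,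
    ⟨600, 2, [9, 24], [0, 2], [2]⟩,
    ⟨936, 1, [11, 24], [0, 2], [2]⟩,
    ⟨511, 3, [8, 32], [], [0, 3, 2]⟩]

theorem rows11_ok : rowsOK tT sR cV rK 1100 rows11 = true := by decide +kernel

/-- Rows. -/
def rows12 : List Row :=
  [⟨522, 1, [9, 31], [], [0, 3, 2]⟩,
    ⟨602, 2, [9, 31], [0, 2], [2]⟩,
    ⟨938, 1, [11, 26], [0, 2], [2]⟩,
    ⟨618, 2, [9, 42], [], [0, 3, 2]⟩,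
    ⟨943, 1, [11, 42], [0, 2], [2]⟩,
    ⟨525, 3, [8, 46], [], [0, 3, 2]⟩,
    ⟨619, 2, [9, 45], [], [0, 3, 2]⟩,
    ⟨944, 1, [11, 43], [], [0, 3, 2]⟩,
    ⟨239, 4, [3, 46], [], [0, 3, 2]⟩,
    ⟨431, 1, [3, 47], [], [0, 3, 2]⟩,
    ⟨479, 2, [7, 47], [], [0, 3, 2]⟩,
    ⟨527, 3, [8, 47], [], [0, 3, 2]⟩,
    ⟨623, 2, [9, 47], [], [0, 3, 2]⟩,
    ⟨959, 1, [11, 47], [], [0, 3, 2]⟩,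
    ⟨558, 4, [9, 31], [], [0, 3, 2]⟩,
    ⟨569, 1, [10, 30], [], [0, 3, 2]⟩,
    ⟨649, 2, [10, 30], [0, 2], [2]⟩,
    ⟨985, 1, [12, 25], [0, 2], [2]⟩,
    ⟨665, 2, [10, 41], [], [0, 3, 2]⟩,
    ⟨990, 1, [12, 41], [0, 2], [2]⟩,
    ⟨694, 3, [12, 25], [0, 2], [2]⟩,
    ⟨1030, 1, [13, 22], [0, 2], [2]⟩,
    ⟨737, 2, [13, 22], [0, 2], [2]⟩,
    ⟨713, 3, [12, 41], [], [0, 3, 2]⟩,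
    ⟨1038, 1, [13, 41], [0, 2], [2]⟩,
    ⟨761, 2, [13, 41], [], [0, 3, 2]⟩,
    ⟨573, 4, [9, 45], [], [0, 3, 2]⟩,
    ⟨667, 2, [10, 45], [], [0, 3, 2]⟩,
    ⟨992, 1, [12, 43], [], [0, 3, 2]⟩,
    ⟨574, 3, [10, 45], [], [0, 3, 2]⟩,
    ⟨670, 2, [10, 46], [], [0, 3, 2]⟩,
    ⟨1006, 1, [12, 46], [], [0, 3, 2]⟩,
    ⟨714, 3, [12, 43], [], [0, 3, 2]⟩,
    ⟨1039, 1, [13, 42], [], [0, 3, 2]⟩,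
    ⟨762, 2, [13, 42], [], [0, 3, 2]⟩,
    ⟨717, 3, [12, 46], [], [0, 3, 2]⟩,
    ⟨1053, 1, [13, 45], [], [0, 3, 2]⟩,
    ⟨763, 2, [13, 45], [], [0, 3, 2]⟩,
    ⟨1387, 2, [20, 45], [], [0, 3, 2]⟩,
    ⟨1434, 3, [27, 43], [], [0, 3, 2]⟩,
    ⟨1481, 4, [28, 42], [0, 2], [2]⟩]

theorem rows12_ok : rowsOK tT sR cV rK 1200 rows12 = true := by decide +kernel

/-- A row whose total is two. -/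
def closeRow : Row :=
  ⟨0, 0, [28, 28, 24], [0], [1, 0, 3, 2, 1, 2, 1, 1]⟩

end Cfsg.Agent.Chev.F4Two
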